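import Groth.Agent.H25.Node.Properties

/-!
The algebraic description of nodes: reduced, two generators, a nondegenerate quadratic relation.
-/

set_option autoImplicit false
set_option linter.style.haveILetI false
universe u

namespace Groth.Agent.H25.Node.Algebraic

open IsLocalRing
open Lib.Henselian.StrictHenselization (StrictHenselization)
open scoped nonZeroDivisors

/-- A flat complete extension with separably closed coefficient field and trivial closed fibre. -/
theorem exists_completion (k A : Type u) [Field k] [CommRing A] [IsLocalRing A] [IsNoetherianRing A]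
    [Algebra k A] [Algebra.FormallySmooth k (ResidueField A)] :
    ∃ (C : Type u) (_ : CommRing C) (_ : IsLocalRing C) (_ : IsNoetherianRing C)
      (_ : IsAdicComplete (maximalIdeal C) C) (_ : Algebra A C) (_ : IsLocalHom (algebraMap A C))
      (_ : Module.Flat A C) (K : Type u) (_ : Field K) (_ : IsSepClosed K) (_ : Algebra K C),
      Function.Surjective ((residue C).comp (algebraMap K C)) ∧
        (maximalIdeal A).map (algebraMap A C) = maximalIdeal C := by
  let B := StrictHenselization A
  haveI : IsNoetherianRing B := Lib.Henselian.Permanence.strict_isNoetherianRing A B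
  haveI := Lib.Henselian.StrictHenselization.faithfullyFlat A B
  have hmB := Lib.Henselian.StrictHenselization.map_maximalIdeal A B
  haveI hsepB : Algebra.IsSeparable (ResidueField A) (ResidueField B) :=
    AlgEquiv.Algebra.isSeparable (Lib.Henselian.StrictHenselization.residueAlgEquiv A).symm
  haveI : IsSepClosed (ResidueField B) :=
    Lib.Henselian.StrictHenselization.isSepClosed_of_ringEquiv
      (Lib.Henselian.StrictHenselization.residueEquiv A).symm
  let C := AdicCompletion (maximalIdeal B) B
  have hneB : maximalIdeal B ≠ ⊤ := (maximalIdeal.isMaximal B).ne_top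
  letI : Algebra k C :=
    ((algebraMap B C).comp ((algebraMap A B).comp (algebraMap k A))).toAlgebra
  haveI := Lib.Regular.Completion.isLocalHom (maximalIdeal B) hneB
  haveI : IsLocalHom (algebraMap A C) := by
    rw [IsScalarTower.algebraMap_eq A B C]
    exact RingHom.isLocalHom_comp (algebraMap B C) (algebraMap A B)
  haveI : IsScalarTower k A C := IsScalarTower.of_algebraMap_eq fun _ => rfl
  haveI : IsScalarTower k (ResidueField A) (ResidueField C) := IsScalarTower.of_algebraMap_eq fun x => by
    show residue C (algebraMap k C x) = algebraMap (ResidueField A) (ResidueField C) (residue A (algebraMap k A x))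
    rfl
  have hbij : Function.Bijective (ResidueField.map (algebraMap B C)) :=
    AdicCompletion.residueField_map_bijective (R := B)
  let eBC : ResidueField B ≃ₐ[ResidueField A] ResidueField C :=
    AlgEquiv.ofRingEquiv (f := RingEquiv.ofBijective _ hbij) fun z => by
      obtain ⟨z, rfl⟩ := residue_surjective z
      rfl
  haveI : Algebra.IsSeparable (ResidueField A) (ResidueField C) := AlgEquiv.Algebra.isSeparable eBC
  haveI : Algebra.FormallyEtale (ResidueField A) (ResidueField C) :=
    Algebra.FormallyEtale.of_isSeparable _ _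
  haveI : Algebra.FormallySmooth k (ResidueField C) :=
    Algebra.FormallySmooth.comp k (ResidueField A) (ResidueField C)
  obtain ⟨σ, hσ⟩ := Coefficient.exists_section k C
  letI : Algebra (ResidueField C) C := σ.toRingHom.toAlgebra
  haveI : IsSepClosed (ResidueField C) :=
    Lib.Henselian.StrictHenselization.isSepClosed_of_ringEquiv (RingEquiv.ofBijective _ hbij)
  haveI : Module.Flat B C := AdicCompletion.flat_of_isNoetherian _
  haveI : Module.Flat A C := Module.Flat.trans A B C
  refine ⟨C, inferInstance, inferInstance, inferInstance, inferInstance, inferInstance, inferInstance,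
    inferInstance, ResidueField C, inferInstance, inferInstance, inferInstance,
    fun z => ⟨z, hσ z⟩, ?_⟩
  rw [IsScalarTower.algebraMap_eq A B C, ← Ideal.map_map, hmB]
  exact Lib.Regular.Completion.map_maximalIdeal (maximalIdeal B) hneB

/-- A node with formally smooth residue extension is reduced. -/
theorem isReduced (k A : Type u) [Field k] [CommRing A] [IsLocalRing A] [IsNoetherianRing A]
    [Algebra k A] [Algebra.FormallySmooth k (ResidueField A)] (h : IsNodal A) :
    IsReduced A ∧ ringKrullDim A = 1 := by
  obtain ⟨C, _, _, _, _, _, _, _, K, _, _, _, hK, hm⟩ := exists_completion k A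
  obtain ⟨hdim, ⟨e⟩⟩ := Properties.exists_cross K hK ((isNodal_iff A C hm).1 h)
  haveI : IsReduced C := isReduced_of_injective e.toRingHom e.injective
  haveI : Module.FaithfullyFlat A C := Module.FaithfullyFlat.of_flat_of_isLocalHom
  exact ⟨isReduced_of_injective (algebraMap A C) (FaithfulSMul.algebraMap_injective A C),
    (Lib.Regular.Descent.ringKrullDim_eq C hm).symm.trans hdim⟩

theorem exists_nzd {A : Type u} [CommRing A] [IsLocalRing A] [IsNoetherianRing A] [IsReduced A]
    (hne : maximalIdeal A ≠ ⊥) : ∃ x ∈ maximalIdeal A, x ∈ A⁰ := by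
  by_contra! hall
  have hsub : (maximalIdeal A : Set A) ⊆
      ⋃ p ∈ (minimalPrimes.finite_of_isNoetherianRing (R := A)).toFinset, (id p : Set A) := by
    intro x hx
    have := hall x hx
    rw [← SetLike.mem_coe] at this
    by_contra hnot
    apply this
    rw [SetLike.mem_coe, mem_nonZeroDivisors_iff_right]
    intro y hy
    have : y ∈ nilradical A := by
      rw [nilradical, ← Ideal.sInf_minimalPrimes, Ideal.mem_sInf]
      intro p hp
      refine (hp.1.1.mem_or_mem (hy.symm ▸ p.zero_mem)).resolve_right fun hxp => hnot ?_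
      exact Set.mem_biUnion ((Set.Finite.mem_toFinset _).2 hp) hxp
    exact (mem_nilradical.1 this).eq_zero
  obtain ⟨p, hp, hle⟩ := (Ideal.subset_union_prime ⊥ ⊥
    (fun p hp _ _ => ((Set.Finite.mem_toFinset _).1 hp).1.1)).1 hsub
  have hp' := (Set.Finite.mem_toFinset _).1 hp
  refine hne (le_bot_iff.1 fun z hz => ?_)
  have : z ∈ nilradical A := by
    rw [nilradical_eq_sInf, Ideal.mem_sInf]
    intro q hq
    exact (hle.trans (hp'.2 ⟨hq, bot_le⟩ ((le_maximalIdeal hq.ne_top).trans hle))) hz
  exact (Ideal.mem_bot).2 (mem_nilradical.1 this).eq_zero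

/-- Independence of the powers of two generators with `s t ∈ m³`. -/
theorem pow_not_mem {C : Type u} [CommRing C] [IsLocalRing C] [IsNoetherianRing C] {s t f : C}
    (hst : Ideal.span {s, t} = maximalIdeal C) (hq : s * t ∈ maximalIdeal C ^ 3)
    (hf : f ∈ maximalIdeal C) (hf0 : f ∈ C⁰)
    (hnp : ∀ z : C, maximalIdeal C ≠ Ideal.span {z})
    (n : ℕ) : s ^ (n + 1) ∉ Ideal.span {t ^ (n + 1)} ⊔ maximalIdeal C ^ (n + 2) := by
  intro hmem
  have hs := mem_left hst
  have ht := mem_right hst
  have h1 : s ^ (n + 2) ∈ maximalIdeal C ^ (n + 3) := by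
    obtain ⟨u, hu, w, hw, e⟩ := Submodule.mem_sup.1 hmem
    obtain ⟨c, rfl⟩ := Ideal.mem_span_singleton'.1 hu
    have e' : s ^ (n + 2) = c * ((s * t) * t ^ n) + w * s := by linear_combination (-s) * e
    rw [e']
    refine add_mem (Ideal.mul_mem_left _ _ ?_) ?_
    · rw [show n + 3 = 3 + n by ring, pow_add]
      exact Ideal.mul_mem_mul hq (Ideal.pow_mem_pow ht n)
    · rw [pow_succ _ (n + 2)]
      exact Ideal.mul_mem_mul hw hs
  have hfull : maximalIdeal C ^ (n + 2) ≤ Ideal.span {t ^ (n + 2)} ⊔ maximalIdeal C ^ (n + 3) := by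
    refine (pow_le_of_mid hst hq (n + 1)).trans (sup_le ?_ le_sup_right)
    rw [Ideal.span_le]
    rintro _ ⟨i, rfl⟩
    fin_cases i
    · exact Ideal.mem_sup_right h1
    · exact Ideal.mem_sup_left (Ideal.mem_span_singleton_self _)
  have heq : maximalIdeal C ^ (n + 2) ≤ Ideal.span {t ^ (n + 2)} := by
    refine Submodule.le_of_le_smul_of_le_jacobson_bot (IsNoetherian.noetherian _)
      (jacobson_eq_maximalIdeal ⊥ bot_ne_top).ge ?_
    rw [smul_eq_mul, ← pow_succ']
    exact hfull
  obtain ⟨c, hc⟩ := Ideal.mem_span_singleton'.1 (heq (Ideal.pow_mem_pow hf (n + 2)))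
  have hT : ∀ z, z * t ^ (n + 2) = 0 → z = 0 := fun z hz => by
    refine mem_nonZeroDivisors_iff_right.1 (pow_mem hf0 (n + 2)) z ?_
    rw [← hc, ← mul_assoc, mul_comm z c, mul_assoc, hz, mul_zero]
  obtain ⟨d, hd⟩ := Ideal.mem_span_singleton'.1 (heq (show t ^ (n + 1) * s ∈ _ from
    pow_succ (maximalIdeal C) (n + 1) ▸ Ideal.mul_mem_mul (Ideal.pow_mem_pow ht _) hs))
  have hs2 : s = d * t := sub_eq_zero.1 (hT _ (by linear_combination (-t) * hd))
  refine hnp t (le_antisymm ?_ ((Ideal.span_singleton_le_iff_mem _).2 ht))
  rw [← hst, Ideal.span_le, Set.insert_subset_iff, Set.singleton_subset_iff]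
  exact ⟨hs2 ▸ Ideal.mem_span_singleton'.2 ⟨d, rfl⟩, Ideal.mem_span_singleton_self _⟩

/-- A nonzerodivisor, two generators and a nondegenerate relation: a node. -/
theorem isNodal_of_nzd (k A : Type u) [Field k] [CommRing A] [IsLocalRing A] [IsNoetherianRing A]
    [Algebra k A] [Algebra.FormallySmooth k (ResidueField A)] {f : A} (hf : f ∈ maximalIdeal A) (hf0 : f ∈ A⁰)
    (hrk : Module.finrank (ResidueField A) (CotangentSpace A) = 2) {x y : A}
    (hxy : Ideal.span {x, y} = maximalIdeal A) {v : Fin 3 → A}
    (hv : quad v x y ∈ maximalIdeal A ^ 3) (hd : IsUnit (disc v)) : IsNodal A := by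
  obtain ⟨C, _, _, _, _, _, _, _, K, _, _, _, hK, hm⟩ := exists_completion k A
  have hlen2 : Module.length A (A ⧸ maximalIdeal A ^ 2) = (3 : ℕ) := by
    refine le_antisymm (length_le hxy hv hd 1) ?_
    generalize hl : Module.length A (A ⧸ maximalIdeal A ^ 2) = l
    induction l using ENat.recTopCoe with
    | top => exact le_top
    | coe l =>
      cases l with
      | zero =>
        exfalso
        haveI := Module.length_eq_zero_iff.1 hl
        exact (maximalIdeal.isMaximal A).ne_top (top_le_iff.1
          ((Ideal.Quotient.subsingleton_iff.1 ‹Subsingleton (A ⧸ maximalIdeal A ^ 2)›).ge.trans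
            (Ideal.pow_le_self two_ne_zero)))
      | succ l =>
        rw [finrank_cotangentSpace_eq (d := l) hl] at hrk
        subst hrk
        rfl
  have hxy' : Ideal.span {algebraMap A C x, algebraMap A C y} = maximalIdeal C := by
    rw [← hm, ← hxy, Ideal.map_span, Set.image_pair]
  have hv' : quad (algebraMap A C ∘ v) (algebraMap A C x) (algebraMap A C y) ∈ maximalIdeal C ^ 3 := by
    rw [← map_quad, ← hm, ← Ideal.map_pow]; exact Ideal.mem_map_of_mem _ hv
  have hd' : IsUnit (disc (algebraMap A C ∘ v)) := by rw [← map_disc]; exact hd.map _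
  have hf' : algebraMap A C f ∈ maximalIdeal C := hm ▸ Ideal.mem_map_of_mem _ hf
  have hf0' : algebraMap A C f ∈ C⁰ := by
    have hreg : IsSMulRegular C f :=
      Module.Flat.isSMulRegular_of_isRegular
        (isRegular_iff_mem_nonZeroDivisors.2 hf0)
    refine mem_nonZeroDivisors_iff_right.2 fun z hz => ?_
    exact hreg.right_eq_zero_of_smul (by rw [Algebra.smul_def, mul_comm]; exact hz)
  have hnp : ∀ z : C, maximalIdeal C ≠ Ideal.span {z} := fun z hz => by
    have h3 : Module.length C (C ⧸ maximalIdeal C ^ 2) = (3 : ℕ) := by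
      rw [length_pow A C hm 2, hlen2]
    have h2 := length_succ_le (A := C) (d := 1) (e := 1) ![z]
      (fun i => by fin_cases i; simpa [hz] using Ideal.mem_span_singleton_self z)
      (by rw [pow_one]; exact hz.le.trans (le_sup_of_le_left (by simp [Matrix.range_cons, Matrix.range_empty])))
    rw [h3] at h2
    haveI : IsSimpleModule C (C ⧸ maximalIdeal C) :=
      isSimpleModule_iff_isCoatom.2 (maximalIdeal.isMaximal C).1
    rw [pow_one, Module.length_eq_one] at h2
    norm_cast at h2
  refine (isNodal_iff A C hm).2 ?_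
  obtain ⟨s, t, hst, hq⟩ : ∃ s t : C, Ideal.span {s, t} = maximalIdeal C ∧ s * t ∈ maximalIdeal C ^ 3 :=
    Properties.exists_pair_of_rel K hK hxy' hv' hd'
  refine IsNodal.of_le hxy' hv' hd' fun n => ?_
  induction n with
  | zero =>
    rw [zero_add, pow_one]
    haveI : IsSimpleModule C (C ⧸ maximalIdeal C) :=
      isSimpleModule_iff_isCoatom.2 (maximalIdeal.isMaximal C).1
    simp [Module.length_eq_one]
  | succ n ih =>
    obtain ⟨φ, hφ, hl⟩ := exists_factor (e := n + 1) ![s ^ (n + 1), t ^ (n + 1)]
      (fun i => by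
        fin_cases i
        · exact Ideal.pow_mem_pow (mem_left hst) _
        · exact Ideal.pow_mem_pow (mem_right hst) _) (pow_le_of_mid hst hq n)
    have hinj : Function.Injective φ := by
      rw [injective_iff_map_eq_zero]
      intro w hw
      choose v hv using fun i => residue_surjective (w i)
      obtain rfl : w = residue C ∘ v := funext fun i => (hv i).symm
      rw [hφ, Ideal.Quotient.eq_zero_iff_mem] at hw
      simp only [Fin.sum_univ_two, Matrix.cons_val_zero, Matrix.cons_val_one] at hw
      have key : ∀ {s' t' : C}, Ideal.span {s', t'} = maximalIdeal C → s' * t' ∈ maximalIdeal C ^ 3 →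
          ∀ a b : C, a * s' ^ (n + 1) + b * t' ^ (n + 1) ∈ maximalIdeal C ^ (n + 2) →
          residue C a = 0 := fun {s' t'} h1 h2 a b hab => by
        by_contra ha
        obtain ⟨a', ha'⟩ := ((residue_ne_zero_iff_isUnit _).1 ha).exists_left_inv
        refine pow_not_mem h1 h2 hf' hf0' hnp n ?_
        have e : s' ^ (n + 1) = -(a' * b) * t' ^ (n + 1) +
            a' * (a * s' ^ (n + 1) + b * t' ^ (n + 1)) := by
          linear_combination (-s' ^ (n + 1)) * ha'
        rw [e]
        exact add_mem (Ideal.mem_sup_left (Ideal.mem_span_singleton'.2 ⟨_, rfl⟩))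
          (Ideal.mem_sup_right (Ideal.mul_mem_left _ _ hab))
      refine funext fun i => ?_
      fin_cases i
      · exact key hst hq (v 0) (v 1) hw
      · exact key (by rw [Set.pair_comm]; exact hst) (by rw [mul_comm]; exact hq) (v 1) (v 0)
          (add_comm (v 0 * s ^ (n + 1)) _ ▸ hw)
    rw [← hl]
    have h2 : ((2 : ℕ) : ℕ∞) ≤ Module.length C (LinearMap.range φ) := by
      rw [← length_residue_pi (A := C) 2]
      exact (LinearEquiv.ofInjective φ hinj).length_eq.le
    refine le_trans ?_ (add_le_add h2 ih)
    norm_cast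
    omega

/-- Reduced with two generators and a nondegenerate relation: a node. -/
theorem isNodal (k A : Type u) [Field k] [CommRing A] [IsLocalRing A] [IsNoetherianRing A]
    [Algebra k A] [Algebra.FormallySmooth k (ResidueField A)] [IsReduced A]
    (hrk : Module.finrank (ResidueField A) (CotangentSpace A) = 2) {x y : A}
    (hxy : Ideal.span {x, y} = maximalIdeal A) {v : Fin 3 → A}
    (hv : quad v x y ∈ maximalIdeal A ^ 3) (hd : IsUnit (disc v)) : IsNodal A := by
  obtain ⟨f, hf, hf0⟩ := exists_nzd (A := A) fun hbot => by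
    haveI : Subsingleton (CotangentSpace A) := by
      refine ⟨fun a b => ?_⟩
      obtain ⟨a, rfl⟩ := (maximalIdeal A).toCotangent_surjective a
      obtain ⟨b, rfl⟩ := (maximalIdeal A).toCotangent_surjective b
      congr 1
      exact Subtype.ext ((Ideal.mem_bot.1 (hbot.le a.2)).trans (Ideal.mem_bot.1 (hbot.le b.2)).symm)
    rw [Module.finrank_zero_of_subsingleton] at hrk
    omega
  exact isNodal_of_nzd k A hf hf0 hrk hxy hv hd

end Groth.Agent.H25.Node.Algebraic
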