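import Groth.Agent.H25.Node.Scheme
import Groth.Agent.Lib.Unram.StalkTower

/-! Nodes under étale maps and separable changes of the base field. -/

set_option autoImplicit false
set_option linter.style.haveILetI false
universe u
open CategoryTheory CategoryTheory.Limits AlgebraicGeometry

namespace Groth.Agent.H25.Node.Change

open IsLocalRing

theorem stalkMap_hom (k : Type u) [Field k] {X Y : Scheme.{u}} [X.Over (Spec (CommRingCat.of k))]
    (π : Y ⟶ X) (y : Y) :
    letI : Y.Over (Spec (CommRingCat.of k)) := ⟨π ≫ (X ↘ Spec (CommRingCat.of k))⟩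
    Curv2.stalkMap k Y y = (π.stalkMap y).hom.comp (Curv2.stalkMap k X (π y)) := by
  letI : Y.Over (Spec (CommRingCat.of k)) := ⟨π ≫ (X ↘ Spec (CommRingCat.of k))⟩
  have hs : CommRingCat.ofHom (Curv2.stalkMap k Y y) =
      CommRingCat.ofHom (Curv2.stalkMap k X (π y)) ≫ π.stalkMap y := Spec.map_injective (by
    rw [Spec.map_comp]
    erw [Lib.GeomConn.Residue.specMap_stalkMap k Y y, Lib.GeomConn.Residue.specMap_stalkMap k X (π y),
      Scheme.SpecMap_stalkMap_fromSpecStalk_assoc]
    rfl)
  exact congrArg CommRingCat.Hom.hom hs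

theorem stalkMap_restrict (k k' : Type u) [Field k] [Field k'] [Algebra k k'] {X : Scheme.{u}}
    [X.Over (Spec (CommRingCat.of k'))] (x : X) :
    letI o : X.Over (Spec (CommRingCat.of k)) :=
      ⟨(X ↘ Spec (CommRingCat.of k')) ≫ Spec.map (CommRingCat.ofHom (algebraMap k k'))⟩
    @Curv2.stalkMap k _ X o x = (Curv2.stalkMap k' X x).comp (algebraMap k k') := by
  letI o : X.Over (Spec (CommRingCat.of k)) :=
    ⟨(X ↘ Spec (CommRingCat.of k')) ≫ Spec.map (CommRingCat.ofHom (algebraMap k k'))⟩
  have hs : CommRingCat.ofHom (@Curv2.stalkMap k _ X o x) =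
      CommRingCat.ofHom (algebraMap k k') ≫ CommRingCat.ofHom (Curv2.stalkMap k' X x) :=
    Spec.map_injective (by
      rw [Spec.map_comp]
      erw [Lib.GeomConn.Residue.specMap_stalkMap k X x, Lib.GeomConn.Residue.specMap_stalkMap k' X x]
      rw [Category.assoc]
      rfl)
  exact congrArg CommRingCat.Hom.hom hs

variable (k A B : Type u) [Field k] [CommRing A] [IsLocalRing A] [CommRing B] [IsLocalRing B]
  [Algebra k A] [Algebra k B] [Algebra A B] [IsScalarTower k A B] [IsLocalHom (algebraMap A B)]

instance isScalarTower_residueField : IsScalarTower k (ResidueField A) (ResidueField B) :=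
  IsScalarTower.of_algebraMap_eq fun c => by
    show residue B (algebraMap k B c) = ResidueField.map (algebraMap A B) (residue A (algebraMap k A c))
    rw [ResidueField.map_residue, ← IsScalarTower.algebraMap_apply k A B]

theorem finite_iff [Module.Finite (ResidueField A) (ResidueField B)] :
    FiniteDimensional k (ResidueField A) ↔ FiniteDimensional k (ResidueField B) :=
  ⟨fun _ => Module.Finite.trans (ResidueField A) _, fun _ => FiniteDimensional.left k (ResidueField A) (ResidueField B)⟩

theorem separable_iff [Algebra.IsSeparable (ResidueField A) (ResidueField B)] :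
    Algebra.IsSeparable k (ResidueField A) ↔ Algebra.IsSeparable k (ResidueField B) :=
  ⟨fun _ => Algebra.IsSeparable.trans k (ResidueField A) _,
    fun _ => Algebra.isSeparable_tower_bot_of_isSeparable k (ResidueField A) (ResidueField B)⟩

end Groth.Agent.H25.Node.Change
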