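import Groth.Agent.H25.Node.Scheme
import Mathlib.AlgebraicGeometry.Morphisms.Integral
import Mathlib.RingTheory.Spectrum.Prime.Topology

/-! Nodes and extensions of the base field. -/

set_option autoImplicit false
set_option linter.style.haveILetI false
universe u
open CategoryTheory CategoryTheory.Limits AlgebraicGeometry

attribute [local instance] Curv2.stalkAlgebra

namespace Groth.Agent.H25.Node.FieldExt

open IsLocalRing Groth.Agent.H52.FBase Groth.Agent.Lib.Unram

/-- A local ring with a unique prime is geometrically unibranch. -/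
theorem isGeomUnibranch_of_dim_zero (A : Type u) [CommRing A] [IsLocalRing A]
    [hA : Ring.KrullDimLE 0 A] : CAlg2.IsGeomUnibranch A := by
  rw [← OneBranch.numGeomBranches_eq_one_iff]
  have hmin : minimalPrimes A = {maximalIdeal A} := by
    ext P
    refine ⟨fun hP => ?_, ?_⟩
    · exact IsLocalRing.eq_maximalIdeal (Ideal.IsPrime.isMaximal' hP.1.1)
    · rintro rfl
      exact ⟨⟨(maximalIdeal.isMaximal A).isPrime, bot_le⟩, fun Q hQ _ =>
        (IsLocalRing.eq_maximalIdeal (Ideal.IsPrime.isMaximal' hQ.1)).ge⟩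
  have hfin : (minimalPrimes A).Finite := hmin ▸ Set.finite_singleton _
  rw [Branch.Sum.numGeomBranches_eq_card A hfin, ENat.card_eq_one_iff_unique]
  have hall : ∀ Q : minimalPrimes A, Function.Bijective
      (algebraMap (A ⧸ Q.1) (Branch.Sum.Nrm A Q.1)) := fun Q => by
    haveI := Q.2.1.1
    haveI : Q.1.IsMaximal := Ideal.IsPrime.isMaximal' Q.2.1.1
    letI : Field (A ⧸ Q.1) := Ideal.Quotient.field Q.1
    refine ⟨fun a b h => IsFractionRing.injective (A ⧸ Q.1) (FractionRing (A ⧸ Q.1))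
      (congrArg Subtype.val h), fun z => ?_⟩
    obtain ⟨a, b, hb, hz⟩ := IsFractionRing.div_surjective (A := A ⧸ Q.1) (z : FractionRing (A ⧸ Q.1))
    exact ⟨a / b, Subtype.ext ((map_div₀ (algebraMap (A ⧸ Q.1) (FractionRing (A ⧸ Q.1))) a b).trans hz)⟩
  refine ⟨@uniqueOfSubsingleton _ ⟨fun a b => ?_⟩ ?_⟩
  · obtain ⟨Q, τ, hτ⟩ := a
    obtain ⟨Q', σ, hσ⟩ := b
    obtain rfl : Q = Q' := Subtype.ext
      ((hmin ▸ Q.2 : Q.1 ∈ ({maximalIdeal A} : Set (Ideal A))).trans
        (hmin ▸ Q'.2 : Q'.1 ∈ ({maximalIdeal A} : Set (Ideal A))).symm)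
    refine congrArg _ (Subtype.ext (RingHom.ext fun z => ?_))
    obtain ⟨w, rfl⟩ := (hall Q).2 z
    obtain ⟨a, rfl⟩ := Ideal.Quotient.mk_surjective w
    exact RingHom.congr_fun (hτ.trans hσ.symm) a
  · let Q : minimalPrimes A := ⟨maximalIdeal A, hmin ▸ Set.mem_singleton _⟩
    refine Nonempty.some ⟨⟨Q, ?_⟩⟩
    let e := RingEquiv.ofBijective _ (hall Q)
    have hl : ∀ a ∈ Q.1, Brnch.toClosure A a = 0 := fun a ha => by
      show algebraMap (ResidueField A) _ (residue A a) = 0
      rw [(residue_eq_zero_iff a).2 ha, map_zero]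
    refine ⟨(Ideal.Quotient.lift Q.1 (Brnch.toClosure A) hl).comp e.symm.toRingHom, ?_⟩
    refine RingHom.ext fun a => ?_
    show (Ideal.Quotient.lift Q.1 (Brnch.toClosure A) hl) (e.symm (e (Ideal.Quotient.mk Q.1 a))) = _
    rw [e.symm_apply_apply, Ideal.Quotient.lift_mk]

variable (k : Type u) [Field k] (X : Scheme.{u}) [X.Over (Spec (CommRingCat.of k))]
  [LocallyOfFiniteType (X ↘ Spec (CommRingCat.of k))]

omit [LocallyOfFiniteType (X ↘ Spec (CommRingCat.of k))] in
/-- Geometric unibranchness is preserved in the fibres of a change of base field. -/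
theorem isGeomUnibranch_fibre (K : Type u) [Field K] [Algebra k K] (xb : Curv2.bc k X K)
    (h : CAlg2.IsGeomUnibranch (X.presheaf.stalk (Curv2.bcFst k X K xb))) :
    CAlg2.IsGeomUnibranch ((Curv2.bc k X K).presheaf.stalk xb) := by
  set f := X ↘ Spec (CommRingCat.of k) with hf
  set x := Curv2.bcFst k X K xb with hxdef
  obtain ⟨q, hq⟩ := StalkBC.exists_j_eq f x K xb (specializes_refl _)
  have hqmax := (StalkBC.j_π_eq_iff f x K q).1 (hq.symm ▸ rfl)
  let e : (Curv2.bc k X K).presheaf.stalk xb ≃+*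
      Localization.AtPrime (PrimeSpectrum.asIdeal (R := TensorProduct k (StalkBC.Ox f x) K) q) :=
    ((Curv2.bc k X K).presheaf.stalkCongr (.of_eq hq.symm)).commRingCatIsoToRingEquiv.trans
      (StalkBC.stalkEquiv f x K q)
  exact Branch.Unibranch.congr e.symm ((Branch.Unibranch.isGeomUnibranch_iff k (StalkBC.Ox f x) K _
    hqmax).1 (Branch.Unibranch.congr (Sch.stalkId f x).symm h))

/-- In a curve, non-closed points are geometrically unibranch. -/
theorem isGeomUnibranch_of_not_isClosed (hdim : topologicalKrullDim X ≤ 1) (x : X)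
    (hx : ¬ IsClosed ({x} : Set X)) : CAlg2.IsGeomUnibranch (X.presheaf.stalk x) := by
  obtain ⟨z, hz, hzx⟩ : ∃ z, x ⤳ z ∧ z ≠ x := by
    by_contra hc
    push Not at hc
    exact hx (isClosed_of_closure_subset fun z hz => hc z (specializes_iff_mem_closure.2 hz))
  haveI : Ring.KrullDimLE 0 (X.presheaf.stalk x) := by
    rw [Ring.krullDimLE_zero_iff]
    intro P hP
    by_contra hmax
    let z₀ := X.fromSpecStalk x ⟨P, hP⟩
    have hz₀ : z₀ ⤳ x := by
      have : z₀ ∈ Set.range (X.fromSpecStalk x) := ⟨_, rfl⟩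
      rwa [Scheme.range_fromSpecStalk] at this
    have hz₀x : z₀ ≠ x := fun e => hmax (by
      have h1 : (⟨P, hP⟩ : Spec (X.presheaf.stalk x)) = IsLocalRing.closedPoint (X.presheaf.stalk x) :=
        (X.fromSpecStalk x).isEmbedding.injective (e.trans X.fromSpecStalk_closedPoint.symm)
      rw [show P = maximalIdeal _ from congrArg PrimeSpectrum.asIdeal h1]
      exact maximalIdeal.isMaximal _)
    let C : X → TopologicalSpace.IrreducibleCloseds X := fun a =>
      ⟨closure {a}, isIrreducible_singleton.closure, isClosed_closure⟩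
    have hlt : ∀ a b : X, a ⤳ b → b ≠ a → C b < C a := fun a b hab hne => by
      refine lt_of_le_of_ne (closure_minimal (Set.singleton_subset_iff.2
        (specializes_iff_mem_closure.1 hab)) isClosed_closure) fun e => hne ?_
      have hba : b ⤳ a := specializes_iff_mem_closure.2
        ((congrArg (fun c : TopologicalSpace.IrreducibleCloseds X => (c : Set X)) e).ge
          (subset_closure rfl))
      exact (hba.antisymm hab).eq
    let s : LTSeries (TopologicalSpace.IrreducibleCloseds X) :=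
      LTSeries.mk 2 ![C z, C x, C z₀] (Fin.strictMono_iff_lt_succ.2 fun i => by
        fin_cases i
        · exact hlt x z hz hzx
        · exact hlt z₀ x hz₀ (Ne.symm hz₀x))
    have h2 := Order.LTSeries.length_le_krullDim s
    have h3 : (s.length : WithBot ℕ∞) ≤ 1 := h2.trans hdim
    have h4 : (2 : WithBot ℕ∞) ≤ 1 := h3
    exact absurd h4 (by decide)
  exact isGeomUnibranch_of_dim_zero _

omit [LocallyOfFiniteType (X ↘ Spec (CommRingCat.of k))] in
/-- A point of `(X_K)_{K'}` as a point of `X_{K'}`. -/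
theorem exists_iso (K K' : Type u) [Field K] [Algebra k K] [Field K'] [Algebra k K'] [Algebra K K']
    [IsScalarTower k K K'] :
    letI : (Curv2.bc k X K).Over (Spec (CommRingCat.of K)) := ⟨Curv2.bcSnd k X K⟩
    ∃ φ : Curv2.bc K (Curv2.bc k X K) K' ≅ Curv2.bc k X K',
      φ.hom ≫ Curv2.bcFst k X K' = Curv2.bcFst K (Curv2.bc k X K) K' ≫ Curv2.bcFst k X K := by
  letI : (Curv2.bc k X K).Over (Spec (CommRingCat.of K)) := ⟨Curv2.bcSnd k X K⟩
  have h : Spec.map (CommRingCat.ofHom (algebraMap K K')) ≫ Spec.map (CommRingCat.ofHom (algebraMap k K)) =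
      Spec.map (CommRingCat.ofHom (algebraMap k K')) := by
    rw [← Spec.map_comp, ← CommRingCat.ofHom_comp, ← IsScalarTower.algebraMap_eq]
  refine ⟨pullbackLeftPullbackSndIso _ _ _ ≪≫ pullback.congrHom rfl h, ?_⟩
  show (pullbackLeftPullbackSndIso _ _ _ ≪≫ pullback.congrHom rfl h).hom ≫ pullback.fst _ _ = _
  rw [Iso.trans_hom, Category.assoc, pullback.congrHom_hom, pullback.map, pullback.lift_fst,
    Category.comp_id, pullbackLeftPullbackSndIso_hom_fst]
  rfl

set_option maxHeartbeats 800000 in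
/-- **Nodes do not depend on the base field.** -/
theorem isNode_iff_bc (hdim : topologicalKrullDim X ≤ 1) (K : Type u) [Field K] [Algebra k K]
    (y : Curv2.bc k X K) :
    letI : (Curv2.bc k X K).Over (Spec (CommRingCat.of K)) := ⟨Curv2.bcSnd k X K⟩
    (Curv2.IsNode k X (Curv2.bcFst k X K y) ↔ Curv2.IsNode K (Curv2.bc k X K) y) := by
  letI oK : (Curv2.bc k X K).Over (Spec (CommRingCat.of K)) := ⟨Curv2.bcSnd k X K⟩
  haveI : LocallyOfFiniteType ((Curv2.bc k X K) ↘ Spec (CommRingCat.of K)) :=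
    inferInstanceAs (LocallyOfFiniteType (Curv2.bcSnd k X K))
  let K' := AlgebraicClosure K
  haveI : IsLocallyNoetherian X :=
    LocallyOfFiniteType.isLocallyNoetherian (X ↘ Spec (CommRingCat.of k))
  haveI : IsLocallyNoetherian (Curv2.bc k X K') :=
    LocallyOfFiniteType.isLocallyNoetherian (Curv2.bcSnd k X K')
  letI : (Curv2.bc K (Curv2.bc k X K) K').Over (Spec (CommRingCat.of K')) :=
    ⟨Curv2.bcSnd K (Curv2.bc k X K) K'⟩
  haveI : LocallyOfFiniteType (Curv2.bc K (Curv2.bc k X K) K' ↘ Spec (CommRingCat.of K')) :=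
    inferInstanceAs (LocallyOfFiniteType (Curv2.bcSnd K (Curv2.bc k X K) K'))
  haveI : IsLocallyNoetherian (Curv2.bc K (Curv2.bc k X K) K') :=
    LocallyOfFiniteType.isLocallyNoetherian (Curv2.bcSnd K (Curv2.bc k X K) K')
  obtain ⟨z, hz, -⟩ := Scheme.Pullback.exists_preimage_pullback
    (f := (Curv2.bc k X K) ↘ Spec (CommRingCat.of K))
    (g := Spec.map (CommRingCat.ofHom (algebraMap K K'))) y
    (IsLocalRing.closedPoint K') (Subsingleton.elim _ _)
  obtain ⟨φ, hφ⟩ := exists_iso k X K K'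
  have hxb : Curv2.bcFst k X K' (φ.hom z) = Curv2.bcFst k X K y := by
    rw [← hz]
    exact congrArg (fun m : Curv2.bc K (Curv2.bc k X K) K' ⟶ X => m z) hφ
  let e : (Curv2.bc k X K').presheaf.stalk (φ.hom z) ≃+*
      (Curv2.bc K (Curv2.bc k X K) K').presheaf.stalk z :=
    (asIso (φ.hom.stalkMap z)).commRingCatIsoToRingEquiv
  haveI : IsIntegralHom (Spec.map (CommRingCat.ofHom (algebraMap K K'))) :=
    (IsIntegralHom.SpecMap_iff).2 (algebraMap_isIntegral_iff.2 inferInstance)
  rw [Sch.isNode_iff, Sch.isNode_iff]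
  constructor
  · rintro ⟨hx, h⟩
    obtain ⟨hcl, hxbiff⟩ := Sch.fibre_isNodal k X K' _ hx (φ.hom z) hxb
    have hzn := Quadratic.isNodal_of_ringEquiv e (hxbiff.2 h)
    have hzc : IsClosed ({z} : Set (Curv2.bc K (Curv2.bc k X K) K')) := by
      have := hcl.preimage φ.hom.continuous
      convert this using 1
      ext w
      exact ⟨fun hw => congrArg φ.hom hw, fun hw => φ.hom.isOpenEmbedding.injective hw⟩
    have hy : IsClosed ({y} : Set (Curv2.bc k X K)) := by
      rw [← hz, ← Set.image_singleton]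
      exact (Curv2.bcFst K (Curv2.bc k X K) K').isClosedMap _ hzc
    exact ⟨hy, (Sch.fibre_isNodal K (Curv2.bc k X K) K' y hy z hz).2.1 hzn⟩
  · rintro ⟨hy, h⟩
    obtain ⟨hcl, hziff⟩ := Sch.fibre_isNodal K (Curv2.bc k X K) K' y hy z hz
    have hzn := hziff.2 h
    have hn : IsNodal ((Curv2.bc k X K').presheaf.stalk (φ.hom z)) :=
      Quadratic.isNodal_of_ringEquiv e.symm hzn
    have hx : IsClosed ({Curv2.bcFst k X K y} : Set X) := by
      by_contra hne
      have h1 : CAlg2.IsGeomUnibranch (X.presheaf.stalk (Curv2.bcFst k X K' (φ.hom z))) := by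
        rw [hxb]; exact isGeomUnibranch_of_not_isClosed X hdim _ hne
      exact Fibre.not_isGeomUnibranch K' (Sch.residue_surjective K' _ z hcl) hzn
        (Branch.Unibranch.congr e (isGeomUnibranch_fibre k X K' _ h1))
    exact ⟨hx, (Sch.fibre_isNodal k X K' _ hx (φ.hom z) hxb).2.1 hn⟩

end Groth.Agent.H25.Node.FieldExt
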