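import Groth.Agent.H25.Node.SmoothPoint
import Groth.Agent.H25.Node.Algebraic
import Groth.Agent.H25.Node.FieldExt
import Groth.Agent.H25.Node.Change
import Groth.Agent.Lib.WeilExt.Basic
import Groth.Agent.Lib.ActSep.MaxPt
import Groth.Agent.S2535
import Groth.Agent.S1549
import Groth.Agent.S10831

/-! Schemes over a field with at worst nodal singularities. -/

set_option autoImplicit false
set_option linter.style.haveILetI false
universe u
open CategoryTheory CategoryTheory.Limits AlgebraicGeometry

attribute [local instance] Curv2.stalkAlgebra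

namespace Groth.Agent.H25.Node.AtWorst

open IsLocalRing

variable (k : Type u) [Field k] (X : Scheme.{u}) [X.Over (Spec (CommRingCat.of k))]
  [LocallyOfFiniteType (X ↘ Spec (CommRingCat.of k))]

instance lfp : LocallyOfFinitePresentation (X ↘ Spec (CommRingCat.of k)) :=
  Lib.JacCrit.OverField.locallyOfFinitePresentation _

/-- Having a smooth neighbourhood is being in the smooth locus. -/
theorem exists_smooth_iff (x : X) :
    (∃ U : X.Opens, x ∈ U ∧ Smooth (U.ι ≫ (X ↘ Spec (CommRingCat.of k)))) ↔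
      x ∈ (X ↘ Spec (CommRingCat.of k)).smoothLocus := by
  set f := X ↘ Spec (CommRingCat.of k)
  constructor
  · rintro ⟨U, hxU, hU⟩
    haveI := hU
    have h : (⟨x, hxU⟩ : (U : Scheme.{u})) ∈ U.ι ⁻¹ᵁ f.smoothLocus := by
      rw [Scheme.Hom.preimage_smoothLocus_eq, Scheme.Hom.smoothLocus_eq_top]; trivial
    exact h
  · intro hx
    refine ⟨f.smoothLocus, hx, ?_⟩
    rw [← Scheme.Hom.smoothLocus_eq_top_iff, ← Scheme.Hom.preimage_smoothLocus_eq,
      Scheme.Opens.ι_preimage_self]

theorem regular_of_smooth {x : X} (hx : x ∈ (X ↘ Spec (CommRingCat.of k)).smoothLocus) :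
    IsRegularLocalRing (X.presheaf.stalk x) :=
  Lib.JacCrit.OverField.isRegularLocalRing_stalk _ x hx

/-- The stalks of nodes are reduced of dimension one. -/
theorem node_props {x : X} (h : Curv2.IsNode k X x) :
    _root_.IsReduced (X.presheaf.stalk x) ∧ ringKrullDim (X.presheaf.stalk x) = 1 := by
  haveI : IsLocallyNoetherian X :=
    LocallyOfFiniteType.isLocallyNoetherian (X ↘ Spec (CommRingCat.of k))
  obtain ⟨-, hsep, hn⟩ := (Sch.isNode_iff k X x).1 h
  haveI := hsep
  haveI : Algebra.FormallyEtale k (ResidueField (X.presheaf.stalk x)) :=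
    Algebra.FormallyEtale.of_isSeparable k _
  exact Algebraic.isReduced k (X.presheaf.stalk x) hn

/-- At worst nodal schemes are reduced. -/
theorem isReduced (hX : Curv2.AtWorstNodal k X) : AlgebraicGeometry.IsReduced X := by
  haveI : JacobsonSpace X := LocallyOfFiniteType.jacobsonSpace (X ↘ Spec (CommRingCat.of k))
  haveI : IsLocallyNoetherian X :=
    LocallyOfFiniteType.isLocallyNoetherian (X ↘ Spec (CommRingCat.of k))
  have hred : ∀ y : X, IsClosed ({y} : Set X) → _root_.IsReduced (X.presheaf.stalk y) := fun y hy => by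
    rcases hX y hy with h | h
    · haveI := regular_of_smooth k X ((exists_smooth_iff k X y).1 h)
      haveI := Lib.Regular.Quotient.isDomain (X.presheaf.stalk y)
      infer_instance
    · exact (node_props k X h).1
  refine ⟨fun U => ⟨fun s hs => ?_⟩⟩
  refine TopCat.Presheaf.section_ext X.sheaf U s 0 fun z hz => ?_
  by_contra hne
  let T : Set X := {w | ∃ hw : w ∈ U, X.presheaf.germ U w hw s = 0}
  have hT : IsOpen T := by
    refine isOpen_iff_forall_mem_open.2 fun w ⟨hw, hw0⟩ => ?_
    rw [← map_zero (X.presheaf.germ U w hw).hom] at hw0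
    obtain ⟨W, hwW, iU, iV, e⟩ := X.presheaf.germ_eq w hw hw s 0 hw0
    refine ⟨W, fun w' hw' => ⟨iU.le hw', ?_⟩, W.2, hwW⟩
    rw [← X.presheaf.germ_res_apply iU w' hw', e, map_zero, map_zero]
  have hzT : z ∈ (U : Set X) \ T := ⟨hz, fun ⟨_, h⟩ => hne (h.trans (map_zero _).symm)⟩
  obtain ⟨y, ⟨hyU, hyT⟩, hy⟩ := nonempty_inter_closedPoints (Z := (U : Set X) \ T) ⟨z, hzT⟩
    (U.2.isLocallyClosed.inter hT.isClosed_compl.isLocallyClosed)
  refine hyT ⟨hyU, ?_⟩
  haveI := hred y hy
  exact (hs.map (X.presheaf.germ U y hyU).hom).eq_zero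

/-- Points over closed points, algebraically closed case. -/
theorem atWorstNodal_bc_algClosure (hX : Curv2.AtWorstNodal k X) :
    letI : (Curv2.bc k X (AlgebraicClosure k)).Over (Spec (CommRingCat.of (AlgebraicClosure k))) :=
      ⟨Curv2.bcSnd k X (AlgebraicClosure k)⟩
    Curv2.AtWorstNodal (AlgebraicClosure k) (Curv2.bc k X (AlgebraicClosure k)) := by
  let K := AlgebraicClosure k
  letI : (Curv2.bc k X K).Over (Spec (CommRingCat.of K)) := ⟨Curv2.bcSnd k X K⟩
  haveI : LocallyOfFiniteType ((Curv2.bc k X K) ↘ Spec (CommRingCat.of K)) :=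
    inferInstanceAs (LocallyOfFiniteType (Curv2.bcSnd k X K))
  haveI : IsLocallyNoetherian (Curv2.bc k X K) :=
    LocallyOfFiniteType.isLocallyNoetherian (Curv2.bcSnd k X K)
  haveI : IsLocallyNoetherian X :=
    LocallyOfFiniteType.isLocallyNoetherian (X ↘ Spec (CommRingCat.of k))
  haveI : IsIntegralHom (Spec.map (CommRingCat.ofHom (algebraMap k K))) :=
    (IsIntegralHom.SpecMap_iff).2 (algebraMap_isIntegral_iff.2 inferInstance)
  intro y hy
  have hx : IsClosed ({Curv2.bcFst k X K y} : Set X) := by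
    rw [← Set.image_singleton]
    exact (Curv2.bcFst k X K).isClosedMap _ hy
  rcases hX _ hx with ⟨U, hxU, hU⟩ | h
  · refine Or.inl ⟨Curv2.bcFst k X K ⁻¹ᵁ U, hxU, ?_⟩
    have hpb := (isPullback_morphismRestrict (Curv2.bcFst k X K) U).flip.paste_horiz
      ((IsPullback.of_hasPullback (X ↘ Spec (CommRingCat.of k))
        (Spec.map (CommRingCat.ofHom (algebraMap k K)))).flip)
    exact MorphismProperty.of_isPullback hpb.flip hU
  · obtain ⟨-, hsep, hn⟩ := (Sch.isNode_iff k X _).1 h
    refine Or.inr ((Sch.isNode_iff K (Curv2.bc k X K) y).2 ⟨hy, ?_, ?_⟩)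
    · have hs := Sch.residue_surjective K (Curv2.bc k X K) y hy
      refine Algebra.IsSeparable.of_algHom (F := K) (E' := K)
        (AlgEquiv.ofBijective (Algebra.ofId K (ResidueField ((Curv2.bc k X K).presheaf.stalk y)))
          ⟨RingHom.injective _, hs⟩).symm.toAlgHom
    · exact (Sch.fibre_isNodal k X K _ hx y rfl).2.2 ⟨hsep, hn⟩

/-- At worst nodal schemes are geometrically reduced. -/
theorem geometricallyReduced (hX : Curv2.AtWorstNodal k X) :
    GeometricallyReduced (X ↘ Spec (CommRingCat.of k)) := by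
  let K := AlgebraicClosure k
  letI : (Curv2.bc k X K).Over (Spec (CommRingCat.of K)) := ⟨Curv2.bcSnd k X K⟩
  haveI : LocallyOfFiniteType ((Curv2.bc k X K) ↘ Spec (CommRingCat.of K)) :=
    inferInstanceAs (LocallyOfFiniteType (Curv2.bcSnd k X K))
  haveI := isReduced K (Curv2.bc k X K) (atWorstNodal_bc_algClosure k X hX)
  haveI : AlgebraicGeometry.IsReduced (FBase.bc (X ↘ Spec (CommRingCat.of k)) K) := by
    show AlgebraicGeometry.IsReduced (Curv2.bc k X K)
    infer_instance
  exact S2535.result (Ω := K) _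

/-- Non-closed points are smooth points. -/
theorem smooth_of_not_isClosed (hdim : topologicalKrullDim X ≤ 1) (hX : Curv2.AtWorstNodal k X)
    (x : X) (hx : ¬ IsClosed ({x} : Set X)) :
    x ∈ (X ↘ Spec (CommRingCat.of k)).smoothLocus := by
  haveI := isReduced k X hX
  haveI : IsLocallyNoetherian X :=
    LocallyOfFiniteType.isLocallyNoetherian (X ↘ Spec (CommRingCat.of k))
  obtain ⟨U, hd, hU⟩ := (S1549.result k X).1 (geometricallyReduced k X hX)
  refine (exists_smooth_iff k X x).1 ⟨U, Lib.ActSep.MaxPt.mem_of_dense U.2 hd ?_, hU⟩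
  intro z₀ hz₀
  by_contra hz₀x
  obtain ⟨z, hz, hzx⟩ : ∃ z, x ⤳ z ∧ z ≠ x := by
    by_contra hc
    push Not at hc
    exact hx (isClosed_of_closure_subset fun z hz => hc z (specializes_iff_mem_closure.2 hz))
  let C : X → TopologicalSpace.IrreducibleCloseds X := fun a =>
    ⟨closure {a}, isIrreducible_singleton.closure, isClosed_closure⟩
  have hlt : ∀ a b : X, a ⤳ b → b ≠ a → C b < C a := fun a b hab hne => by
    refine lt_of_le_of_ne (closure_minimal (Set.singleton_subset_iff.2
      (specializes_iff_mem_closure.1 hab)) isClosed_closure) fun e => hne ?_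
    have hba : b ⤳ a := specializes_iff_mem_closure.2
      ((congrArg (fun c : TopologicalSpace.IrreducibleCloseds X => (c : Set X)) e).ge
        (subset_closure rfl))
    exact (hba.antisymm hab).eq
  let s : LTSeries (TopologicalSpace.IrreducibleCloseds X) :=
    LTSeries.mk 2 ![C z, C x, C z₀] (Fin.strictMono_iff_lt_succ.2 fun i => by
      fin_cases i
      · exact hlt x z hz hzx
      · exact hlt z₀ x hz₀ (Ne.symm hz₀x))
  have h4 : (2 : WithBot ℕ∞) ≤ 1 := (Order.LTSeries.length_le_krullDim s).trans hdim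
  exact absurd h4 (by decide)

omit [LocallyOfFiniteType (X ↘ Spec (CommRingCat.of k))] in
/-- Dimension bound from the components. -/
theorem dim_le_one (h : ∀ Z ∈ irreducibleComponents (X : Type u), topologicalKrullDim Z = 1) :
    topologicalKrullDim X ≤ 1 := by
  rw [S10831.result]
  exact iSup₂_le fun Z hZ => (h Z hZ).le

/-- Every point is smooth or a node. -/
theorem smooth_or_node (hdim : topologicalKrullDim X ≤ 1) (hX : Curv2.AtWorstNodal k X) (x : X) :
    x ∈ (X ↘ Spec (CommRingCat.of k)).smoothLocus ∨ Curv2.IsNode k X x := by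
  by_cases hx : IsClosed ({x} : Set X)
  · exact (hX x hx).imp_left (exists_smooth_iff k X x).1
  · exact Or.inl (smooth_of_not_isClosed k X hdim hX x hx)

end Groth.Agent.H25.Node.AtWorst
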