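import Groth.Agent.H25.Node.Basic
import Mathlib.RingTheory.Filtration
import Mathlib.RingTheory.KrullDimension.Basic
import Mathlib.RingTheory.Nilpotent.Lemmas
import Groth.Prelude.Def_CAlg2

/-!
The two branches of a nodal local ring whose maximal ideal is generated by `s, t` with `s t = 0`.
-/

set_option autoImplicit false
set_option linter.style.haveILetI false
universe u

namespace Groth.Agent.H25.Node.Branches

open IsLocalRing

variable {R : Type u} [CommRing R] [IsLocalRing R]

/-- An exact node. -/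
structure IsSplit (s t : R) : Prop where
  span : Ideal.span {s, t} = maximalIdeal R
  mul : s * t = 0
  len : HasLengths R

namespace IsSplit

variable {s t : R} (h : IsSplit s t)
include h

theorem symm : IsSplit t s :=
  ⟨by rw [Set.pair_comm]; exact h.span, by rw [mul_comm]; exact h.mul, h.len⟩

theorem left_mem : s ∈ maximalIdeal R := mem_left h.span

theorem right_mem : t ∈ maximalIdeal R := mem_right h.span

theorem pow_le (n : ℕ) : maximalIdeal R ^ (n + 1) ≤
    Ideal.span (Set.range ![s ^ (n + 1), t ^ (n + 1)]) ⊔ maximalIdeal R ^ (n + 2) :=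
  pow_le_of_mid h.span (by rw [h.mul]; exact zero_mem _) n

theorem pow_not_mem (n : ℕ) : s ^ (n + 1) ∉ maximalIdeal R ^ (n + 2) := by
  intro hs
  have hfull : maximalIdeal R ^ (n + 1) ≤
      Ideal.span (Set.range ![t ^ (n + 1)]) ⊔ maximalIdeal R ^ (n + 2) := by
    refine (h.pow_le n).trans (sup_le ?_ le_sup_right)
    rw [Ideal.span_le]
    rintro _ ⟨i, rfl⟩
    fin_cases i
    · exact Ideal.mem_sup_right hs
    · exact Ideal.mem_sup_left (Ideal.subset_span ⟨0, rfl⟩)
  have := length_succ_le ![t ^ (n + 1)] (fun i => by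
    fin_cases i; exact Ideal.pow_mem_pow h.right_mem (n + 1)) hfull
  rw [h.len (n + 1), h.len n] at this
  norm_cast at this
  omega

theorem not_isNilpotent : ¬ IsNilpotent s := fun ⟨n, hn⟩ =>
  h.pow_not_mem n (by rw [pow_succ s n, hn, zero_mul]; exact zero_mem _)

theorem pow_not_mem_sup (n : ℕ) : s ^ n ∉ Ideal.span {t} ⊔ maximalIdeal R ^ (n + 1) := by
  cases n with
  | zero =>
    intro h1
    have hle : Ideal.span {t} ⊔ maximalIdeal R ^ (0 + 1) ≤ maximalIdeal R := by
      rw [zero_add, pow_one]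
      exact sup_le ((Ideal.span_singleton_le_iff_mem _).2 h.right_mem) le_rfl
    have h2 := hle h1
    rw [pow_zero] at h2
    exact (maximalIdeal.isMaximal R).ne_top ((Ideal.eq_top_iff_one _).2 h2)
  | succ n =>
    intro h1
    obtain ⟨a, ha, e, he, hae⟩ := Submodule.mem_sup.1 h1
    obtain ⟨c, rfl⟩ := Ideal.mem_span_singleton'.1 ha
    refine h.pow_not_mem (n + 1) ?_
    rw [pow_succ s (n + 1), ← hae, add_mul, mul_assoc, mul_comm t s, h.mul, mul_zero, zero_add,
      pow_succ]
    exact Ideal.mul_mem_mul he h.left_mem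

theorem pow_le_sup (n : ℕ) : maximalIdeal R ^ n ≤ Ideal.span {t} ⊔ Ideal.span {s ^ n} := by
  induction n with
  | zero => simp
  | succ n ih =>
    rw [pow_succ]
    refine (Ideal.mul_mono_left ih).trans ?_
    rw [Ideal.sup_mul]
    refine sup_le (fun x hx => Ideal.mem_sup_left (Ideal.mul_le_inf hx).1) ?_
    rw [← h.span, Ideal.span_mul_span', Ideal.span_le]
    rintro _ ⟨_, rfl, q, hq, rfl⟩
    rcases hq with rfl | rfl
    · exact Ideal.mem_sup_right (Ideal.mem_span_singleton.2 (by rw [pow_succ]))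
    · exact Ideal.mem_sup_left (Ideal.mul_mem_left _ _ (Ideal.mem_span_singleton_self _))

variable [IsNoetherianRing R]

/-- Outside `(t)` every element is a unit times a power of `s` modulo `(t)`. -/
theorem exists_order {f : R} (hf : f ∉ Ideal.span {t}) :
    ∃ (j : ℕ) (u : R), IsUnit u ∧ f - u * s ^ j ∈ Ideal.span {t} := by
  have hne : Ideal.span {t} ≠ ⊤ := fun e => (maximalIdeal.isMaximal R).ne_top
    (top_le_iff.1 (e ▸ (Ideal.span_singleton_le_iff_mem _).2 h.right_mem))
  obtain ⟨N, hN⟩ : ∃ N, f ∉ Ideal.span {t} ⊔ maximalIdeal R ^ N := by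
    by_contra hc
    push Not at hc
    haveI : Nontrivial (R ⧸ Ideal.span {t}) := Ideal.Quotient.nontrivial_iff.2 hne
    haveI : IsLocalRing (R ⧸ Ideal.span {t}) :=
      .of_surjective' (Ideal.Quotient.mk _) Ideal.Quotient.mk_surjective
    have hI := Ideal.iInf_pow_eq_bot_of_isLocalRing
      ((maximalIdeal R).map (Ideal.Quotient.mk (Ideal.span {t}))) (fun e => by
        have := congrArg (Ideal.comap (Ideal.Quotient.mk (Ideal.span {t}))) e
        rw [Ideal.comap_top, Ideal.comap_map_of_surjective _ Ideal.Quotient.mk_surjective,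
          ← RingHom.ker_eq_comap_bot, Ideal.mk_ker,
          sup_eq_left.2 ((Ideal.span_singleton_le_iff_mem _).2 h.right_mem)] at this
        exact (maximalIdeal.isMaximal R).ne_top this)
    refine hf (Ideal.Quotient.eq_zero_iff_mem.1 ((Submodule.mem_bot _).1
      (hI.le ((Submodule.mem_iInf _).2 fun n => ?_))))
    rw [← Ideal.map_pow]
    have := Ideal.mem_map_of_mem (Ideal.Quotient.mk (Ideal.span {t})) (hc n)
    rwa [Ideal.map_sup, Ideal.map_quotient_self, bot_sup_eq] at this
  classical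
  have hex : ∃ N, f ∉ Ideal.span {t} ⊔ maximalIdeal R ^ N := ⟨N, hN⟩
  have h0 : Nat.find hex ≠ 0 := fun e => by
    have := Nat.find_spec hex
    rw [e, pow_zero, Ideal.one_eq_top, sup_top_eq] at this
    exact this Submodule.mem_top
  obtain ⟨j, hj⟩ := Nat.exists_eq_succ_of_ne_zero h0
  have hin : f ∈ Ideal.span {t} ⊔ maximalIdeal R ^ j := by
    by_contra hc
    exact Nat.find_min hex (by omega) hc
  obtain ⟨a, ha, b, hb, rfl⟩ := Submodule.mem_sup.1 hin
  obtain ⟨a', ha', c, hc, rfl⟩ := Submodule.mem_sup.1 (h.pow_le_sup j hb)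
  obtain ⟨u, rfl⟩ := Ideal.mem_span_singleton'.1 hc
  refine ⟨j, u, ?_, by simpa [← add_assoc] using add_mem ha ha'⟩
  by_contra hu
  refine (hj ▸ Nat.find_spec hex) ?_
  refine add_mem (Ideal.mem_sup_left ha) (add_mem (Ideal.mem_sup_left ha') (Ideal.mem_sup_right ?_))
  rw [pow_succ']
  exact Ideal.mul_mem_mul ((mem_maximalIdeal _).2 hu) (Ideal.pow_mem_pow h.left_mem j)

theorem isPrime : (Ideal.span {t}).IsPrime := by
  refine ⟨fun e => (maximalIdeal.isMaximal R).ne_top
    (top_le_iff.1 (e ▸ (Ideal.span_singleton_le_iff_mem _).2 h.right_mem)), fun {f g} hfg => ?_⟩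
  by_contra hc
  push Not at hc
  obtain ⟨i, u, hu, hi⟩ := h.exists_order hc.1
  obtain ⟨j, w, hw, hj⟩ := h.exists_order hc.2
  refine h.pow_not_mem_sup (i + j) (Ideal.mem_sup_left ?_)
  have e : u * w * s ^ (i + j) = f * g - g * (f - u * s ^ i) - u * s ^ i * (g - w * s ^ j) := by
    rw [pow_add]; ring
  have := sub_mem (sub_mem hfg (Ideal.mul_mem_left _ g hi)) (Ideal.mul_mem_left _ (u * s ^ i) hj)
  rw [← e] at this
  exact ((Ideal.span {t}).unit_mul_mem_iff_mem (hu.mul hw)).1 this

theorem left_not_mem : s ∉ Ideal.span {t} := fun hs =>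
  h.pow_not_mem_sup 1 (Ideal.mem_sup_left (by rwa [pow_one]))

theorem eq_zero_of_mem {x : R} (hs : x ∈ Ideal.span {s}) (ht : x ∈ Ideal.span {t}) : x = 0 := by
  obtain ⟨a, rfl⟩ := Ideal.mem_span_singleton'.1 hs
  obtain ⟨c, rfl⟩ := Ideal.mem_span_singleton'.1 ((h.isPrime.mem_or_mem ht).resolve_right h.left_not_mem)
  rw [mul_assoc, mul_comm t s, h.mul, mul_zero]

/-- Two nonzero branches: the reduction is not a domain. -/
theorem not_isUnibranch : ¬ CAlg2.IsUnibranch R := fun hU => by
  haveI : IsDomain (CAlg2.red R) := hU.1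
  have h0 : Ideal.Quotient.mk (nilradical R) s * Ideal.Quotient.mk (nilradical R) t = 0 := by
    rw [← map_mul, h.mul, map_zero]
  rcases mul_eq_zero.1 h0 with e | e
  · exact h.not_isNilpotent (mem_nilradical.1 (Ideal.Quotient.eq_zero_iff_mem.1 e))
  · exact h.symm.not_isNilpotent (mem_nilradical.1 (Ideal.Quotient.eq_zero_iff_mem.1 e))

omit [IsNoetherianRing R] in
theorem le_or_le (P : Ideal R) [hP : P.IsPrime] : Ideal.span {t} ≤ P ∨ Ideal.span {s} ≤ P := by
  simp only [Ideal.span_singleton_le_iff_mem]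
  exact (hP.mem_or_mem (h.mul ▸ P.zero_mem)).symm

theorem eq_or_eq_max {P : Ideal R} [P.IsPrime] (hle : Ideal.span {t} ≤ P) :
    P = Ideal.span {t} ∨ P = maximalIdeal R := by
  by_cases hs : s ∈ P
  · refine Or.inr (le_antisymm (le_maximalIdeal (Ideal.IsPrime.ne_top ‹_›)) ?_)
    rw [← h.span, Ideal.span_le, Set.insert_subset_iff, Set.singleton_subset_iff]
    exact ⟨hs, hle (Ideal.mem_span_singleton_self t)⟩
  · refine Or.inl (le_antisymm (fun f hf => ?_) hle)
    by_contra hft
    obtain ⟨j, u, hu, hj⟩ := h.exists_order hft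
    have : u * s ^ j ∈ P := by simpa using sub_mem hf (hle hj)
    exact hs (‹P.IsPrime›.mem_of_pow_mem j ((P.unit_mul_mem_iff_mem hu).1 this))

theorem span_right_mem_minimalPrimes : Ideal.span {t} ∈ minimalPrimes R := by
  refine ⟨⟨h.isPrime, bot_le⟩, fun Q hQ hle => ?_⟩
  haveI := hQ.1
  exact (h.le_or_le Q).resolve_right fun hs =>
    h.left_not_mem (hle (hs (Ideal.mem_span_singleton_self s)))

theorem ringKrullDim_eq : ringKrullDim R = 1 := by
  haveI : Ring.KrullDimLE 1 R := Ring.KrullDimLE.mk₁ fun P hP => by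
    haveI := hP
    rcases h.le_or_le P with h1 | h1
    · rcases h.eq_or_eq_max h1 with rfl | rfl
      · exact Or.inl h.span_right_mem_minimalPrimes
      · exact Or.inr (maximalIdeal.isMaximal R)
    · rcases h.symm.eq_or_eq_max h1 with rfl | rfl
      · exact Or.inl h.symm.span_right_mem_minimalPrimes
      · exact Or.inr (maximalIdeal.isMaximal R)
  refine le_antisymm (Ring.krullDimLE_iff.1 ‹_›) (Order.one_le_krullDim_iff.2 ?_)
  refine ⟨⟨_, h.isPrime⟩, ⟨_, (maximalIdeal.isMaximal R).isPrime⟩, lt_of_le_of_ne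
    ((Ideal.span_singleton_le_iff_mem _).2 h.right_mem) fun e => ?_⟩
  exact h.left_not_mem ((congrArg PrimeSpectrum.asIdeal e).ge h.left_mem)

end IsSplit

end Groth.Agent.H25.Node.Branches
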