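import Groth.Agent.H25.Node.Coefficient
import Groth.Agent.H25.Node.Branches
import Groth.Agent.H25.Multi.Converse
import Groth.Agent.H25.Branch.Congr
import Groth.Agent.Lib.Henselian.Permanence

/-!
A node is reduced of dimension one, with δ-invariant one and two geometric branches.
-/

set_option autoImplicit false
set_option linter.style.haveILetI false
universe u

namespace Groth.Agent.H25.Node.Properties

open IsLocalRing
open Lib.Henselian.StrictHenselization (StrictHenselization)

variable {R : Type u} [CommRing R] [IsLocalRing R]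

/-- Over a separably closed residue field there are generators with `s t ∈ m³`. -/
theorem exists_pair_of_rel (K : Type u) [Field K] [IsSepClosed K] [Algebra K R]
    (hK : Function.Surjective ((residue R).comp (algebraMap K R))) {x y : R} {w : Fin 3 → R}
    (hxy : Ideal.span {x, y} = maximalIdeal R) (hw : quad w x y ∈ maximalIdeal R ^ 3)
    (hd : IsUnit (disc w)) :
    ∃ s t : R, Ideal.span {s, t} = maximalIdeal R ∧ s * t ∈ maximalIdeal R ^ 3 := by
  choose c hc using fun i => hK (residue R (w i))
  have hmem : ∀ i, w i - algebraMap K R (c i) ∈ maximalIdeal R := fun i => by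
    rw [← residue_eq_zero_iff, map_sub, sub_eq_zero]; exact (hc i).symm
  have hq : quad (algebraMap K R ∘ c) x y ∈ maximalIdeal R ^ 3 := by
    have e : quad (algebraMap K R ∘ c) x y = quad w x y -
        ((w 0 - algebraMap K R (c 0)) * x ^ 2 + (w 1 - algebraMap K R (c 1)) * (x * y) +
          (w 2 - algebraMap K R (c 2)) * y ^ 2) := by
      simp only [quad, Function.comp_apply]; ring
    have hs := sq_mem hxy
    rw [e, pow_succ']
    refine sub_mem (pow_succ' (maximalIdeal R) 2 ▸ hw) (add_mem (add_mem ?_ ?_) ?_)
    · exact Ideal.mul_mem_mul (hmem 0) (by simpa using hs 0)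
    · exact Ideal.mul_mem_mul (hmem 1) (by simpa using hs 1)
    · exact Ideal.mul_mem_mul (hmem 2) (by simpa using hs 2)
  have hd' : disc c ≠ 0 := fun h0 => by
    have : residue R (disc w) = 0 := by
      rw [map_disc, show residue R ∘ w = residue R ∘ (algebraMap K R ∘ c) from
        funext fun i => (hc i).symm, ← map_disc, ← map_disc, h0, map_zero, map_zero]
    exact (residue_ne_zero_iff_isUnit _).2 hd this
  by_cases ha : c 0 = 0
  · have hb : c 1 ≠ 0 := fun hb => hd' (by simp [disc, ha, hb])
    refine ⟨y, algebraMap K R (c 1) * x + algebraMap K R (c 2) * y, ?_, ?_⟩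
    · rw [← hxy]
      refine le_antisymm ?_ ?_ <;> rw [Ideal.span_le, Set.insert_subset_iff, Set.singleton_subset_iff] <;>
        refine ⟨?_, ?_⟩
      · exact Ideal.subset_span (by simp)
      · exact Ideal.mem_span_pair.2 ⟨_, _, rfl⟩
      · refine Ideal.mem_span_pair.2 ⟨- (algebraMap K R (c 1)⁻¹ * algebraMap K R (c 2)),
          algebraMap K R (c 1)⁻¹, ?_⟩
        have : algebraMap K R (c 1)⁻¹ * algebraMap K R (c 1) = 1 := by
          rw [← map_mul, inv_mul_cancel₀ hb, map_one]
        linear_combination x * this
      · exact Ideal.subset_span (by simp)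
    · convert hq using 1
      simp only [quad, Function.comp_apply, ha, map_zero]
      ring
  · set f : Polynomial K :=
      Polynomial.C (c 0) * Polynomial.X ^ 2 + Polynomial.C (c 1) * Polynomial.X + Polynomial.C (c 2)
      with hf
    have hsep : f.Separable := by
      rw [Polynomial.separable_def]
      have hder : Polynomial.derivative f =
          Polynomial.C (2 * c 0) * Polynomial.X + Polynomial.C (c 1) := by
        simp [hf, Polynomial.derivative_pow]
        ring
      refine ⟨Polynomial.C ((disc c)⁻¹ * (4 * c 0)),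
        -(Polynomial.C (disc c)⁻¹ * (Polynomial.C (2 * c 0) * Polynomial.X + Polynomial.C (c 1))), ?_⟩
      rw [hder, hf]
      have h1 : Polynomial.C (disc c)⁻¹ * Polynomial.C (4 * c 0 * c 2 - c 1 ^ 2) = 1 := by
        rw [← map_mul, show 4 * c 0 * c 2 - c 1 ^ 2 = disc c from rfl, inv_mul_cancel₀ hd', map_one]
      simp only [map_mul, map_sub, map_pow] at h1 ⊢
      have h2 : (Polynomial.C (4 : K) : Polynomial K) = 4 := map_ofNat _ _
      have h3 : (Polynomial.C (2 : K) : Polynomial K) = 2 := map_ofNat _ _
      rw [h2] at h1 ⊢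
      rw [h3]
      linear_combination h1
    obtain ⟨l, hl⟩ := IsSepClosed.exists_root f
      (by rw [hf, Polynomial.degree_quadratic ha]; decide) hsep
    simp only [hf, Polynomial.IsRoot.def, Polynomial.eval_add, Polynomial.eval_mul, Polynomial.eval_C,
      Polynomial.eval_pow, Polynomial.eval_X] at hl
    have hne : 2 * (c 0 * l) + c 1 ≠ 0 := fun h0 => hd' (by
      simp only [disc]; linear_combination (-4 * c 0) * (-hl) + (-(2 * (c 0 * l) + c 1)) * h0)
    let μ := algebraMap K R
    refine ⟨x - μ l * y, μ (c 0) * x + μ (c 0 * l + c 1) * y, ?_, ?_⟩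
    · rw [← hxy]
      have hu : μ (2 * (c 0 * l) + c 1)⁻¹ * μ (2 * (c 0 * l) + c 1) = 1 := by
        rw [← map_mul, inv_mul_cancel₀ hne, map_one]
      refine le_antisymm ?_ ?_ <;> rw [Ideal.span_le, Set.insert_subset_iff, Set.singleton_subset_iff] <;>
        refine ⟨?_, ?_⟩
      · exact Ideal.mem_span_pair.2 ⟨1, - μ l, by ring⟩
      · exact Ideal.mem_span_pair.2 ⟨_, _, rfl⟩
      · refine Ideal.mem_span_pair.2 ⟨μ (2 * (c 0 * l) + c 1)⁻¹ * μ (c 0 * l + c 1),
          μ (2 * (c 0 * l) + c 1)⁻¹ * μ l, ?_⟩
        simp only [map_add, map_mul, map_ofNat] at hu ⊢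
        linear_combination x * hu
      · refine Ideal.mem_span_pair.2 ⟨-(μ (2 * (c 0 * l) + c 1)⁻¹ * μ (c 0)),
          μ (2 * (c 0 * l) + c 1)⁻¹, ?_⟩
        simp only [map_add, map_mul, map_ofNat] at hu ⊢
        linear_combination y * hu
    · convert hq using 1
      have hl' := congrArg μ hl
      simp only [quad, Function.comp_apply, map_add, map_mul, map_pow, map_zero, μ] at hl' ⊢
      linear_combination (-y ^ 2) * hl'

theorem exists_pair [IsNoetherianRing R] (K : Type u) [Field K] [IsSepClosed K] [Algebra K R]
    (hK : Function.Surjective ((residue R).comp (algebraMap K R))) (h : IsNodal R) :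
    ∃ s t : R, Ideal.span {s, t} = maximalIdeal R ∧ s * t ∈ maximalIdeal R ^ 3 := by
  obtain ⟨x, y, hxy, w, hw, hd⟩ := h.exists_rel
  exact exists_pair_of_rel K hK hxy hw hd

/-- A complete node with a separably closed coefficient field is the cross. -/
theorem exists_cross [IsNoetherianRing R] [IsAdicComplete (maximalIdeal R) R] (K : Type u) [Field K]
    [IsSepClosed K] [Algebra K R] (hK : Function.Surjective ((residue R).comp (algebraMap K R)))
    (h : IsNodal R) : ringKrullDim R = 1 ∧ Nonempty (R ≃+* Multi.Model.cross K 2) := by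
  obtain ⟨s, t, hst, hq⟩ := exists_pair K hK h
  have hd : IsUnit (disc (![0, 1, 0] : Fin 3 → R)) := by simp [disc]
  have hq' : quad (![0, 1, 0] : Fin 3 → R) s t ∈ maximalIdeal R ^ 3 := by simpa [quad] using hq
  obtain ⟨s', t', hst', h0⟩ := Complete.exists_zero hst _ hd hq'
  have hsplit : Branches.IsSplit s' t' := ⟨hst', by simpa [quad] using h0, h.length⟩
  refine ⟨hsplit.ringKrullDim_eq, ?_⟩
  obtain ⟨e⟩ := Complete.exists_equiv K hK h.length ![0, 1, 0] (by simp [disc]) hst
    (by simpa [quad] using hq)
  have hI : Ideal.span {Model.form K ![0, 1, 0]} =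
      Ideal.span {f : MvPowerSeries (Fin 2) K |
        ∃ i j : Fin 2, i ≠ j ∧ f = MvPowerSeries.X i * MvPowerSeries.X j} := by
    rw [Quadratic.form_xy]
    refine le_antisymm ((Ideal.span_singleton_le_iff_mem _).2 (Ideal.subset_span ⟨0, 1, by decide, rfl⟩))
      (Ideal.span_le.2 ?_)
    rintro _ ⟨i, j, hij, rfl⟩
    rw [SetLike.mem_coe, Ideal.mem_span_singleton]
    fin_cases i <;> fin_cases j <;> first | exact absurd rfl hij | simp [mul_comm]
  obtain ⟨ψ, -⟩ := Multi.Model.exists_equiv K 2
  exact ⟨e.symm.toRingEquiv.trans ((Ideal.quotEquivOfEq hI).trans ψ)⟩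

/-- Properties of nodes. -/
theorem properties (k A : Type u) [Field k] [CommRing A] [IsLocalRing A] [Algebra k A]
    [Algebra.FormallySmooth k (ResidueField A)] (hN : CAlg.IsNagata A) (h : IsNodal A) :
    IsReduced A ∧ ringKrullDim A = 1 ∧ Curv2.deltaInv A = 1 ∧ Brnch.numGeomBranches A = 2 := by
  haveI := hN.1
  let B := StrictHenselization A
  haveI : IsNoetherianRing B := Lib.Henselian.Permanence.strict_isNoetherianRing A B
  haveI := Lib.Henselian.StrictHenselization.faithfullyFlat A B
  haveI : HenselianLocalRing B := inferInstance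
  have hmB := Lib.Henselian.StrictHenselization.map_maximalIdeal A B
  have hB : IsNodal B := (isNodal_iff A B hmB).1 h
  haveI hsepB : Algebra.IsSeparable (ResidueField A) (ResidueField B) :=
    AlgEquiv.Algebra.isSeparable (Lib.Henselian.StrictHenselization.residueAlgEquiv A).symm
  haveI : IsSepClosed (ResidueField B) :=
    Lib.Henselian.StrictHenselization.isSepClosed_of_ringEquiv
      (Lib.Henselian.StrictHenselization.residueEquiv A).symm
  let C := AdicCompletion (maximalIdeal B) B
  have hneB : maximalIdeal B ≠ ⊤ := (maximalIdeal.isMaximal B).ne_top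
  have hC : IsNodal C := (Fibre.isNodal_completion_iff B).1 hB
  letI : Algebra k C :=
    ((algebraMap B C).comp ((algebraMap A B).comp (algebraMap k A))).toAlgebra
  -- the residue extension of `C` is formally smooth over `k`
  haveI := Lib.Regular.Completion.isLocalHom (maximalIdeal B) hneB
  haveI : IsLocalHom (algebraMap A C) := by
    rw [IsScalarTower.algebraMap_eq A B C]
    exact RingHom.isLocalHom_comp (algebraMap B C) (algebraMap A B)
  haveI : IsScalarTower k A C := IsScalarTower.of_algebraMap_eq fun _ => rfl
  haveI : IsScalarTower k (ResidueField A) (ResidueField C) := IsScalarTower.of_algebraMap_eq fun x => by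
    show residue C (algebraMap k C x) = algebraMap (ResidueField A) (ResidueField C) (residue A (algebraMap k A x))
    rfl
  have hbij : Function.Bijective (ResidueField.map (algebraMap B C)) :=
    AdicCompletion.residueField_map_bijective (R := B)
  let eBC : ResidueField B ≃ₐ[ResidueField A] ResidueField C :=
    AlgEquiv.ofRingEquiv (f := RingEquiv.ofBijective _ hbij) fun z => by
      obtain ⟨z, rfl⟩ := residue_surjective z
      rfl
  haveI : Algebra.IsSeparable (ResidueField A) (ResidueField C) := AlgEquiv.Algebra.isSeparable eBC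
  haveI : Algebra.FormallyEtale (ResidueField A) (ResidueField C) :=
    Algebra.FormallyEtale.of_isSeparable _ _
  haveI : Algebra.FormallySmooth k (ResidueField C) :=
    Algebra.FormallySmooth.comp k (ResidueField A) (ResidueField C)
  obtain ⟨σ, hσ⟩ := Coefficient.exists_section k C
  letI : Algebra (ResidueField C) C := σ.toRingHom.toAlgebra
  haveI : IsSepClosed (ResidueField C) :=
    Lib.Henselian.StrictHenselization.isSepClosed_of_ringEquiv (RingEquiv.ofBijective _ hbij)
  have hK : Function.Surjective ((residue C).comp (algebraMap (ResidueField C) C)) :=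
    fun z => ⟨z, hσ z⟩
  obtain ⟨hdimC, ⟨e⟩⟩ := exists_cross (ResidueField C) hK hC
  haveI : IsReduced C := isReduced_of_injective e.toRingHom e.injective
  haveI := Lib.Regular.Completion.isLocalHom (maximalIdeal B) hneB
  haveI : Module.Flat B C := AdicCompletion.flat_of_isNoetherian _
  haveI hffC : Module.FaithfullyFlat B C := Module.FaithfullyFlat.of_flat_of_isLocalHom
  haveI : IsReduced B := isReduced_of_injective (algebraMap B C) (FaithfulSMul.algebraMap_injective B C)
  haveI : IsReduced A := isReduced_of_injective (algebraMap A B) (FaithfulSMul.algebraMap_injective A B)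
  have hdimB : ringKrullDim B = 1 :=
    (Lib.Regular.Completion.ringKrullDim_eq (maximalIdeal B) hneB).symm.trans hdimC
  have hdim : ringKrullDim A = 1 :=
    (Lib.Regular.Descent.ringKrullDim_eq B hmB).symm.trans hdimB
  refine ⟨inferInstance, hdim, ?_, ?_⟩
  · haveI : Module.Finite A (integralClosure A (FractionRing A)) :=
      H97.TotalNorm.finite_integralClosure hN
    haveI : Ring.KrullDimLE 1 A := (Ring.krullDimLE_iff).2 hdim.le
    haveI : Module.Flat A C := Module.Flat.trans A B C
    have hmC : (maximalIdeal A).map (algebraMap A C) = maximalIdeal C := by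
      rw [IsScalarTower.algebraMap_eq A B C, ← Ideal.map_map, hmB]
      exact Lib.Regular.Completion.map_maximalIdeal (maximalIdeal B) hneB
    rw [← DeltaFlat.deltaInv_eq A C hmC, DeltaBaseChange.deltaInv_of_ringEquiv e,
      Multi.Model.deltaInv_cross]
    norm_cast
  · haveI : Hensel.IsHenselization B B :=
      { henselian := inferInstance
        universal := fun _ _ _ f _ => ⟨f, RingHom.comp_id f, fun g hg => by simpa using hg⟩ }
    rw [← Lib.Unram.BranchHenselian.card_minimalPrimes_strictHenselization A B,
      Lib.Unram.BranchHenselian.card_minimalPrimes_henselization B B,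
      ← (Lib.Unram.CompletionBranch.numBranches_completion_eq_of_dim_one B hdimB).1]
    exact Multi.Converse.numBranches_of_equiv _ C 2 e

end Groth.Agent.H25.Node.Properties
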