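import Groth.Agent.H25.Node.AtWorst
import Mathlib.AlgebraicGeometry.Morphisms.QuasiFinite
import Mathlib.AlgebraicGeometry.Morphisms.Flat

/-! Pure one-dimensionality. -/

set_option autoImplicit false
set_option linter.style.haveILetI false
universe u
open CategoryTheory CategoryTheory.Limits AlgebraicGeometry

namespace Groth.Agent.H25.Node.Dim

/-- Two points in specialization give dimension at least one. -/
theorem one_le_of_specializes {α : Type*} [TopologicalSpace α] [T0Space α] {a b : α} (hab : a ⤳ b)
    (hne : b ≠ a) : 1 ≤ topologicalKrullDim α := by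
  let C : α → TopologicalSpace.IrreducibleCloseds α := fun c =>
    ⟨closure {c}, isIrreducible_singleton.closure, isClosed_closure⟩
  have hlt : C b < C a := by
    refine lt_of_le_of_ne (closure_minimal (Set.singleton_subset_iff.2
      (specializes_iff_mem_closure.1 hab)) isClosed_closure) fun e => hne ?_
    have hba : b ⤳ a := specializes_iff_mem_closure.2
      ((congrArg (fun c : TopologicalSpace.IrreducibleCloseds α => (c : Set α)) e).ge
        (subset_closure rfl))
    exact (hba.antisymm hab).eq
  exact Order.one_le_krullDim_iff.2 ⟨C b, C a, hlt⟩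

/-- A subsingleton has dimension zero. -/
theorem not_singleton {α : Type*} [TopologicalSpace α] {y : α}
    (h : topologicalKrullDim ({y} : Set α) = 1) : False := by
  have h5 : topologicalKrullDim ({y} : Set α) ≤ 0 := by
    unfold topologicalKrullDim
    haveI : Subsingleton (TopologicalSpace.IrreducibleCloseds ({y} : Set α)) := ⟨fun a b =>
      TopologicalSpace.IrreducibleCloseds.ext (by
        rw [Subsingleton.eq_univ_of_nonempty a.isIrreducible.nonempty,
          Subsingleton.eq_univ_of_nonempty b.isIrreducible.nonempty])⟩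
    exact Order.krullDim_nonpos_of_subsingleton
  rw [h] at h5
  exact absurd h5 (by decide)

/-- Closed points of pure curves are proper specializations. -/
theorem exists_generization {Y : Scheme.{u}}
    (hY : ∀ Z ∈ irreducibleComponents (Y : Type u), topologicalKrullDim Z = 1)
    (y : Y) (hy : IsClosed ({y} : Set Y)) : ∃ z, z ⤳ y ∧ z ≠ y := by
  by_contra hc
  push Not at hc
  have hg := (isIrreducible_irreducibleComponent (x := y)).isGenericPoint_genericPoint
    isClosed_irreducibleComponent
  have h2 := hc _ (hg.specializes mem_irreducibleComponent)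
  have h3 : irreducibleComponent y = {y} := by rw [← hg.def, h2, hy.closure_eq]
  have h4 := hY _ (irreducibleComponent_mem_irreducibleComponents y)
  rw [h3] at h4
  exact not_singleton h4

/-- Criterion for pure dimension one. -/
theorem comps_one {Y : Scheme.{u}} (hle : topologicalKrullDim Y ≤ 1)
    (hgen : ∀ y : Y, IsClosed ({y} : Set Y) → ∃ z, z ⤳ y ∧ z ≠ y) :
    ∀ Z ∈ irreducibleComponents (Y : Type u), topologicalKrullDim Z = 1 := by
  intro Z hZ
  refine le_antisymm ((topologicalKrullDim_subspace_le Y Z).trans hle) ?_
  have hg := hZ.1.isGenericPoint_genericPoint (isClosed_of_mem_irreducibleComponents Z hZ)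
  set ζ := hZ.1.genericPoint
  obtain ⟨w, hwZ, hw⟩ : ∃ w ∈ Z, w ≠ ζ := by
    by_contra hc
    push Not at hc
    have hcl : IsClosed ({ζ} : Set Y) := by
      rw [← Set.eq_singleton_iff_unique_mem.2 ⟨hg.mem, hc⟩]
      exact isClosed_of_mem_irreducibleComponents Z hZ
    obtain ⟨z, hz, hne⟩ := hgen ζ hcl
    refine hne (hc z (hZ.2 isIrreducible_singleton.closure ?_ (subset_closure rfl)))
    rw [← hg.def]
    exact closure_minimal (Set.singleton_subset_iff.2 (specializes_iff_mem_closure.1 hz))
      isClosed_closure
  exact one_le_of_specializes (a := (⟨ζ, hg.mem⟩ : Z)) (b := ⟨w, hwZ⟩)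
    (subtype_specializes_iff _ _ |>.2 (hg.specializes hwZ)) fun e => hw (congrArg Subtype.val e)

/-- Specializations in a fibre of a quasi-finite map are trivial. -/
theorem eq_of_specializes {X Y : Scheme.{u}} (π : Y ⟶ X) [LocallyQuasiFinite π] {a b : Y}
    (hab : a ⤳ b) (he : π a = π b) : a = b := by
  haveI := (isDiscrete_iff_discreteTopology.1 (π.isDiscrete_preimage_singleton (π b)))
  exact congrArg Subtype.val
    ((subtype_specializes_iff (⟨a, he⟩ : π ⁻¹' {π b}) ⟨b, rfl⟩).2 hab).eq

/-- The dimension does not go up along quasi-finite maps. -/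
theorem dim_le_one {X Y : Scheme.{u}} (π : Y ⟶ X) [LocallyQuasiFinite π]
    (h : topologicalKrullDim X ≤ 1) : topologicalKrullDim Y ≤ 1 := by
  let C : X → TopologicalSpace.IrreducibleCloseds X := fun c =>
    ⟨closure {c}, isIrreducible_singleton.closure, isClosed_closure⟩
  have hgp : ∀ S : TopologicalSpace.IrreducibleCloseds Y, IsGenericPoint S.isIrreducible.genericPoint (S : Set Y) :=
    fun S => S.isIrreducible.isGenericPoint_genericPoint S.isClosed
  refine le_trans ?_ h
  refine Order.krullDim_le_of_strictMono (fun S => C (π S.isIrreducible.genericPoint)) fun S T hST => ?_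
  have hsp : T.isIrreducible.genericPoint ⤳ S.isIrreducible.genericPoint :=
    (hgp T).specializes (hST.le (hgp S).mem)
  refine lt_of_le_of_ne (closure_minimal (Set.singleton_subset_iff.2
    (specializes_iff_mem_closure.1 (hsp.map π.continuous))) isClosed_closure) fun e => ?_
  have h1 : π S.isIrreducible.genericPoint ⤳ π T.isIrreducible.genericPoint :=
    specializes_iff_mem_closure.2
      ((congrArg (fun c : TopologicalSpace.IrreducibleCloseds X => (c : Set X)) e).ge
        (subset_closure rfl))
  have h2 := eq_of_specializes π hsp ((hsp.map π.continuous).antisymm h1).eq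
  refine hST.ne (TopologicalSpace.IrreducibleCloseds.ext ?_)
  rw [← (hgp S).def, ← (hgp T).def, h2]

/-- Pure curves pull back along flat quasi-finite maps preserving closed points. -/
theorem comps_one_of_map {X Y : Scheme.{u}} (π : Y ⟶ X) [LocallyQuasiFinite π] [Flat π]
    (hdim : ∀ Z ∈ irreducibleComponents (X : Type u), topologicalKrullDim Z = 1)
    (hc : ∀ y : Y, IsClosed ({y} : Set Y) → IsClosed ({π y} : Set X)) :
    ∀ Z ∈ irreducibleComponents (Y : Type u), topologicalKrullDim Z = 1 := by
  refine comps_one (dim_le_one π (AtWorst.dim_le_one X hdim)) fun y hy => ?_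
  obtain ⟨z, hz, hne⟩ := exists_generization hdim (π y) (hc y hy)
  obtain ⟨w, hw, rfl⟩ := Flat.generalizingMap π hz
  exact ⟨w, hw, fun e => hne (e ▸ rfl)⟩

end Groth.Agent.H25.Node.Dim
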