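import Groth.Agent.H25.Node.Fibre
import Groth.Prelude.Def_CurvBase

/-! Completions of nodal local rings. -/

set_option autoImplicit false
set_option linter.style.haveILetI false
universe u

namespace Groth.Agent.H25.Node.Quadratic

open IsLocalRing

theorem form_eq {κ : Type u} [Field κ] (a b c : κ) :
    Model.form κ ![a, b, c] = MvPowerSeries.C a * MvPowerSeries.X 0 ^ 2 +
      MvPowerSeries.C b * MvPowerSeries.X 0 * MvPowerSeries.X 1 +
      MvPowerSeries.C c * MvPowerSeries.X 1 ^ 2 := by
  simp [Model.form, quad, mul_assoc]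

theorem form_xy (κ : Type u) [Field κ] :
    Model.form κ ![0, 1, 0] = MvPowerSeries.X 0 * MvPowerSeries.X 1 := by
  simp [Model.form, quad]

theorem isNodal_of_ringEquiv {R S : Type u} [CommRing R] [IsLocalRing R] [IsNoetherianRing R]
    [CommRing S] [IsLocalRing S] (e : R ≃+* S) (h : IsNodal R) : IsNodal S := by
  letI : Algebra R S := e.toRingHom.toAlgebra
  haveI : Module.Flat R S :=
    Module.Flat.of_linearEquiv (M := R) (AlgEquiv.ofRingEquiv (f := e) fun _ => rfl).toLinearEquiv.symm
  haveI : IsLocalHom (algebraMap R S) := IsLocalHom.of_surjective _ e.surjective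
  refine (isNodal_iff R S ?_).1 h
  rcases Ideal.map_eq_top_or_isMaximal_of_surjective (algebraMap R S) e.surjective
    (maximalIdeal.isMaximal R) with h1 | h1
  · exfalso
    exact (maximalIdeal.isMaximal S).ne_top
      (top_le_iff.1 (h1 ▸ ((local_hom_TFAE (algebraMap R S)).out 0 2 rfl rfl).1 inferInstance))
  · exact IsLocalRing.eq_maximalIdeal h1

variable (A : Type u) [CommRing A] [IsLocalRing A] [IsNoetherianRing A]

/-- A quadratic presentation of the completion gives nodality. -/
theorem isNodal_of_equiv (κ : Type u) [Field κ] (v : Fin 3 → κ) (hv : disc v ≠ 0)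
    (I : Ideal (MvPowerSeries (Fin 2) κ)) (hI : I = Ideal.span {Model.form κ v})
    (e : AdicCompletion (maximalIdeal A) A ≃+* MvPowerSeries (Fin 2) κ ⧸ I) : IsNodal A := by
  subst hI
  exact (Fibre.isNodal_completion_iff A).2 (isNodal_of_ringEquiv e.symm (Model.isNodal hv))

/-- An ordinary double point is nodal. -/
theorem isNodal_of_isOrdDoublePt (K : Type u) [Field K] [Algebra K A]
    (h : Curv2.IsOrdDoublePt K A) : IsNodal A := by
  obtain ⟨e, -⟩ := h
  exact isNodal_of_equiv A K ![0, 1, 0] (by simp [disc]) _ (by rw [form_xy]) e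

variable {A}

/-- A node with algebraically closed residue field is an ordinary double point. -/
theorem isOrdDoublePt (K : Type u) [Field K] [IsAlgClosed K] [Algebra K A]
    (hK : Function.Surjective ((residue A).comp (algebraMap K A))) (h : IsNodal A) :
    Curv2.IsOrdDoublePt K A := by
  have hR := (Fibre.isNodal_completion_iff A).1 h
  have hKR := Fibre.residue_surjective A K hK
  obtain ⟨s, t, hspan, hst⟩ := Complete.exists_pair K hKR hR
  obtain ⟨e⟩ := Complete.exists_equiv K hKR hR.length ![0, 1, 0] (by simp [disc]) hspan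
    (by simpa [quad] using hst)
  have hI : Ideal.span {Model.form K ![0, 1, 0]} =
      Ideal.span {(MvPowerSeries.X 0 * MvPowerSeries.X 1 : MvPowerSeries (Fin 2) K)} := by
    rw [form_xy]
  refine ⟨e.symm.toRingEquiv.trans (Ideal.quotEquivOfEq hI), fun c => ?_⟩
  show Ideal.quotEquivOfEq hI (e.symm (algebraMap A (AdicCompletion (maximalIdeal A) A) (algebraMap K A c))) = _
  rw [← IsScalarTower.algebraMap_apply K A (AdicCompletion (maximalIdeal A) A), e.symm.commutes]
  rfl

/-- A node with separable residue field: the completion is a nondegenerate quadratic cone. -/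
theorem exists_quadratic (k : Type u) [Field k] [Algebra k A]
    [Algebra.IsSeparable k (ResidueField A)] (h : IsNodal A) :
    ∃ a b c : ResidueField A, 4 * a * c - b ^ 2 ≠ 0 ∧
      ∃ e : AdicCompletion (maximalIdeal A) A ≃+*
          (MvPowerSeries (Fin 2) (ResidueField A) ⧸ Ideal.span
            {(MvPowerSeries.C a * MvPowerSeries.X 0 ^ 2 +
              MvPowerSeries.C b * MvPowerSeries.X 0 * MvPowerSeries.X 1 +
              MvPowerSeries.C c * MvPowerSeries.X 1 ^ 2 : MvPowerSeries (Fin 2) (ResidueField A))}),
        ∀ t : k, e (algebraMap A _ (algebraMap k A t)) =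
          Ideal.Quotient.mk _ (MvPowerSeries.C (algebraMap k (ResidueField A) t)) := by
  let R := AdicCompletion (maximalIdeal A) A
  have hR := (Fibre.isNodal_completion_iff A).1 h
  let ι : ResidueField A →ₐ[k] ResidueField R :=
    { ResidueField.map (algebraMap A R) with
      commutes' := fun c => by
        show ResidueField.map (algebraMap A R) (residue A (algebraMap k A c)) = residue R (algebraMap k R c)
        rw [ResidueField.map_residue, ← IsScalarTower.algebraMap_apply k A R] }
  have hι : Function.Bijective ι := AdicCompletion.residueField_map_bijective (R := A)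
  haveI : Algebra.IsSeparable k (ResidueField R) :=
    Algebra.IsSeparable.of_algHom k (ResidueField A) (AlgEquiv.ofBijective ι hι).symm.toAlgHom
  obtain ⟨σ, hσ⟩ := Complete.exists_section k R
  letI : Algebra (ResidueField A) R := (σ.comp ι).toRingHom.toAlgebra
  have hres : ∀ z : ResidueField A, residue R (algebraMap (ResidueField A) R z) = ι z := fun z => hσ _
  have hsurj : Function.Surjective ((residue R).comp (algebraMap (ResidueField A) R)) := fun z => by
    obtain ⟨w, rfl⟩ := hι.2 z
    exact ⟨w, hres w⟩
  obtain ⟨x, y, hxy, w, hw, hd⟩ := hR.exists_rel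
  choose c hc using fun i => hsurj (residue R (w i))
  have hq : quad (algebraMap (ResidueField A) R ∘ c) x y ∈ maximalIdeal R ^ 3 := by
    have hmem : ∀ i, w i - algebraMap (ResidueField A) R (c i) ∈ maximalIdeal R := fun i => by
      rw [← residue_eq_zero_iff, map_sub, sub_eq_zero]; exact (hc i).symm
    have e : quad (algebraMap (ResidueField A) R ∘ c) x y = quad w x y -
        ((w 0 - algebraMap (ResidueField A) R (c 0)) * x ^ 2 +
          (w 1 - algebraMap (ResidueField A) R (c 1)) * (x * y) +
          (w 2 - algebraMap (ResidueField A) R (c 2)) * y ^ 2) := by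
      simp only [quad, Function.comp_apply]; ring
    have hs := sq_mem hxy
    rw [e, pow_succ']
    refine sub_mem (pow_succ' (maximalIdeal R) 2 ▸ hw) (add_mem (add_mem ?_ ?_) ?_)
    · exact Ideal.mul_mem_mul (hmem 0) (by simpa using hs 0)
    · exact Ideal.mul_mem_mul (hmem 1) (by simpa using hs 1)
    · exact Ideal.mul_mem_mul (hmem 2) (by simpa using hs 2)
  have hd' : disc c ≠ 0 := fun h0 => by
    have : residue R (disc w) = 0 := by
      rw [map_disc, show residue R ∘ w = residue R ∘ (algebraMap (ResidueField A) R ∘ c) from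
        funext fun i => (hc i).symm, ← map_disc, ← map_disc, h0, map_zero, map_zero]
    exact (residue_ne_zero_iff_isUnit _).2 hd this
  obtain ⟨e⟩ := Complete.exists_equiv (ResidueField A) hsurj hR.length c hd' hxy hq
  have hI : Ideal.span {Model.form (ResidueField A) c} = Ideal.span
      {(MvPowerSeries.C (c 0) * MvPowerSeries.X 0 ^ 2 +
        MvPowerSeries.C (c 1) * MvPowerSeries.X 0 * MvPowerSeries.X 1 +
        MvPowerSeries.C (c 2) * MvPowerSeries.X 1 ^ 2 : MvPowerSeries (Fin 2) (ResidueField A))} := by
    rw [← form_eq, show (![c 0, c 1, c 2] : Fin 3 → ResidueField A) = c from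
      funext fun i => by fin_cases i <;> rfl]
  refine ⟨c 0, c 1, c 2, hd', e.symm.toRingEquiv.trans (Ideal.quotEquivOfEq hI), fun t => ?_⟩
  · have ht : algebraMap A R (algebraMap k A t) =
        algebraMap (ResidueField A) R (algebraMap k (ResidueField A) t) := by
      rw [← IsScalarTower.algebraMap_apply k A R]
      exact (((σ.comp ι).commutes t)).symm
    show Ideal.quotEquivOfEq hI (e.symm (algebraMap A R (algebraMap k A t))) = _
    rw [ht, e.symm.commutes]
    rfl

end Groth.Agent.H25.Node.Quadratic
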