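import Groth.Agent.H25.Node.Criterion
import Groth.Agent.H25.Node.Quadratic
import Groth.Agent.H52.FBase.StalkBC
import Groth.Agent.Lib.GeomConn.Residue
import Mathlib.AlgebraicGeometry.Morphisms.Finite
import Mathlib.AlgebraicGeometry.Noetherian

/-! Nodes of schemes of finite type over a field. -/

set_option autoImplicit false
set_option linter.style.haveILetI false
universe u
open CategoryTheory CategoryTheory.Limits AlgebraicGeometry

attribute [local instance] Curv2.stalkAlgebra

namespace Groth.Agent.H25.Node.Sch

open IsLocalRing Groth.Agent.H52.FBase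

variable (k : Type u) [Field k] (X : Scheme.{u}) [X.Over (Spec (CommRingCat.of k))]

/-- The two algebra structures on a residue field agree. -/
theorem resAlgebra_eq (x : X) :
    Curv2.resAlgebra k X x =
      (inferInstance : Algebra k (IsLocalRing.ResidueField (X.presheaf.stalk x))) :=
  Algebra.algebra_ext _ _ fun _ => rfl

variable [LocallyOfFiniteType (X ↘ Spec (CommRingCat.of k))]

/-- Closed points are the points with finite residue fields. -/
theorem isClosed_iff (x : X) : IsClosed ({x} : Set X) ↔ (Curv2.resMap k X x).Finite := by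
  have : JacobsonSpace X := LocallyOfFiniteType.jacobsonSpace (X ↘ Spec (CommRingCat.of k))
  have hfin : (Curv2.resMap k X x).Finite ↔
      IsFinite (X.fromSpecResidueField x ≫ X ↘ Spec (CommRingCat.of k)) := by
    rw [← Lib.GeomConn.Residue.specMap_resMap, IsFinite.SpecMap_iff]
    rfl
  rw [hfin]
  constructor
  · intro hx
    have := isClosed_singleton_iff_isClosedImmersion.mp hx
    exact (isFinite_iff_locallyOfFiniteType_of_jacobsonSpace
      (f := X.fromSpecResidueField x ≫ X ↘ Spec (CommRingCat.of k))).mpr inferInstance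
  · intro h
    rw [isClosed_singleton_iff_locallyOfFiniteType]
    exact locallyOfFiniteType_of_comp _ (X ↘ Spec (CommRingCat.of k))

theorem finiteDimensional (x : X) (hx : IsClosed ({x} : Set X)) :
    FiniteDimensional k (IsLocalRing.ResidueField (X.presheaf.stalk x)) := by
  have h := (isClosed_iff k X x).1 hx
  exact RingHom.finite_algebraMap.1 h

/-- Closed points have residue field `k` when `k` is algebraically closed. -/
theorem residue_surjective [IsAlgClosed k] (x : X) (hx : IsClosed ({x} : Set X)) :
    Function.Surjective ((residue (X.presheaf.stalk x)).comp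
      (algebraMap k (X.presheaf.stalk x))) := by
  haveI := finiteDimensional k X x hx
  exact (IsAlgClosed.algebraMap_bijective_of_isIntegral
    (k := k) (K := IsLocalRing.ResidueField (X.presheaf.stalk x))).2

omit [LocallyOfFiniteType (X ↘ Spec (CommRingCat.of k))] in
theorem φ_eq (x : X) : StalkBC.φ (X ↘ Spec (CommRingCat.of k)) x = Curv2.stalkMap k X x := by
  have h3 : CommRingCat.ofHom (StalkBC.φ (X ↘ Spec (CommRingCat.of k)) x) =
      CommRingCat.ofHom (Curv2.stalkMap k X x) :=
    Spec.map_injective ((StalkBC.specMap_φ _ x).trans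
      (Lib.GeomConn.Residue.specMap_stalkMap k X x).symm)
  exact congrArg CommRingCat.Hom.hom h3

/-- The identity, from the algebra copy of a stalk to the stalk. -/
noncomputable def stalkId {k : Type u} [Field k] {X : Scheme.{u}}
    (f : X ⟶ Spec (CommRingCat.of k)) (x : X) : StalkBC.Ox f x ≃+* X.presheaf.stalk x where
  toFun := id
  invFun := id
  left_inv _ := rfl
  right_inv _ := rfl
  map_mul' _ _ := rfl
  map_add' _ _ := rfl

/-- Transfer between the two copies of the stalk. -/
theorem iff_copy (A A' : Type u) [CommRing A] [IsLocalRing A] [IsNoetherianRing A] [Algebra k A]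
    [CommRing A'] [IsLocalRing A'] [IsNoetherianRing A'] [Algebra k A'] (e : A ≃ₐ[k] A') :
    (Algebra.IsSeparable k (ResidueField A) ∧ IsNodal A) ↔
      (Algebra.IsSeparable k (ResidueField A') ∧ IsNodal A') := by
  have one : ∀ (B B' : Type u) [CommRing B] [IsLocalRing B] [IsNoetherianRing B] [Algebra k B]
      [CommRing B'] [IsLocalRing B'] [Algebra k B'] (e : B ≃ₐ[k] B'),
      Algebra.IsSeparable k (ResidueField B) → IsNodal B →
        Algebra.IsSeparable k (ResidueField B') ∧ IsNodal B' := by
    intro B B' _ _ _ _ _ _ _ e hs hn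
    haveI := hs
    haveI : IsLocalHom e.symm.toRingEquiv.toRingHom := IsLocalHom.of_surjective _ e.symm.surjective
    let g : ResidueField B' →ₐ[k] ResidueField B :=
      { ResidueField.map e.symm.toRingEquiv.toRingHom with
        commutes' := fun c => by
          show ResidueField.map e.symm.toRingEquiv.toRingHom (residue B' (algebraMap k B' c)) =
            residue B (algebraMap k B c)
          rw [ResidueField.map_residue]
          exact congrArg _ (e.symm.commutes c) }
    exact ⟨Algebra.IsSeparable.of_algHom k _ g, Quadratic.isNodal_of_ringEquiv e.toRingEquiv hn⟩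
  exact ⟨fun h => one A A' e h.1 h.2, fun h => one A' A e.symm h.1 h.2⟩

/-- Points over a closed point are closed, and are nodal exactly when the point downstairs is
nodal with separable residue field. -/
theorem fibre_isNodal (K : Type u) [Field K] [IsAlgClosed K] [Algebra k K] (x : X)
    (hx : IsClosed ({x} : Set X)) (xb : Curv2.bc k X K) (hxb : Curv2.bcFst k X K xb = x) :
    IsClosed ({xb} : Set (Curv2.bc k X K)) ∧
    (IsNodal ((Curv2.bc k X K).presheaf.stalk xb) ↔
      Algebra.IsSeparable k (IsLocalRing.ResidueField (X.presheaf.stalk x)) ∧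
        IsNodal (X.presheaf.stalk x)) := by
  letI : (Curv2.bc k X K).Over (Spec (CommRingCat.of K)) := ⟨Curv2.bcSnd k X K⟩
  haveI : LocallyOfFiniteType ((Curv2.bc k X K) ↘ Spec (CommRingCat.of K)) :=
    inferInstanceAs (LocallyOfFiniteType (Curv2.bcSnd k X K))
  haveI : IsLocallyNoetherian X :=
    LocallyOfFiniteType.isLocallyNoetherian (X ↘ Spec (CommRingCat.of k))
  haveI : IsLocallyNoetherian (Curv2.bc k X K) :=
    LocallyOfFiniteType.isLocallyNoetherian (Curv2.bcSnd k X K)
  set f := X ↘ Spec (CommRingCat.of k) with hf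
  let A := StalkBC.Ox f x
  let e₀ : A ≃ₐ[k] X.presheaf.stalk x :=
    AlgEquiv.ofRingEquiv (f := stalkId f x) fun c => RingHom.congr_fun (φ_eq k X x) c
  haveI := finiteDimensional k X x hx
  haveI : FiniteDimensional k (IsLocalRing.ResidueField A) := by
    haveI : IsLocalHom e₀.toRingEquiv.toRingHom := IsLocalHom.of_surjective _ e₀.surjective
    let g : ResidueField A →ₐ[k] IsLocalRing.ResidueField (X.presheaf.stalk x) :=
      { ResidueField.map e₀.toRingEquiv.toRingHom with
        commutes' := fun c => by
          show ResidueField.map e₀.toRingEquiv.toRingHom (residue A (algebraMap k A c)) = _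
          rw [ResidueField.map_residue]
          exact congrArg _ (e₀.commutes c) }
    exact Module.Finite.of_injective g.toLinearMap g.toRingHom.injective
  obtain ⟨q, hq⟩ := StalkBC.exists_j_eq f x K xb (specializes_of_eq hxb)
  have hqmax : q.asIdeal.comap (algebraMap A (TensorProduct k A K)) = maximalIdeal A :=
    (StalkBC.j_π_eq_iff f x K q).1 ((congrArg _ hq).trans hxb)
  -- closedness
  have hcl : IsClosed ({xb} : Set (Curv2.bc k X K)) := by
    refine isClosed_of_closure_subset fun y hy => ?_
    have hsp : xb ⤳ y := specializes_iff_mem_closure.2 hy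
    have hyx : Curv2.bcFst k X K y = x := by
      have := (hsp.map (Curv2.bcFst k X K).continuous)
      rw [hxb] at this
      exact (hx.closure_eq ▸ specializes_iff_mem_closure.1 this : Curv2.bcFst k X K y ∈ ({x} : Set X))
    obtain ⟨q', hq'⟩ := StalkBC.exists_j_eq f x K y (specializes_of_eq hyx)
    have h1 : q ⤳ q' := (StalkBC.j f x K).isEmbedding.isInducing.specializes_iff.1
      (by rwa [hq, hq'])
    have hle : q.asIdeal ≤ q'.asIdeal := (PrimeSpectrum.le_iff_specializes q q').2 h1
    haveI : (PrimeSpectrum.asIdeal (R := TensorProduct k A K) q).IsPrime := q.isPrime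
    haveI : (PrimeSpectrum.asIdeal (R := TensorProduct k A K) q).IsMaximal :=
      Ideal.Quotient.maximal_of_isField _ (MulEquiv.isField (Field.toIsField K)
        (RingEquiv.ofBijective _ (Criterion.bijective_quot (k := k) (A := A) (K := K) _
          (Criterion.map_le _ hqmax))).symm.toMulEquiv)
    have heq : q = q' := PrimeSpectrum.ext
      (‹(PrimeSpectrum.asIdeal (R := TensorProduct k A K) q).IsMaximal›.eq_of_le q'.isPrime.ne_top hle)
    show y = xb
    rw [← hq', ← heq, hq]
  let e : (Curv2.bc k X K).presheaf.stalk xb ≃+*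
      Localization.AtPrime (PrimeSpectrum.asIdeal (R := TensorProduct k A K) q) :=
    ((Curv2.bc k X K).presheaf.stalkCongr (.of_eq hq.symm)).commRingCatIsoToRingEquiv.trans
      (StalkBC.stalkEquiv f x K q)
  haveI : IsNoetherianRing (Localization.AtPrime (PrimeSpectrum.asIdeal (R := TensorProduct k A K) q)) :=
    isNoetherianRing_of_ringEquiv _ e
  rw [← iff_copy k A (X.presheaf.stalk x) e₀, ← Criterion.isNodal_iff _ hqmax]
  exact ⟨hcl, Quadratic.isNodal_of_ringEquiv e, Quadratic.isNodal_of_ringEquiv e.symm⟩

/-- Points over a closed point are closed, and are nodes exactly when the point downstairs is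
nodal with separable residue field. -/
theorem fibre (K : Type u) [Field K] [IsAlgClosed K] [Algebra k K] (x : X)
    (hx : IsClosed ({x} : Set X)) (xb : Curv2.bc k X K) (hxb : Curv2.bcFst k X K xb = x) :
    letI : (Curv2.bc k X K).Over (Spec (CommRingCat.of K)) := ⟨Curv2.bcSnd k X K⟩
    (Curv2.IsOrdDoublePt K ((Curv2.bc k X K).presheaf.stalk xb) ↔
      Algebra.IsSeparable k (IsLocalRing.ResidueField (X.presheaf.stalk x)) ∧
        IsNodal (X.presheaf.stalk x)) := by
  letI : (Curv2.bc k X K).Over (Spec (CommRingCat.of K)) := ⟨Curv2.bcSnd k X K⟩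
  haveI : LocallyOfFiniteType ((Curv2.bc k X K) ↘ Spec (CommRingCat.of K)) :=
    inferInstanceAs (LocallyOfFiniteType (Curv2.bcSnd k X K))
  haveI : IsLocallyNoetherian (Curv2.bc k X K) :=
    LocallyOfFiniteType.isLocallyNoetherian (Curv2.bcSnd k X K)
  obtain ⟨hcl, h⟩ := fibre_isNodal k X K x hx xb hxb
  exact ⟨fun h1 => h.1 (Quadratic.isNodal_of_isOrdDoublePt _ K h1), fun h1 =>
    Quadratic.isOrdDoublePt K (residue_surjective K (Curv2.bc k X K) xb hcl) (h.2 h1)⟩

/-- **Nodes**: closed points with separable residue field and nodal local ring. -/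
theorem isNode_iff (x : X) :
    Curv2.IsNode k X x ↔ IsClosed ({x} : Set X) ∧
      Algebra.IsSeparable k (IsLocalRing.ResidueField (X.presheaf.stalk x)) ∧
        IsNodal (X.presheaf.stalk x) := by
  refine ⟨fun ⟨hx, xb, hxb, h⟩ => ⟨hx, (fibre k X (AlgebraicClosure k) x hx xb hxb).1 h⟩,
    fun ⟨hx, h⟩ => ⟨hx, ?_⟩⟩
  obtain ⟨xb, hxb, -⟩ := Scheme.Pullback.exists_preimage_pullback
    (f := X ↘ Spec (CommRingCat.of k))
    (g := Spec.map (CommRingCat.ofHom (algebraMap k (AlgebraicClosure k)))) x
    (IsLocalRing.closedPoint (AlgebraicClosure k)) (Subsingleton.elim _ _)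
  exact ⟨xb, hxb, (fibre k X (AlgebraicClosure k) x hx xb hxb).2 h⟩

end Groth.Agent.H25.Node.Sch
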