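import Groth.Agent.H25.Node.SingCrit
import Groth.Agent.H69.SyntomicStage
import Groth.Agent.H68.LCIBridge
import Groth.Agent.Lib.Cyc.LocalDim
import Groth.Agent.S9758

/-!
Nodal families: syntomic of relative dimension one with unramified singular scheme.
-/

set_option autoImplicit false
set_option linter.style.haveILetI false
universe u

open CategoryTheory CategoryTheory.Limits AlgebraicGeometry IsLocalRing

attribute [local instance] Curv2.stalkAlgebra

namespace Groth.Agent.H25.Node.SingFamily

variable {X S : Scheme.{u}} (f : X ⟶ S)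

/-- A nodal family is syntomic. -/
theorem isSyntomicMor (hf : Curv2.IsNodalFamily f) : Synt.IsSyntomicMor f := by
  haveI := hf.1
  haveI := hf.2.1
  refine (Lib.Synt92.MorCrit.isSyntomicMor_iff f).2 ⟨inferInstance, inferInstance, fun x => ?_⟩
  refine Lib.Synt92.MorField.isCompleteIntersection_of_fiber f x ?_
  letI : (f.fiber (f x)).Over (Spec (CommRingCat.of (S.residueField (f x)))) := ⟨f.fiberToSpecResidueField (f x)⟩
  haveI : LocallyOfFiniteType ((f.fiber (f x)) ↘ Spec (CommRingCat.of (S.residueField (f x)))) :=
    inferInstanceAs (LocallyOfFiniteType (pullback.snd f (S.fromSpecResidueField (f x))))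
  haveI : IsLocallyNoetherian (f.fiber (f x)) :=
    LocallyOfFiniteType.isLocallyNoetherian ((f.fiber (f x)) ↘ Spec (CommRingCat.of (S.residueField (f x))))
  obtain ⟨e⟩ := Lib.Synt92.MorField.nonempty_fiberStalk_equiv (K := CommRingCat.of (S.residueField (f x)))
    (Field.toIsField _) (f.fiberToSpecResidueField (f x)) (f.asFiber x)
  exact (H26.CICongr.iff e.symm).2
    (SingCrit.ci_stalk (S.residueField (f x)) (f.fiber (f x)) (hf.2.2 (f x)).1 (hf.2.2 (f x)).2 _)

theorem localDim_eq (s : S) (a : f.fiber s) (x : X) (hx : f.fiberι s a = x) (hs : f x = s) :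
    FlatMor.localDim (f.fiber s) a = Dual3.localFibreDim f x := by
  subst hs
  obtain rfl : a = f.asFiber x := (f.fiberι (f x)).isEmbedding.injective (hx.trans (f.fiberι_asFiber x).symm)
  unfold FlatMor.localDim Dual3.localFibreDim
  first | rfl | exact iInf_subtype

/-- The fibres of a nodal family have local dimension one. -/
theorem localFibreDim_eq_one (hf : Curv2.IsNodalFamily f) (x : X) : Dual3.localFibreDim f x = 1 := by
  haveI := hf.2.1
  haveI : LocallyOfFiniteType (f.fiberToSpecResidueField (f x)) :=
    inferInstanceAs (LocallyOfFiniteType (pullback.snd f (S.fromSpecResidueField (f x))))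
  rw [← localDim_eq f (f x) (f.asFiber x) x (f.fiberι_asFiber x) rfl]
  exact_mod_cast Lib.FittSheaf.localDim_eq_of_components (K := S.residueField (f x))
    (f.fiberToSpecResidueField (f x)) 1 (fun T hT => by exact_mod_cast (hf.2.2 (f x)).1 T hT) (f.asFiber x)

/-- Local dimension one everywhere gives pure dimension one. -/
theorem equidim_of_localDim (K : Type u) [Field K] (Y : Scheme.{u}) (p : Y ⟶ Spec (CommRingCat.of K))
    [LocallyOfFiniteType p] (h : ∀ y : Y, FlatMor.localDim Y y = 1) :
    ∀ Z ∈ irreducibleComponents (Y : Type u), topologicalKrullDim Z = 1 := by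
  intro Z hZ
  have hg := hZ.1.isGenericPoint_genericPoint (isClosed_of_mem_irreducibleComponents Z hZ)
  set ξ := hZ.1.genericPoint
  have h1 : Lib.Cyc.FieldDim.fdelta p ξ ≤ 1 :=
    (Lib.Cyc.LocalDim.localDim_le_iff p ξ 1).mp (h ξ).le ξ specializes_rfl
  have hne : ¬ Lib.Cyc.FieldDim.fdelta p ξ ≤ 0 := fun h0 => by
    have h2 : FlatMor.localDim Y ξ ≤ ((0 : ℕ) : WithBot ℕ∞) := by
      refine (Lib.Cyc.LocalDim.localDim_le_iff p ξ 0).mpr fun η hη => ?_
      have hsub : Z ⊆ closure {η} := by
        rw [← hg.def]
        exact closure_minimal (Set.singleton_subset_iff.2 (specializes_iff_mem_closure.1 hη)) isClosed_closure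
      have h3 := hZ.2 isIrreducible_singleton.closure hsub
      have h4 : IsGenericPoint η Z := le_antisymm h3 hsub
      rw [h4.eq hg]
      exact_mod_cast h0
    rw [h ξ] at h2
    exact absurd h2 (by decide)
  have hd : Lib.Cyc.FieldDim.fdelta p ξ = 1 := by omega
  have h5 := Lib.Cyc.FieldDim.topologicalKrullDim_closure p ξ
  rw [hg.def, hd] at h5
  exact_mod_cast h5

/-- Complete intersection morphisms have complete intersection fibres. -/
theorem isCIOver_fibre (hs : Synt.IsSyntomicMor f) (s : S) (a : f.fiber s) :
    letI : (f.fiber s).Over (Spec (CommRingCat.of (S.residueField s))) := ⟨f.fiberToSpecResidueField s⟩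
    Synt.IsCIOver (S.residueField s) ((f.fiber s).presheaf.stalk a) := by
  haveI := Lib.Synt92.MorCrit.lfp_of_isSyntomicMor f hs
  letI : (f.fiber s).Over (Spec (CommRingCat.of (S.residueField s))) := ⟨f.fiberToSpecResidueField s⟩
  haveI : LocallyOfFiniteType ((f.fiber s) ↘ Spec (CommRingCat.of (S.residueField s))) :=
    inferInstanceAs (LocallyOfFiniteType (pullback.snd f (S.fromSpecResidueField s)))
  haveI : LocallyOfFiniteType (f.fiberToSpecResidueField s) :=
    inferInstanceAs (LocallyOfFiniteType (pullback.snd f (S.fromSpecResidueField s)))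
  have h1 : Pi1.IsCompleteIntersection (CInt.fiberStalk (f.fiberToSpecResidueField s) a) :=
    (H69.SyntomicStage.ci_of_isPullback' (IsPullback.of_hasPullback f (S.fromSpecResidueField s))
      (Lib.Synt92.MorCrit.isCIMorphism_of_isSyntomicMor f hs)).2.2 a
  have h2 := (Lib.Synt92.MorOverField.isCI_iff (k := S.residueField s) (f.fiberToSpecResidueField s) a).1 h1
  have e := SmoothPoint.stalkMap_eq (S.residueField s) (f.fiber s) a
  show @Synt.IsCIOver _ _ _ _ (Curv2.stalkMap (S.residueField s) (f.fiber s) a).toAlgebra _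
  rw [e]
  exact h2

/-- The singular scheme of a fibre. -/
theorem formallyUnramified_fibre [LocallyOfFiniteType f] [QuasiSeparated f]
    (hu : FormallyUnramified ((Fitt.sheafIdeal (Omega.sheaf f) 1).subschemeι ≫ f)) (s : S) :
    FormallyUnramified ((Fitt.sheafIdeal (Omega.sheaf (pullback.snd f (S.fromSpecResidueField s))) 1).subschemeι ≫
      pullback.snd f (S.fromSpecResidueField s)) := by
  let g := S.fromSpecResidueField s
  set I := Fitt.sheafIdeal (Omega.sheaf f) 1
  rw [← Lib.FittSheaf.omega_comap f g 1]
  rw [← Scheme.IdealSheafData.comapIso_hom_fst, Category.assoc]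
  have h : IsPullback (pullback.snd (pullback.fst f g) I.subschemeι)
      (pullback.fst (pullback.fst f g) I.subschemeι ≫ pullback.snd f g) (I.subschemeι ≫ f) g :=
    (IsPullback.of_hasPullback (pullback.fst f g) I.subschemeι).flip.paste_vert (IsPullback.of_hasPullback f g)
  haveI : FormallyUnramified (pullback.fst (pullback.fst f g) I.subschemeι ≫ pullback.snd f g) :=
    MorphismProperty.of_isPullback (P := @FormallyUnramified) h hu
  exact (MorphismProperty.cancel_left_of_respectsIso @FormallyUnramified _ _).2 ‹_›

/-- Syntomic of relative dimension one with unramified singular scheme: nodal. -/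
theorem isNodalFamily [QuasiSeparated f] (hs : Synt.IsSyntomicMor f) (hd : ∀ x, Dual3.localFibreDim f x = 1)
    (hu : FormallyUnramified ((Fitt.sheafIdeal (Omega.sheaf f) 1).subschemeι ≫ f)) :
    Curv2.IsNodalFamily f := by
  haveI := Lib.Synt92.MorCrit.lfp_of_isSyntomicMor f hs
  haveI := Lib.Synt92.MorCrit.flat_of_isSyntomicMor f hs
  refine ⟨inferInstance, inferInstance, fun s => ?_⟩
  letI : (f.fiber s).Over (Spec (CommRingCat.of (S.residueField s))) := ⟨f.fiberToSpecResidueField s⟩
  haveI : LocallyOfFiniteType (f.fiberToSpecResidueField s) :=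
    inferInstanceAs (LocallyOfFiniteType (pullback.snd f (S.fromSpecResidueField s)))
  haveI : LocallyOfFiniteType ((f.fiber s) ↘ Spec (CommRingCat.of (S.residueField s))) :=
    inferInstanceAs (LocallyOfFiniteType (pullback.snd f (S.fromSpecResidueField s)))
  haveI : QuasiSeparated ((f.fiber s) ↘ Spec (CommRingCat.of (S.residueField s))) :=
    inferInstanceAs (QuasiSeparated (pullback.snd f (S.fromSpecResidueField s)))
  haveI : Flat ((f.fiber s) ↘ Spec (CommRingCat.of (S.residueField s))) :=
    inferInstanceAs (Flat (pullback.snd f (S.fromSpecResidueField s)))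
  have hequi := equidim_of_localDim (S.residueField s) (f.fiber s) (f.fiberToSpecResidueField s) fun a => by
    have hfx : f (f.fiberι s a) = s := by
      have h1 : (f.fiberι s ≫ f) a = s := by
        rw [f.fiber_fac s]
        exact Scheme.fromSpecResidueField_apply s _
      exact h1
    rw [localDim_eq f s a _ rfl hfx]
    exact hd _
  exact ⟨hequi, SingCrit.atWorstNodal (S.residueField s) (f.fiber s) hequi (isCIOver_fibre f hs s)
    (formallyUnramified_fibre f hu s)⟩

theorem isField_stalk (k : Type u) [Field k] (y : Spec (CommRingCat.of k)) :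
    IsField ((Spec (CommRingCat.of k)).presheaf.stalk y) := by
  letI := (Spec (CommRingCat.of k)).presheaf.algebra_section_stalk (U := ⊤) ⟨y, trivial⟩
  haveI := (isAffineOpen_top (Spec (CommRingCat.of k))).isLocalization_stalk ⟨y, trivial⟩
  have hb := IsField.localization_map_bijective
    (M := ((isAffineOpen_top (Spec (CommRingCat.of k))).primeIdealOf ⟨y, trivial⟩).asIdeal.primeCompl)
    (Rₘ := (Spec (CommRingCat.of k)).presheaf.stalk y)
    (fun h => h (Ideal.zero_mem _)) (Lib.JacCrit.OverField.isField_top (K := k))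
  exact (RingEquiv.ofBijective _ hb).symm.toMulEquiv.isField (Lib.JacCrit.OverField.isField_top (K := k))

/-- A pure curve with at worst nodes is a nodal family over the point. -/
theorem isNodalFamily_field (k : Type u) [Field k] (Y : Scheme.{u}) [Y.Over (Spec (CommRingCat.of k))]
    [LocallyOfFiniteType (Y ↘ Spec (CommRingCat.of k))]
    (hequi : ∀ Z ∈ irreducibleComponents (Y : Type u), topologicalKrullDim Z = 1)
    (hn : Curv2.AtWorstNodal k Y) : Curv2.IsNodalFamily (Y ↘ Spec (CommRingCat.of k)) := by
  set p := Y ↘ Spec (CommRingCat.of k)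
  haveI : LocallyOfFinitePresentation p := LocallyOfFinitePresentation.iff_locallyOfFiniteType.2 inferInstance
  haveI : Flat p := (Flat.iff_flat_stalkMap p).2 (Lib.JacCrit.OverField.flat_stalkMap p)
  refine ⟨inferInstance, inferInstance, fun s => ?_⟩
  have hall : ∀ x : Y, Morse.NodeOpen.IsNodalAt p x := by
    intro x
    haveI := SingCrit.isIso_fiberι k Y p (p x)
    let F := p.fiber (p x)
    have hd := SingCrit.equidim_fibre k Y hequi (p x)
    rcases AtWorst.smooth_or_node k Y (AtWorst.dim_le_one Y hequi) hn x with hsm | hnode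
    · exact Morse.Locus.of_smooth p x hsm hd
    · refine Morse.NodeOpen.of_node p x ?_
      exact transfer k Y x hnode
  have h1 : Morse.Locus.nodalLocus p = ⊤ := top_le_iff.1 fun x _ => hall x
  have h2 := Morse.Locus.isNodalFamily_nodalLocus p
  haveI : IsIso (Morse.Locus.nodalLocus p).ι := by rw [h1]; exact inferInstanceAs (IsIso Y.topIso.hom)
  have h3 := S1592.result _ h2 (inv (Morse.Locus.nodalLocus p).ι)
  rw [IsIso.inv_hom_id_assoc] at h3
  exact h3.2.2 s
where
  transfer (k : Type u) [Field k] (Y : Scheme.{u}) [Y.Over (Spec (CommRingCat.of k))]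
      [LocallyOfFiniteType (Y ↘ Spec (CommRingCat.of k))] (x : Y) (hx : Curv2.IsNode k Y x) :
      @Curv2.IsNode ((Spec (CommRingCat.of k)).residueField ((Y ↘ Spec (CommRingCat.of k)) x)) _
        ((Y ↘ Spec (CommRingCat.of k)).fiber ((Y ↘ Spec (CommRingCat.of k)) x))
        ⟨(Y ↘ Spec (CommRingCat.of k)).fiberToSpecResidueField _⟩
        ((Y ↘ Spec (CommRingCat.of k)).asFiber x) := by
    let p := Y ↘ Spec (CommRingCat.of k)
    let k' : Type u := (Spec (CommRingCat.of k)).residueField (p x)
    let F := p.fiber (p x)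
    letI : F.Over (Spec (CommRingCat.of k')) := ⟨p.fiberToSpecResidueField (p x)⟩
    haveI : LocallyOfFiniteType (F ↘ Spec (CommRingCat.of k')) :=
      inferInstanceAs (LocallyOfFiniteType (pullback.snd p ((Spec (CommRingCat.of k)).fromSpecResidueField (p x))))
    haveI := SingCrit.isIso_fiberι k Y p (p x)
    haveI : IsLocallyNoetherian Y := LocallyOfFiniteType.isLocallyNoetherian p
    haveI : IsLocallyNoetherian F := LocallyOfFiniteType.isLocallyNoetherian (F ↘ Spec (CommRingCat.of k'))
    obtain ⟨hcl, hsep, hN⟩ := (Sch.isNode_iff k Y x).1 hx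
    haveI := hsep
    obtain ⟨φ, hφ, hker, hcompat⟩ := FibreStalk.exists_stalkHom p (p x) (p.asFiber x) x (p.fiberι_asFiber x) rfl
    have hinj : Function.Injective φ := by
      rw [injective_iff_map_eq_zero]
      intro a ha
      have h1 : a ∈ RingHom.ker φ := ha
      rw [hker, (IsLocalRing.isField_iff_maximalIdeal_eq.1 (isField_stalk k (p x))),
        Ideal.map_bot] at h1
      exact h1
    let E : Y.presheaf.stalk x ≃+* F.presheaf.stalk (p.asFiber x) := RingEquiv.ofBijective φ ⟨hinj, hφ⟩
    refine (Sch.isNode_iff k' F _).2 ⟨?_, ?_, Quadratic.isNodal_of_ringEquiv E hN⟩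
    · have h1 : IsClosed ((p.fiberι (p x)).base ⁻¹' {x}) := hcl.preimage (p.fiberι (p x)).continuous
      convert h1 using 1
      ext a
      simp only [Set.mem_singleton_iff, Set.mem_preimage]
      exact ⟨fun e => e ▸ p.fiberι_asFiber x,
        fun e => (p.fiberι (p x)).isEmbedding.injective (e.trans (p.fiberι_asFiber x).symm)⟩
    · let A := Y.presheaf.stalk x
      let B := F.presheaf.stalk (p.asFiber x)
      let ψ : k →+* k' := ((Spec (CommRingCat.of k)).residue (p x)).hom.comp
        (((Spec (CommRingCat.of k)).presheaf.germ ⊤ (p x) trivial).hom.comp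
          (Scheme.ΓSpecIso (CommRingCat.of k)).inv.hom)
      have hψ : ∀ c : k, Curv2.stalkMap k' F (p.asFiber x) (ψ c) = φ (Curv2.stalkMap k Y x c) := by
        intro c
        refine (hcompat _).trans (congrArg φ ?_)
        rw [RingHom.comp_apply]
        erw [TopCat.Presheaf.germ_stalkSpecializes_apply]
        exact Scheme.Hom.germ_stalkMap_apply p ⊤ x trivial _
      letI : Algebra k k' := ψ.toAlgebra
      let Er : IsLocalRing.ResidueField A ≃+* IsLocalRing.ResidueField B := IsLocalRing.ResidueField.mapEquiv E
      letI : Algebra k (IsLocalRing.ResidueField B) :=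
        ((algebraMap k' (IsLocalRing.ResidueField B)).comp ψ).toAlgebra
      haveI : IsScalarTower k k' (IsLocalRing.ResidueField B) := IsScalarTower.of_algebraMap_eq fun _ => rfl
      let Ea : IsLocalRing.ResidueField A ≃ₐ[k] IsLocalRing.ResidueField B := AlgEquiv.ofRingEquiv (f := Er) fun c => by
        show Er (IsLocalRing.residue A (Curv2.stalkMap k Y x c)) =
          IsLocalRing.residue B (Curv2.stalkMap k' F (p.asFiber x) (ψ c))
        rw [hψ]
        rfl
      haveI : Algebra.IsSeparable k (IsLocalRing.ResidueField B) :=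
        AlgEquiv.Algebra.isSeparable Ea
      exact Algebra.isSeparable_tower_top_of_isSeparable k k' (IsLocalRing.ResidueField B)

end Groth.Agent.H25.Node.SingFamily
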