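import Groth.Agent.Lib.Synt92.MorOverField
import Groth.Agent.Lib.JacCrit.OverField
import Groth.Agent.Lib.JacCrit.Regular
import Groth.Prelude.Def_CurvBase
import Mathlib.RingTheory.Etale.Field

/-! Regular points with separable residue field are smooth. -/

set_option autoImplicit false
set_option linter.style.haveILetI false
universe u
open CategoryTheory CategoryTheory.Limits AlgebraicGeometry

attribute [local instance] Curv2.stalkAlgebra

namespace Groth.Agent.H25.Node.SmoothPoint

open IsLocalRing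

variable (k : Type u) [Field k] (X : Scheme.{u}) [X.Over (Spec (CommRingCat.of k))]
  [LocallyOfFiniteType (X ↘ Spec (CommRingCat.of k))]

omit [LocallyOfFiniteType (X ↘ Spec (CommRingCat.of k))] in
theorem stalkMap_eq (x : X) : Curv2.stalkMap k X x =
    ((Scheme.ΓSpecIso (CommRingCat.of k)).inv ≫ (X ↘ Spec (CommRingCat.of k)).appLE ⊤ ⊤ le_top ≫
      X.presheaf.germ ⊤ x trivial).hom := by
  rw [Curv2.stalkMap, Coh.toGlobal, CommRingCat.hom_comp, CommRingCat.hom_comp, RingHom.comp_assoc]
  simp [Scheme.Hom.appLE]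

theorem mem_smoothLocus [LocallyOfFinitePresentation (X ↘ Spec (CommRingCat.of k))] (x : X)
    (hreg : IsRegularLocalRing (X.presheaf.stalk x))
    (hsep : Algebra.IsSeparable k (IsLocalRing.ResidueField (X.presheaf.stalk x))) :
    x ∈ (X ↘ Spec (CommRingCat.of k)).smoothLocus := by
  set f := X ↘ Spec (CommRingCat.of k) with hf
  obtain ⟨U, hU, hxU, -⟩ := exists_isAffineOpen_mem_and_subset (X := X) (x := x) (U := ⊤) trivial
  set P := (hU.primeIdealOf ⟨x, hxU⟩).asIdeal
  letI := (Lib.Synt92.MorOverField.secHom f U).toAlgebra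
  haveI : Algebra.FiniteType k Γ(X, U) := Lib.Synt92.MorOverField.finiteType_secHom f hU
  obtain ⟨e₁, he₁⟩ : ∃ e : Localization.AtPrime P ≃+* X.presheaf.stalk x,
      ∀ c : k, e (algebraMap k _ c) = Curv2.stalkMap k X x c := by
    rw [stalkMap_eq]
    letI := ((Scheme.ΓSpecIso (CommRingCat.of k)).inv ≫ f.appLE ⊤ ⊤ le_top ≫
      X.presheaf.germ ⊤ x trivial).hom.toAlgebra
    obtain ⟨e₀⟩ := (Lib.Synt92.MorOverField.chart f hU hxU).2 P inferInstance rfl
    exact ⟨e₀.toRingEquiv, fun c => e₀.commutes c⟩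
  let e : Localization.AtPrime P ≃ₐ[k] X.presheaf.stalk x := AlgEquiv.ofRingEquiv (f := e₁) he₁
  haveI := hreg
  haveI : IsRegularLocalRing (Localization.AtPrime P) :=
    IsRegularLocalRing.of_ringEquiv e.symm.toRingEquiv
  haveI : IsLocalHom e.toRingEquiv.toRingHom := IsLocalHom.of_surjective _ e.surjective
  haveI : Algebra.IsSeparable k P.ResidueField := by
    haveI := hsep
    let g : P.ResidueField →ₐ[k] IsLocalRing.ResidueField (X.presheaf.stalk x) :=
      { ResidueField.map e.toRingEquiv.toRingHom with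
        commutes' := fun c => by
          show ResidueField.map e.toRingEquiv.toRingHom (residue _ (algebraMap k _ c)) =
            residue _ (algebraMap k _ c)
          rw [ResidueField.map_residue]
          exact congrArg _ (e.commutes c) }
    exact Algebra.IsSeparable.of_algHom k _ g
  haveI : Algebra.FormallyEtale k P.ResidueField := Algebra.FormallyEtale.of_isSeparable k _
  haveI hk : Algebra.IsSmoothAt k P := Lib.JacCrit.Regular.isSmoothAt k P
  have eU : U ≤ f ⁻¹ᵁ ⊤ := fun _ _ => trivial
  rw [Scheme.Hom.mem_smoothLocus, formallySmooth_stalkMap_iff ⊤ (isAffineOpen_top _) U hU eU hxU]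
  letI := (f.appLE ⊤ U eU).hom.toAlgebra
  letI : Algebra k Γ(Spec (CommRingCat.of k), ⊤) :=
    (Scheme.ΓSpecIso (CommRingCat.of k)).inv.hom.toAlgebra
  haveI : IsScalarTower k Γ(Spec (CommRingCat.of k), ⊤) Γ(X, U) :=
    IsScalarTower.of_algebraMap_eq fun _ => rfl
  haveI : Algebra.FormallyEtale k Γ(Spec (CommRingCat.of k), ⊤) :=
    Algebra.FormallyEtale.of_equiv (AlgEquiv.ofRingEquiv (R := k)
      (f := (Scheme.ΓSpecIso (CommRingCat.of k)).symm.commRingCatIsoToRingEquiv) fun _ => rfl)
  haveI : IsScalarTower k Γ(Spec (CommRingCat.of k), ⊤) (Localization.AtPrime P) := inferInstance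
  show Algebra.FormallySmooth Γ(Spec (CommRingCat.of k), ⊤) (Localization.AtPrime P)
  haveI : Algebra.FormallySmooth k (Localization.AtPrime P) := hk
  exact Algebra.FormallySmooth.of_restrictScalars k _ _

end Groth.Agent.H25.Node.SmoothPoint
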