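import Mathlib.RingTheory.LocalRing.Length
import Mathlib.RingTheory.Ideal.Cotangent
import Mathlib.RingTheory.Finiteness.Basic
import Mathlib.LinearAlgebra.Dimension.Finrank
import Mathlib.Algebra.Module.SpanRankOperations
import Mathlib.RingTheory.Ideal.Quotient.Operations
import Mathlib.RingTheory.TensorProduct.Quotient
import Mathlib.RingTheory.Flat.FaithfullyFlat.Algebra
import Mathlib.Tactic.LinearCombination
import Mathlib.Tactic.Ring

/-!
Nodal local rings: two generators of the maximal ideal satisfying a nondegenerate quadratic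
relation modulo the cube of the maximal ideal, with `length (A/m^(n+1)) = 2n+1`.
The notion is intrinsic and is insensitive to flat local maps with trivial closed fibre.
-/

set_option autoImplicit false
set_option linter.style.haveILetI false
universe u

namespace Groth.Agent.H25.Node

open IsLocalRing

variable (A : Type u) [CommRing A] [IsLocalRing A]

/-- `a x² + b x y + c y²`. -/
def quad {R : Type*} [CommRing R] (v : Fin 3 → R) (x y : R) : R :=
  v 0 * x ^ 2 + v 1 * (x * y) + v 2 * y ^ 2

/-- `4 a c - b²`. -/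
def disc {R : Type*} [CommRing R] (v : Fin 3 → R) : R := 4 * v 0 * v 2 - v 1 ^ 2

theorem map_quad {R S : Type*} [CommRing R] [CommRing S] (f : R →+* S) (v : Fin 3 → R) (x y : R) :
    f (quad v x y) = quad (f ∘ v) (f x) (f y) := by
  simp [quad]

theorem map_disc {R S : Type*} [CommRing R] [CommRing S] (f : R →+* S) (v : Fin 3 → R) :
    f (disc v) = disc (f ∘ v) := by
  simp [disc, map_ofNat]

/-- Nodal local rings. -/
structure IsNodal : Prop where
  length : ∀ n : ℕ, Module.length A (A ⧸ maximalIdeal A ^ (n + 1)) = (2 * n + 1 : ℕ)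
  exists_rel : ∃ x y : A, Ideal.span {x, y} = maximalIdeal A ∧ ∃ v : Fin 3 → A,
    quad v x y ∈ maximalIdeal A ^ 3 ∧ IsUnit (disc v)

variable {A}

theorem length_residue_pi (d : ℕ) : Module.length A (Fin d → ResidueField A) = d := by
  rw [Module.length_pi_of_fintype]
  haveI : IsSimpleModule A (ResidueField A) :=
    isSimpleModule_iff_isCoatom.2 (maximalIdeal.isMaximal A).1
  simp [Module.length_eq_one]

/-- The linear map `v ↦ ∑ vᵢ fᵢ` modulo an ideal, factored through the residue field. -/
theorem exists_factor {d e : ℕ} (f : Fin d → A) (hf : ∀ i, f i ∈ maximalIdeal A ^ e)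
    (hfull : maximalIdeal A ^ e ≤ Ideal.span (Set.range f) ⊔ maximalIdeal A ^ (e + 1)) :
    ∃ φ : (Fin d → ResidueField A) →ₗ[A] A ⧸ maximalIdeal A ^ (e + 1),
      (∀ v : Fin d → A, φ (residue A ∘ v) = Ideal.Quotient.mk _ (∑ i, v i * f i)) ∧
      Module.length A (LinearMap.range φ) + Module.length A (A ⧸ maximalIdeal A ^ e) =
        Module.length A (A ⧸ maximalIdeal A ^ (e + 1)) := by
  classical
  let I := maximalIdeal A ^ (e + 1)
  let ψ : (Fin d → A) →ₗ[A] A ⧸ I :=
    (Ideal.Quotient.mkₐ A I).toLinearMap.comp (Fintype.linearCombination A f)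
  have hψ : ∀ v, ψ v = Ideal.Quotient.mk I (∑ i, v i * f i) := fun v => by
    simp [ψ, Fintype.linearCombination_apply]
  let π : (Fin d → A) →ₗ[A] (Fin d → ResidueField A) :=
    LinearMap.pi fun i => (Algebra.linearMap A (ResidueField A)).comp (LinearMap.proj i)
  have hπ : ∀ v, π v = residue A ∘ v := fun v => rfl
  have hπs : Function.Surjective π := fun w => by
    choose v hv using fun i => residue_surjective (w i)
    exact ⟨v, funext hv⟩
  have hker : LinearMap.ker π ≤ LinearMap.ker ψ := fun v hv => by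
    rw [LinearMap.mem_ker, hψ, Ideal.Quotient.eq_zero_iff_mem]
    refine Submodule.sum_mem _ fun i _ => ?_
    show v i * f i ∈ maximalIdeal A ^ (e + 1)
    rw [pow_succ']
    exact Ideal.mul_mem_mul ((residue_eq_zero_iff _).1 (congrFun hv i)) (hf i)
  let φ := ((LinearMap.ker π).liftQ ψ hker).comp (π.quotKerEquivOfSurjective hπs).symm.toLinearMap
  have hφπ : ∀ v, φ (π v) = ψ v := fun v => by
    show (LinearMap.ker π).liftQ ψ hker ((π.quotKerEquivOfSurjective hπs).symm (π v)) = ψ v
    rw [show (π.quotKerEquivOfSurjective hπs).symm (π v) = Submodule.Quotient.mk v by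
      rw [LinearEquiv.symm_apply_eq]; rfl, Submodule.liftQ_apply]
  refine ⟨φ, fun v => (hφπ v).trans (hψ v), ?_⟩
  have hle : I ≤ maximalIdeal A ^ e := Ideal.pow_le_pow_right (Nat.le_succ e)
  let g : (A ⧸ I) →ₗ[A] A ⧸ maximalIdeal A ^ e := (Ideal.Quotient.factorₐ A hle).toLinearMap
  refine (Module.length_eq_add_of_exact (LinearMap.range φ).subtype g Subtype.val_injective
    (Ideal.Quotient.factor_surjective hle) ?_).symm
  rw [LinearMap.exact_iff, Submodule.range_subtype]
  ext z
  obtain ⟨z, rfl⟩ := Ideal.Quotient.mk_surjective z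
  rw [LinearMap.mem_ker]
  constructor
  · intro hz
    have hz' : z ∈ maximalIdeal A ^ e := Ideal.Quotient.eq_zero_iff_mem.1 hz
    obtain ⟨s, hs, t, ht, rfl⟩ := Submodule.mem_sup.1 (hfull hz')
    obtain ⟨c, rfl⟩ := (Submodule.mem_span_range_iff_exists_fun A).1 hs
    refine ⟨π c, ?_⟩
    rw [hφπ, hψ, map_add (Ideal.Quotient.mk I), Ideal.Quotient.eq_zero_iff_mem.2 ht, add_zero]
    simp
  · rintro ⟨w, hw⟩
    obtain ⟨c, rfl⟩ := hπs w
    rw [hφπ, hψ] at hw
    rw [← hw]
    exact Ideal.Quotient.eq_zero_iff_mem.2 (Submodule.sum_mem _ fun i _ => Ideal.mul_mem_left _ _ (hf i))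

/-- Successive quotients spanned by `d` elements have length at most `d`. -/
theorem length_succ_le {d e : ℕ} (f : Fin d → A) (hf : ∀ i, f i ∈ maximalIdeal A ^ e)
    (hfull : maximalIdeal A ^ e ≤ Ideal.span (Set.range f) ⊔ maximalIdeal A ^ (e + 1)) :
    Module.length A (A ⧸ maximalIdeal A ^ (e + 1)) ≤
      d + Module.length A (A ⧸ maximalIdeal A ^ e) := by
  obtain ⟨φ, -, hl⟩ := exists_factor f hf hfull
  rw [← hl, ← length_residue_pi (A := A) d]
  gcongr
  exact Module.length_le_of_surjective φ.rangeRestrict φ.surjective_rangeRestrict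

section Pair

variable {x y : A} (hxy : Ideal.span {x, y} = maximalIdeal A)
include hxy

theorem mem_left : x ∈ maximalIdeal A := hxy ▸ Ideal.subset_span (by simp)

theorem mem_right : y ∈ maximalIdeal A := hxy ▸ Ideal.subset_span (by simp)

theorem pow_one_le : maximalIdeal A ^ 1 ≤ Ideal.span (Set.range ![x, y]) ⊔ maximalIdeal A ^ 2 := by
  rw [pow_one, Matrix.range_cons_cons_empty, hxy]
  exact le_sup_left

theorem sq_le : maximalIdeal A ^ 2 ≤
    Ideal.span (Set.range ![x ^ 2, x * y, y ^ 2]) ⊔ maximalIdeal A ^ 3 := by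
  refine le_trans ?_ le_sup_left
  rw [pow_two, ← hxy, Ideal.span_mul_span', Ideal.span_le]
  rintro _ ⟨p, hp, q, hq, rfl⟩
  have h : ∀ i, ![x ^ 2, x * y, y ^ 2] i ∈ Ideal.span (Set.range ![x ^ 2, x * y, y ^ 2]) := fun i =>
    Ideal.subset_span (Set.mem_range_self i)
  rcases hp with rfl | rfl <;> rcases hq with rfl | rfl
  · simpa [pow_two] using h 0
  · simpa using h 1
  · simpa [mul_comm] using h 1
  · simpa [pow_two] using h 2

theorem sq_mem (i : Fin 3) : ![x ^ 2, x * y, y ^ 2] i ∈ maximalIdeal A ^ 2 := by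
  have hx := mem_left hxy
  have hy := mem_right hxy
  fin_cases i
  · exact Ideal.pow_mem_pow hx 2
  · simpa [pow_two] using Ideal.mul_mem_mul hx hy
  · exact Ideal.pow_mem_pow hy 2

/-- A quadratic relation with a unit first coefficient bounds the lengths. -/
theorem pow_le_of_left (h : x ^ 2 ∈ Ideal.span {x * y, y ^ 2} ⊔ maximalIdeal A ^ 3) :
    ∀ n, maximalIdeal A ^ (n + 1) ≤
      Ideal.span (Set.range ![x * y ^ n, y ^ (n + 1)]) ⊔ maximalIdeal A ^ (n + 2)
  | 0 => by simpa using pow_one_le hxy
  | n + 1 => by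
    have hx := mem_left hxy
    have hy := mem_right hxy
    set S := Ideal.span (Set.range ![x * y ^ (n + 1), y ^ (n + 2)]) ⊔ maximalIdeal A ^ (n + 3)
    have h1 : x * y ^ (n + 1) ∈ S := Ideal.mem_sup_left (Ideal.subset_span ⟨0, rfl⟩)
    have h2 : y ^ (n + 2) ∈ S := Ideal.mem_sup_left (Ideal.subset_span ⟨1, rfl⟩)
    have h3 : x ^ 2 * y ^ n ∈ S := by
      obtain ⟨s, hs, t, ht, hst⟩ := Submodule.mem_sup.1 h
      obtain ⟨p, q, rfl⟩ := Ideal.mem_span_pair.1 hs
      rw [← hst]
      have ht' : t * y ^ n ∈ S := Ideal.mem_sup_right (by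
        rw [show n + 3 = 3 + n by ring, pow_add]
        exact Ideal.mul_mem_mul ht (Ideal.pow_mem_pow hy n))
      have e : (p * (x * y) + q * y ^ 2 + t) * y ^ n =
          p * (x * y ^ (n + 1)) + q * y ^ (n + 2) + t * y ^ n := by ring
      rw [e]
      exact add_mem (add_mem (S.mul_mem_left p h1) (S.mul_mem_left q h2)) ht'
    have key : (Ideal.span (Set.range ![x * y ^ n, y ^ (n + 1)]) ⊔ maximalIdeal A ^ (n + 2)) *
        maximalIdeal A ≤ S := by
      rw [Ideal.sup_mul, ← pow_succ]
      refine sup_le ?_ le_sup_right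
      rw [← hxy, Ideal.span_mul_span', Ideal.span_le]
      rintro _ ⟨_, ⟨i, rfl⟩, q, hq, rfl⟩
      fin_cases i <;> rcases hq with rfl | rfl <;> simp only [Matrix.cons_val_zero,
        Matrix.cons_val_one, Fin.mk_one, Fin.zero_eta, SetLike.mem_coe]
      · convert h3 using 1; ring
      · convert h1 using 1; ring
      · convert h1 using 1; ring
      · convert h2 using 1; ring
    rw [pow_succ _ (n + 1)]
    exact (Ideal.mul_mono_left (pow_le_of_left h n)).trans key

/-- The case `x y ∈ m³`. -/
theorem pow_le_of_mid (h : x * y ∈ maximalIdeal A ^ 3) :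
    ∀ n, maximalIdeal A ^ (n + 1) ≤
      Ideal.span (Set.range ![x ^ (n + 1), y ^ (n + 1)]) ⊔ maximalIdeal A ^ (n + 2)
  | 0 => by simpa using pow_one_le hxy
  | n + 1 => by
    have hx := mem_left hxy
    have hy := mem_right hxy
    set S := Ideal.span (Set.range ![x ^ (n + 2), y ^ (n + 2)]) ⊔ maximalIdeal A ^ (n + 3)
    have h1 : x ^ (n + 2) ∈ S := Ideal.mem_sup_left (Ideal.subset_span ⟨0, rfl⟩)
    have h2 : y ^ (n + 2) ∈ S := Ideal.mem_sup_left (Ideal.subset_span ⟨1, rfl⟩)
    have h3 : ∀ z ∈ maximalIdeal A, (x * y) * z ^ n ∈ S := fun z hz => Ideal.mem_sup_right (by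
      rw [show n + 3 = 3 + n by ring, pow_add]
      exact Ideal.mul_mem_mul h (Ideal.pow_mem_pow hz n))
    have key : (Ideal.span (Set.range ![x ^ (n + 1), y ^ (n + 1)]) ⊔ maximalIdeal A ^ (n + 2)) *
        maximalIdeal A ≤ S := by
      rw [Ideal.sup_mul, ← pow_succ]
      refine sup_le ?_ le_sup_right
      rw [← hxy, Ideal.span_mul_span', Ideal.span_le]
      rintro _ ⟨_, ⟨i, rfl⟩, q, hq, rfl⟩
      fin_cases i <;> rcases hq with rfl | rfl <;> simp only [Matrix.cons_val_zero,
        Matrix.cons_val_one, Fin.mk_one, Fin.zero_eta, SetLike.mem_coe]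
      · convert h1 using 1; ring
      · convert h3 x hx using 1; ring
      · convert h3 y hy using 1; ring
      · convert h2 using 1; ring
    rw [pow_succ _ (n + 1)]
    exact (Ideal.mul_mono_left (pow_le_of_mid h n)).trans key

omit hxy in
theorem isUnit_or (v : Fin 3 → A) (hv : IsUnit (disc v)) :
    IsUnit (v 0) ∨ IsUnit (v 2) ∨
      (IsUnit (v 1) ∧ v 0 ∈ maximalIdeal A ∧ v 2 ∈ maximalIdeal A) := by
  by_cases h0 : IsUnit (v 0)
  · exact Or.inl h0
  by_cases h2 : IsUnit (v 2)
  · exact Or.inr (Or.inl h2)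
  refine Or.inr (Or.inr ⟨?_, h0, h2⟩)
  by_contra h1
  have hm : disc v ∈ maximalIdeal A := sub_mem
    (Ideal.mul_mem_left _ _ ((mem_maximalIdeal _).2 h2))
    (Ideal.pow_mem_of_mem _ ((mem_maximalIdeal _).2 h1) 2 (by norm_num))
  exact (mem_maximalIdeal _).1 hm hv

/-- The lengths are at most `2n+1`. -/
theorem length_le {v : Fin 3 → A} (hv : quad v x y ∈ maximalIdeal A ^ 3) (hd : IsUnit (disc v)) :
    ∀ n, Module.length A (A ⧸ maximalIdeal A ^ (n + 1)) ≤ (2 * n + 1 : ℕ)
  | 0 => by
    rw [zero_add, pow_one]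
    haveI : IsSimpleModule A (A ⧸ maximalIdeal A) :=
      isSimpleModule_iff_isCoatom.2 (maximalIdeal.isMaximal A).1
    simp [Module.length_eq_one]
  | n + 1 => by
    have hx := mem_left hxy
    have hy := mem_right hxy
    obtain ⟨f, hf, hfull⟩ : ∃ f : Fin 2 → A, (∀ i, f i ∈ maximalIdeal A ^ (n + 1)) ∧
        maximalIdeal A ^ (n + 1) ≤ Ideal.span (Set.range f) ⊔ maximalIdeal A ^ (n + 2) := by
      rcases isUnit_or v hd with h | h | ⟨h, h0, h2⟩
      · refine ⟨_, ?_, pow_le_of_left hxy ?_ n⟩
        · intro i; fin_cases i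
          · simpa [pow_succ', mul_comm] using Ideal.mul_mem_mul hx (Ideal.pow_mem_pow hy n)
          · exact Ideal.pow_mem_pow hy (n + 1)
        · obtain ⟨w, hw⟩ := h.exists_left_inv
          have e : x ^ 2 = ((-(w * v 1)) * (x * y) + (-(w * v 2)) * y ^ 2) + w * quad v x y := by
            unfold quad; linear_combination (-x ^ 2) * hw
          rw [e]
          exact add_mem (Ideal.mem_sup_left (Ideal.mem_span_pair.2 ⟨_, _, rfl⟩))
            (Ideal.mem_sup_right (Ideal.mul_mem_left _ _ hv))
      · have hyx : Ideal.span {y, x} = maximalIdeal A := by rw [Set.pair_comm]; exact hxy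
        refine ⟨_, ?_, pow_le_of_left hyx ?_ n⟩
        · intro i; fin_cases i
          · simpa [pow_succ', mul_comm] using Ideal.mul_mem_mul hy (Ideal.pow_mem_pow hx n)
          · exact Ideal.pow_mem_pow hx (n + 1)
        · obtain ⟨w, hw⟩ := h.exists_left_inv
          have e : y ^ 2 = ((-(w * v 1)) * (y * x) + (-(w * v 0)) * x ^ 2) + w * quad v x y := by
            unfold quad; linear_combination (-y ^ 2) * hw
          rw [e]
          exact add_mem (Ideal.mem_sup_left (Ideal.mem_span_pair.2 ⟨_, _, rfl⟩))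
            (Ideal.mem_sup_right (Ideal.mul_mem_left _ _ hv))
      · refine ⟨_, ?_, pow_le_of_mid hxy ?_ n⟩
        · intro i; fin_cases i
          · exact Ideal.pow_mem_pow hx (n + 1)
          · exact Ideal.pow_mem_pow hy (n + 1)
        · obtain ⟨w, hw⟩ := h.exists_left_inv
          have e : x * y = w * quad v x y - w * (v 0 * x ^ 2) - w * (v 2 * y ^ 2) := by
            unfold quad; linear_combination (-(x * y)) * hw
          rw [e, pow_succ']
          refine sub_mem (sub_mem (pow_succ' (maximalIdeal A) 2 ▸ Ideal.mul_mem_left _ _ hv) ?_) ?_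
          · exact Ideal.mul_mem_left _ _ (Ideal.mul_mem_mul h0 (Ideal.pow_mem_pow hx 2))
          · exact Ideal.mul_mem_left _ _ (Ideal.mul_mem_mul h2 (Ideal.pow_mem_pow hy 2))
    refine (length_succ_le f hf hfull).trans ((add_le_add le_rfl (length_le hv hd n)).trans ?_)
    norm_cast
    omega

end Pair

/-- It suffices to bound the lengths from below. -/
theorem IsNodal.of_le {x y : A} (hxy : Ideal.span {x, y} = maximalIdeal A) {v : Fin 3 → A}
    (hv : quad v x y ∈ maximalIdeal A ^ 3) (hd : IsUnit (disc v))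
    (h : ∀ n : ℕ, ((2 * n + 1 : ℕ) : ℕ∞) ≤ Module.length A (A ⧸ maximalIdeal A ^ (n + 1))) :
    IsNodal A :=
  ⟨fun n => le_antisymm (length_le hxy hv hd n) (h n), x, y, hxy, v, hv, hd⟩

variable (A) in
/-- The Hilbert function of a node. -/
def HasLengths : Prop :=
  ∀ n : ℕ, Module.length A (A ⧸ maximalIdeal A ^ (n + 1)) = (2 * n + 1 : ℕ)

namespace HasLengths

variable (h : HasLengths A) {x y : A} (hxy : Ideal.span {x, y} = maximalIdeal A)
include h hxy

/-- Two generators of the maximal ideal are independent modulo its square. -/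
theorem coeff_mem {α β : A} (hab : α * x + β * y ∈ maximalIdeal A ^ 2) :
    α ∈ maximalIdeal A ∧ β ∈ maximalIdeal A := by
  obtain ⟨φ, hφ, hl⟩ := exists_factor (e := 1) ![x, y]
    (fun i => by fin_cases i <;> simp [mem_left hxy, mem_right hxy]) (pow_one_le hxy)
  have h1 : Module.length A (A ⧸ maximalIdeal A ^ 1) = 1 := by
    simpa using h 0
  rw [h1, show Module.length A (A ⧸ maximalIdeal A ^ (1 + 1)) = ((3 : ℕ) : ℕ∞) by simpa using h 1] at hl
  have hker := Module.length_eq_add_of_exact (LinearMap.ker φ).subtype φ.rangeRestrict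
    Subtype.val_injective φ.surjective_rangeRestrict (by
      rw [LinearMap.exact_iff, Submodule.range_subtype, LinearMap.ker_rangeRestrict])
  rw [length_residue_pi] at hker
  have hr : Module.length A (LinearMap.range φ) = ((2 : ℕ) : ℕ∞) := by
    generalize Module.length A (LinearMap.range φ) = l at hl
    induction l using ENat.recTopCoe with
    | top => simp at hl
    | coe l => norm_cast at hl ⊢; omega
  rw [hr] at hker
  have h0 : Module.length A (LinearMap.ker φ) = 0 := by
    generalize Module.length A (LinearMap.ker φ) = l at hker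
    induction l using ENat.recTopCoe with
    | top => simp at hker
    | coe l => norm_cast at hker ⊢; omega
  haveI := Module.length_eq_zero_iff.1 h0
  have hmem : residue A ∘ ![α, β] ∈ LinearMap.ker φ := by
    rw [LinearMap.mem_ker, hφ, Ideal.Quotient.eq_zero_iff_mem]
    simpa [Fin.sum_univ_two] using hab
  have h2 : residue A ∘ ![α, β] = 0 :=
    congrArg Subtype.val (Subsingleton.elim (⟨_, hmem⟩ : LinearMap.ker φ) 0)
  exact ⟨(residue_eq_zero_iff _).1 (congrFun h2 0), (residue_eq_zero_iff _).1 (congrFun h2 1)⟩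

/-- There is a quadratic relation, unique up to a scalar modulo the maximal ideal. -/
theorem exists_unique_rel :
    (∃ v : Fin 3 → A, quad v x y ∈ maximalIdeal A ^ 3 ∧ residue A ∘ v ≠ 0) ∧
      ∀ v w : Fin 3 → A, quad v x y ∈ maximalIdeal A ^ 3 → quad w x y ∈ maximalIdeal A ^ 3 →
        residue A ∘ v ≠ 0 → ∃ t : A, ∀ i, residue A (w i) = residue A (t * v i) := by
  obtain ⟨φ, hφ, hl⟩ := exists_factor (e := 2) ![x ^ 2, x * y, y ^ 2] (sq_mem hxy) (sq_le hxy)
  rw [show Module.length A (A ⧸ maximalIdeal A ^ 2) = ((3 : ℕ) : ℕ∞) by simpa using h 1,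
    show Module.length A (A ⧸ maximalIdeal A ^ (2 + 1)) = ((5 : ℕ) : ℕ∞) by simpa using h 2] at hl
  have hker := Module.length_eq_add_of_exact (LinearMap.ker φ).subtype φ.rangeRestrict
    Subtype.val_injective φ.surjective_rangeRestrict (by
      rw [LinearMap.exact_iff, Submodule.range_subtype, LinearMap.ker_rangeRestrict])
  rw [length_residue_pi] at hker
  have hr : Module.length A (LinearMap.range φ) = ((2 : ℕ) : ℕ∞) := by
    generalize Module.length A (LinearMap.range φ) = l at hl
    induction l using ENat.recTopCoe with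
    | top => simp at hl
    | coe l => norm_cast at hl ⊢; omega
  rw [hr] at hker
  have h0 : Module.length A (LinearMap.ker φ) = 1 := by
    generalize Module.length A (LinearMap.ker φ) = l at hker
    induction l using ENat.recTopCoe with
    | top => simp at hker
    | coe l => norm_cast at hker ⊢; omega
  haveI : IsSimpleModule A (LinearMap.ker φ) := Module.length_eq_one_iff.1 h0
  have hmem : ∀ v : Fin 3 → A, quad v x y ∈ maximalIdeal A ^ 3 →
      residue A ∘ v ∈ LinearMap.ker φ := fun v hv => by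
    rw [LinearMap.mem_ker, hφ, Ideal.Quotient.eq_zero_iff_mem]
    simpa [Fin.sum_univ_three, quad] using hv
  refine ⟨?_, fun v w hv hw hne => ?_⟩
  · haveI := IsSimpleModule.nontrivial A (LinearMap.ker φ)
    obtain ⟨z, hz⟩ := exists_ne (0 : LinearMap.ker φ)
    choose v hv using fun i => residue_surjective (z.1 i)
    have hv' : residue A ∘ v = z.1 := funext hv
    refine ⟨v, ?_, fun h0 => hz (Subtype.ext (hv'.symm.trans h0))⟩
    have := (LinearMap.mem_ker.1 z.2)
    rw [← hv', hφ, Ideal.Quotient.eq_zero_iff_mem] at this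
    simpa [Fin.sum_univ_three, quad] using this
  · have := IsSimpleModule.span_singleton_eq_top A
      (m := (⟨_, hmem v hv⟩ : LinearMap.ker φ)) (fun h0 => hne (congrArg Subtype.val h0))
    obtain ⟨t, ht⟩ := Submodule.mem_span_singleton.1
      (this ▸ Submodule.mem_top : (⟨_, hmem w hw⟩ : LinearMap.ker φ) ∈ _)
    refine ⟨t, fun i => ?_⟩
    have := congrFun (congrArg Subtype.val ht) i
    simp only [SetLike.val_smul, Pi.smul_apply, Function.comp_apply] at this
    rw [← this, map_mul, Algebra.smul_def]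
    rfl

end HasLengths

namespace IsNodal

variable (h : IsNodal A) {x y : A} (hxy : Ideal.span {x, y} = maximalIdeal A)
include h hxy

/-- Any nonzero relation is nondegenerate. -/
theorem isUnit_disc {v : Fin 3 → A} (hv : quad v x y ∈ maximalIdeal A ^ 3)
    (hne : residue A ∘ v ≠ 0) : IsUnit (disc v) := by
  obtain ⟨s, t, hst, w, hw, hwd⟩ := h.exists_rel
  obtain ⟨α, β, hs⟩ := Ideal.mem_span_pair.1 (hxy.ge (mem_left hst))
  obtain ⟨γ, δ, ht⟩ := Ideal.mem_span_pair.1 (hxy.ge (mem_right hst))
  obtain ⟨p, q, hx⟩ := Ideal.mem_span_pair.1 (hst.ge (mem_left hxy))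
  obtain ⟨r, o, hy⟩ := Ideal.mem_span_pair.1 (hst.ge (mem_right hxy))
  have hdet : IsUnit (α * δ - β * γ) := by
    obtain ⟨h1, h2⟩ := HasLengths.coeff_mem h.length hxy (α := p * α + q * γ - 1) (β := p * β + q * δ) (by
      have e : (p * α + q * γ - 1) * x + (p * β + q * δ) * y = 0 := by
        linear_combination p * hs + q * ht + hx
      rw [e]; exact zero_mem _)
    obtain ⟨h3, h4⟩ := HasLengths.coeff_mem h.length hxy (α := r * α + o * γ) (β := r * β + o * δ - 1) (by
      have e : (r * α + o * γ) * x + (r * β + o * δ - 1) * y = 0 := by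
        linear_combination r * hs + o * ht + hy
      rw [e]; exact zero_mem _)
    have e : (residue A) ((p * o - q * r) * (α * δ - β * γ)) = 1 := by
      have e1 : (p * o - q * r) * (α * δ - β * γ) =
          (p * α + q * γ) * (r * β + o * δ) - (p * β + q * δ) * (r * α + o * γ) := by ring
      have k1 := (residue_eq_zero_iff _).2 h1
      have k2 := (residue_eq_zero_iff _).2 h2
      have k4 := (residue_eq_zero_iff _).2 h4
      rw [map_sub, map_one, sub_eq_zero] at k1 k4
      rw [e1, map_sub, map_mul, map_mul, k1, k2, k4]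
      simp
    exact isUnit_of_mul_isUnit_right (residue_ne_zero_iff_isUnit _ |>.1 (by rw [e]; exact one_ne_zero))
  let w' : Fin 3 → A := ![w 0 * α ^ 2 + w 1 * (α * γ) + w 2 * γ ^ 2,
    2 * w 0 * α * β + w 1 * (α * δ + β * γ) + 2 * w 2 * γ * δ,
    w 0 * β ^ 2 + w 1 * (β * δ) + w 2 * δ ^ 2]
  have hw' : quad w' x y = quad w s t := by
    simp only [quad, w', ← hs, ← ht, Matrix.cons_val_zero, Matrix.cons_val_one, Matrix.cons_val]
    ring
  have hd' : disc w' = (α * δ - β * γ) ^ 2 * disc w := by
    simp only [disc, w', Matrix.cons_val_zero, Matrix.cons_val_one, Matrix.cons_val]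
    ring
  have hu : IsUnit (disc w') := hd' ▸ (hdet.pow 2).mul hwd
  obtain ⟨c, hc⟩ := (HasLengths.exists_unique_rel h.length hxy).2 v w' hv (hw' ▸ hw) hne
  have e : residue A (disc w') = residue A (c ^ 2 * disc v) := by
    simp only [disc, map_sub, map_mul, map_pow, hc, map_ofNat]
    ring
  have := residue_ne_zero_iff_isUnit _ |>.2 hu
  rw [e, residue_ne_zero_iff_isUnit] at this
  exact isUnit_of_mul_isUnit_right this

end IsNodal

/-- The length of the cotangent space. -/
theorem finrank_cotangentSpace_eq [IsNoetherianRing A] {d : ℕ}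
    (h : Module.length A (A ⧸ maximalIdeal A ^ 2) = (d + 1 : ℕ)) :
    Module.finrank (ResidueField A) (CotangentSpace A) = d := by
  have h1 : Module.length A (A ⧸ maximalIdeal A) = 1 := by
    haveI : IsSimpleModule A (A ⧸ maximalIdeal A) :=
      isSimpleModule_iff_isCoatom.2 (maximalIdeal.isMaximal A).1
    exact Module.length_eq_one _ _
  have hex := Module.length_eq_add_of_exact (maximalIdeal A).cotangentToQuotientSquare
    (Ideal.Quotient.factorₐ A (Ideal.pow_le_self two_ne_zero :
      maximalIdeal A ^ 2 ≤ maximalIdeal A)).toLinearMap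
    (Ideal.cotangentToQuotientSquare_injective _)
    (Ideal.Quotient.factor_surjective (Ideal.pow_le_self two_ne_zero :
      maximalIdeal A ^ 2 ≤ maximalIdeal A)) (by
      rw [LinearMap.exact_iff, Ideal.range_cotangentToQuotientSquare]
      ext z
      obtain ⟨z, rfl⟩ := Ideal.Quotient.mk_surjective z
      rw [Submodule.restrictScalars_mem, ← Ideal.mem_comap, Ideal.comap_cotangentIdeal,
        LinearMap.mem_ker]
      exact Ideal.Quotient.eq_zero_iff_mem)
  rw [h, h1, Module.length_eq_of_surjective (R := ResidueField A) (M := CotangentSpace A)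
    (IsLocalRing.residue_surjective), Module.length_eq_finrank] at hex
  norm_cast at hex
  omega

theorem exists_pair_of_length [IsNoetherianRing A]
    (h : Module.length A (A ⧸ maximalIdeal A ^ 2) = (3 : ℕ)) :
    ∃ x y : A, Ideal.span {x, y} = maximalIdeal A := by
  classical
  obtain ⟨s, hs, hspan⟩ := Submodule.FG.exists_span_finset_card_eq_spanFinrank
    (maximalIdeal A).fg_of_isNoetherianRing
  rw [spanFinrank_maximalIdeal_eq_finrank_cotangentSpace, finrank_cotangentSpace_eq (d := 2) h] at hs
  obtain ⟨x, y, -, rfl⟩ := Finset.card_eq_two.1 hs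
  exact ⟨x, y, by simpa using hspan⟩

section Flat

variable (A) (B : Type u) [CommRing B] [IsLocalRing B] [Algebra A B] [Module.Flat A B]

/-- Lengths along a flat local map. -/
theorem length_map [IsLocalHom (algebraMap A B)] (I : Ideal A) :
    Module.length B (B ⧸ I.map (algebraMap A B)) =
      Module.length A (A ⧸ I) * Module.length B (B ⧸ (maximalIdeal A).map (algebraMap A B)) := by
  rw [← IsLocalRing.length_baseChange A B]
  exact (Algebra.TensorProduct.quotIdealMapEquivTensorQuot B I).toLinearEquiv.length_eq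

variable [IsLocalHom (algebraMap A B)]
  (hm : (maximalIdeal A).map (algebraMap A B) = maximalIdeal B)
include hm

theorem length_pow (n : ℕ) : Module.length B (B ⧸ maximalIdeal B ^ n) =
    Module.length A (A ⧸ maximalIdeal A ^ n) := by
  haveI : IsSimpleModule B (B ⧸ maximalIdeal B) :=
    isSimpleModule_iff_isCoatom.2 (maximalIdeal.isMaximal B).1
  rw [← hm, ← Ideal.map_pow, length_map, hm, Module.length_eq_one B (B ⧸ maximalIdeal B), mul_one]

/-- Nodality along a flat local map with trivial closed fibre. -/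
theorem isNodal_iff [IsNoetherianRing A] : IsNodal A ↔ IsNodal B := by
  have hspan : ∀ x y : A, Ideal.span {x, y} = maximalIdeal A →
      Ideal.span {algebraMap A B x, algebraMap A B y} = maximalIdeal B := fun x y hxy => by
    rw [← hm, ← hxy, Ideal.map_span, Set.image_pair]
  have hpow : ∀ z : A, z ∈ maximalIdeal A ^ 3 → algebraMap A B z ∈ maximalIdeal B ^ 3 := fun z hz => by
    rw [← hm, ← Ideal.map_pow]; exact Ideal.mem_map_of_mem _ hz
  refine ⟨fun h => ?_, fun h => ?_⟩
  · obtain ⟨x, y, hxy, v, hv, hd⟩ := h.exists_rel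
    refine ⟨fun n => (length_pow A B hm _).trans (h.length n), _, _, hspan x y hxy,
      algebraMap A B ∘ v, ?_, ?_⟩
    · rw [← map_quad]; exact hpow _ hv
    · rw [← map_disc]; exact hd.map _
  · have hl : ∀ n, Module.length A (A ⧸ maximalIdeal A ^ (n + 1)) = (2 * n + 1 : ℕ) := fun n =>
      (length_pow A B hm _).symm.trans (h.length n)
    obtain ⟨x, y, hxy⟩ := exists_pair_of_length (A := A) (by simpa using hl 1)
    obtain ⟨v, hv, hne⟩ := (HasLengths.exists_unique_rel hl hxy).1
    refine ⟨hl, x, y, hxy, v, hv, ?_⟩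
    refine isUnit_of_map_unit (algebraMap A B) _ ?_
    rw [map_disc]
    refine h.isUnit_disc (hspan x y hxy) (by rw [← map_quad]; exact hpow _ hv) fun h0 => hne ?_
    funext i
    have := congrFun h0 i
    rw [Function.comp_apply, Pi.zero_apply, residue_eq_zero_iff] at this ⊢
    exact fun hu => this (hu.map _)

end Flat

end Groth.Agent.H25.Node
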