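import Groth.Agent.H25.Node.Dim
import Groth.Agent.S6552
import Groth.Agent.S6553
import Groth.Agent.S4673
import Groth.Agent.Lib.Henselian.DescendSection
import Mathlib.AlgebraicGeometry.Morphisms.Etale

/-! Invariance of at-worst-nodal singularities. -/

set_option autoImplicit false
set_option linter.style.haveILetI false
universe u
open CategoryTheory CategoryTheory.Limits AlgebraicGeometry

attribute [local instance] Curv2.stalkAlgebra

namespace Groth.Agent.H25.Node.Invariance

open IsLocalRing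

variable (k : Type u) [Field k] (X : Scheme.{u}) [X.Over (Spec (CommRingCat.of k))]
  [LocallyOfFiniteType (X ↘ Spec (CommRingCat.of k))]

/-- Closed points go to closed points. -/
theorem isClosed_map {Y : Scheme.{u}} [Y.Over (Spec (CommRingCat.of k))] (π : Y ⟶ X)
    [LocallyOfFiniteType π] (hπ : π ≫ (X ↘ Spec (CommRingCat.of k)) = Y ↘ Spec (CommRingCat.of k))
    (y : Y) (hy : IsClosed ({y} : Set Y)) : IsClosed ({π y} : Set X) := by
  haveI : LocallyOfFiniteType (Y ↘ Spec (CommRingCat.of k)) := hπ ▸ inferInstance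
  haveI : FiniteDimensional k (ResidueField (Y.presheaf.stalk y)) := Sch.finiteDimensional k Y y hy
  letI : Algebra (X.presheaf.stalk (π y)) (Y.presheaf.stalk y) := (π.stalkMap y).hom.toAlgebra
  haveI : IsLocalHom (algebraMap (X.presheaf.stalk (π y)) (Y.presheaf.stalk y)) :=
    inferInstanceAs (IsLocalHom (π.stalkMap y).hom)
  haveI : IsScalarTower k (X.presheaf.stalk (π y)) (Y.presheaf.stalk y) :=
    IsScalarTower.of_algebraMap_eq' (by
      have : (⟨π ≫ (X ↘ Spec (CommRingCat.of k))⟩ : Y.Over (Spec (CommRingCat.of k))) = ‹_› := by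
        cases ‹Y.Over (Spec (CommRingCat.of k))› with
        | ofHom hom => exact congrArg (fun h => (⟨h⟩ : Y.Over (Spec (CommRingCat.of k)))) hπ
      subst this
      exact Change.stalkMap_hom k π y)
  exact (Sch.isClosed_iff k X (π y)).2 (RingHom.finite_algebraMap.2
    (FiniteDimensional.left k (ResidueField (X.presheaf.stalk (π y)))
      (ResidueField (Y.presheaf.stalk y))))

/-- Smooth points under étale maps. -/
theorem smoothLocus_etale {Y : Scheme.{u}} [Y.Over (Spec (CommRingCat.of k))] (π : Y ⟶ X) [Etale π]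
    (hπ : π ≫ (X ↘ Spec (CommRingCat.of k)) = Y ↘ Spec (CommRingCat.of k))
    (y : Y) (h : π y ∈ (X ↘ Spec (CommRingCat.of k)).smoothLocus) :
    ∃ U : Y.Opens, y ∈ U ∧ Smooth (U.ι ≫ (Y ↘ Spec (CommRingCat.of k))) := by
  haveI : LocallyOfFiniteType (Y ↘ Spec (CommRingCat.of k)) := hπ ▸ inferInstance
  obtain ⟨U, hU, hs⟩ := (AtWorst.exists_smooth_iff k X (π y)).2 h
  refine ⟨π ⁻¹ᵁ U, hU, ?_⟩
  rw [← hπ, ← morphismRestrict_ι_assoc]
  exact MorphismProperty.comp_mem _ _ _ inferInstance hs

/-- At worst nodal under étale maps. -/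
theorem etale (hdim : ∀ Z ∈ irreducibleComponents (X : Type u), topologicalKrullDim Z = 1)
    (hX : Curv2.AtWorstNodal k X) {Y : Scheme.{u}} [oY : Y.Over (Spec (CommRingCat.of k))]
    (π : Y ⟶ X) [Etale π]
    (hπ : π ≫ (X ↘ Spec (CommRingCat.of k)) = Y ↘ Spec (CommRingCat.of k)) :
    (∀ Z ∈ irreducibleComponents (Y : Type u), topologicalKrullDim Z = 1) ∧
      Curv2.AtWorstNodal k Y := by
  haveI : LocallyQuasiFinite π := Lib.Henselian.DescendSection.locallyQuasiFinite_of_etale π
  refine ⟨Dim.comps_one_of_map π hdim (isClosed_map k X π hπ), fun y hy => ?_⟩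
  rcases AtWorst.smooth_or_node k X (AtWorst.dim_le_one X hdim) hX (π y) with h | h
  · exact Or.inl (smoothLocus_etale k X π hπ y h)
  · refine Or.inr ?_
    have hd : topologicalKrullDim X = 1 := by
      refine le_antisymm (AtWorst.dim_le_one X hdim) ?_
      rw [← hdim _ (irreducibleComponent_mem_irreducibleComponents (π y))]
      exact topologicalKrullDim_subspace_le X _
    have : (⟨π ≫ (X ↘ Spec (CommRingCat.of k))⟩ : Y.Over (Spec (CommRingCat.of k))) = oY := by
      cases oY with
      | ofHom hom => exact congrArg (fun h => (⟨h⟩ : Y.Over (Spec (CommRingCat.of k)))) hπ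
    subst this
    exact (S6552.result k X hd π y).1 h

/-- At worst nodal under extensions of the base field. -/
theorem bc (hdim : ∀ Z ∈ irreducibleComponents (X : Type u), topologicalKrullDim Z = 1)
    (hX : Curv2.AtWorstNodal k X) (K : Type u) [Field K] [Algebra k K] :
    letI : (Curv2.bc k X K).Over (Spec (CommRingCat.of K)) := ⟨Curv2.bcSnd k X K⟩
    (∀ Z ∈ irreducibleComponents (Curv2.bc k X K : Type u), topologicalKrullDim Z = 1) ∧
      Curv2.AtWorstNodal K (Curv2.bc k X K) := by
  letI : (Curv2.bc k X K).Over (Spec (CommRingCat.of K)) := ⟨Curv2.bcSnd k X K⟩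
  refine ⟨fun Z hZ => ?_, fun y hy => ?_⟩
  · have h1 : topologicalKrullDim Z ∈ (fun Z : Set ↥X => topologicalKrullDim ↥Z) '' irreducibleComponents ↥X :=
      (S4673.result (K := K) (X ↘ Spec (CommRingCat.of k))).le ⟨Z, hZ, rfl⟩
    obtain ⟨Z', hZ', e⟩ := h1
    exact e.symm.trans (hdim Z' hZ')
  · rcases AtWorst.smooth_or_node k X (AtWorst.dim_le_one X hdim) hX (Curv2.bcFst k X K y) with h | h
    · obtain ⟨U, hU, hs⟩ := (AtWorst.exists_smooth_iff k X _).2 h
      refine Or.inl ⟨Curv2.bcFst k X K ⁻¹ᵁ U, hU, ?_⟩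
      have hpb := (isPullback_morphismRestrict (Curv2.bcFst k X K) U).flip.paste_horiz
        ((IsPullback.of_hasPullback (X ↘ Spec (CommRingCat.of k))
          (Spec.map (CommRingCat.ofHom (algebraMap k K)))).flip)
      exact MorphismProperty.of_isPullback hpb.flip hs
    · exact Or.inr ((FieldExt.isNode_iff_bc k X (AtWorst.dim_le_one X hdim) K y).1 h)

end Groth.Agent.H25.Node.Invariance
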