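import Groth.Prelude.Def_CurvBase
import Groth.Agent.H46.FiberStalk

/-!
The local ring of a fibre, with its algebra structure over the residue field.
-/

set_option autoImplicit false
set_option linter.style.haveILetI false
universe u

open CategoryTheory AlgebraicGeometry IsLocalRing

namespace Groth.Agent.H25.Node.FibreStalk

/-- `Spec` of the structure map of a stalk. -/
theorem specMap_stalkMap (k : Type u) [Field k] (X : Scheme.{u}) [X.Over (Spec (CommRingCat.of k))]
    (x : X) : Spec.map (CommRingCat.ofHom (Curv2.stalkMap k X x)) =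
      X.fromSpecStalk x ≫ (X ↘ Spec (CommRingCat.of k)) := by
  have h1 : CommRingCat.ofHom (Curv2.stalkMap k X x) =
      (Scheme.ΓSpecIso (CommRingCat.of k)).inv ≫ (X ↘ Spec (CommRingCat.of k)).appTop ≫
        X.presheaf.germ ⊤ x trivial := rfl
  rw [h1, Spec.map_comp, Spec.map_comp, ← Scheme.fromSpecStalk_toSpecΓ, Category.assoc,
    Category.assoc, ← Scheme.toSpecΓ_naturality_assoc, Scheme.toSpecΓ]
  simp [← Spec.map_comp]

/-- `O_{T,x} → O_{F,a}` is surjective with kernel `m_y O_{T,x}` and is compatible with the residue map. -/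
theorem exists_stalkHom {T S : Scheme.{u}} (f : T ⟶ S) (y : S) (a : f.fiber y) (x : T)
    (hx : f.fiberι y a = x) (hy : f x = y) :
    letI : (f.fiber y).Over (Spec (CommRingCat.of (S.residueField y))) := ⟨f.fiberToSpecResidueField y⟩
    ∃ φ : T.presheaf.stalk x →+* (f.fiber y).presheaf.stalk a, Function.Surjective φ ∧
      RingHom.ker φ = (maximalIdeal (S.presheaf.stalk (f x))).map (f.stalkMap x).hom ∧
      ∀ r : S.presheaf.stalk y, Curv2.stalkMap (S.residueField y) (f.fiber y) a ((S.residue y).hom r) =
        φ ((f.stalkMap x).hom ((S.presheaf.stalkSpecializes (specializes_of_eq hy)).hom r)) := by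
  subst hx
  letI : (f.fiber y).Over (Spec (CommRingCat.of (S.residueField y))) := ⟨f.fiberToSpecResidueField y⟩
  refine ⟨((f.fiberι y).stalkMap a).hom, (f.fiberι y).stalkMap_surjective a,
    H46.FiberStalk.ker_stalkMap_fiberι f y a, fun r => ?_⟩
  have key : S.residue y ≫ CommRingCat.ofHom (Curv2.stalkMap (S.residueField y) (f.fiber y) a) =
      S.presheaf.stalkSpecializes (specializes_of_eq hy) ≫ f.stalkMap (f.fiberι y a) ≫
        (f.fiberι y).stalkMap a := by
    apply Spec.map_injective
    rw [← cancel_mono (S.fromSpecStalk y)]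
    simp only [Spec.map_comp, Category.assoc, Scheme.SpecMap_stalkSpecializes_fromSpecStalk,
      Scheme.SpecMap_stalkMap_fromSpecStalk]
    refine Eq.trans (congrArg (fun g => g ≫ Spec.map (S.residue y) ≫ S.fromSpecStalk y)
      (specMap_stalkMap (S.residueField y) (f.fiber y) a)) ?_
    show (Scheme.fromSpecStalk _ a ≫ f.fiberToSpecResidueField y) ≫ Spec.map (S.residue y) ≫
      S.fromSpecStalk y = _
    rw [show Spec.map (S.residue y) ≫ S.fromSpecStalk y = S.fromSpecResidueField y from rfl,
      Category.assoc, Scheme.SpecMap_stalkMap_fromSpecStalk_assoc, f.fiber_fac y]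
  exact congrArg (fun g => g.hom r) key

end Groth.Agent.H25.Node.FibreStalk
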