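import Groth.Agent.H25.Node.Invariance
import Groth.Agent.S2155

/-! At-worst-nodal singularities descend along extensions of the base field. -/

set_option autoImplicit false
set_option linter.style.haveILetI false
universe u
open CategoryTheory CategoryTheory.Limits AlgebraicGeometry

attribute [local instance] Curv2.stalkAlgebra

namespace Groth.Agent.H25.Node.Descent

/-- Descent along a change of the base field. -/
theorem of_bc (k : Type u) [Field k] (X : Scheme.{u}) [X.Over (Spec (CommRingCat.of k))]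
    [LocallyOfFiniteType (X ↘ Spec (CommRingCat.of k))] (K : Type u) [Field K] [Algebra k K]
    (h : letI : (Curv2.bc k X K).Over (Spec (CommRingCat.of K)) := ⟨Curv2.bcSnd k X K⟩
      (∀ Z ∈ irreducibleComponents (Curv2.bc k X K : Type u), topologicalKrullDim Z = 1) ∧
        Curv2.AtWorstNodal K (Curv2.bc k X K)) :
    (∀ Z ∈ irreducibleComponents (X : Type u), topologicalKrullDim Z = 1) ∧
      Curv2.AtWorstNodal k X := by
  letI : (Curv2.bc k X K).Over (Spec (CommRingCat.of K)) := ⟨Curv2.bcSnd k X K⟩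
  haveI : LocallyOfFiniteType ((Curv2.bc k X K) ↘ Spec (CommRingCat.of K)) :=
    inferInstanceAs (LocallyOfFiniteType (Curv2.bcSnd k X K))
  haveI : JacobsonSpace (Curv2.bc k X K) :=
    LocallyOfFiniteType.jacobsonSpace (Curv2.bcSnd k X K)
  obtain ⟨hd, hn⟩ := h
  have hcomp : ∀ Z ∈ irreducibleComponents (X : Type u), topologicalKrullDim Z = 1 := by
    intro Z hZ
    have h1 : topologicalKrullDim Z ∈ (fun Z : Set ↥(Curv2.bc k X K) => topologicalKrullDim ↥Z) ''
        irreducibleComponents ↥(Curv2.bc k X K) :=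
      (S4673.result (K := K) (X ↘ Spec (CommRingCat.of k))).ge ⟨Z, hZ, rfl⟩
    obtain ⟨Z', hZ', e⟩ := h1
    exact e.symm.trans (hd Z' hZ')
  refine ⟨hcomp, fun x hx => ?_⟩
  obtain ⟨y₀, hy₀, -⟩ := Scheme.Pullback.exists_preimage_pullback
    (f := X ↘ Spec (CommRingCat.of k))
    (g := Spec.map (CommRingCat.ofHom (algebraMap k K))) x
    (IsLocalRing.closedPoint K) (Subsingleton.elim _ _)
  obtain ⟨y, (hy : Curv2.bcFst k X K y = x), hyc⟩ := nonempty_inter_closedPoints
    (Z := Curv2.bcFst k X K ⁻¹' {x}) ⟨y₀, hy₀⟩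
    (hx.preimage (Curv2.bcFst k X K).continuous).isLocallyClosed
  subst hy
  rcases hn y hyc with hs | hs
  · refine Or.inl ((AtWorst.exists_smooth_iff k X _).2 ?_)
    have h1 := (AtWorst.exists_smooth_iff K (Curv2.bc k X K) y).1 hs
    haveI : LocallyOfFinitePresentation (Curv2.bcSnd k X K) :=
      AtWorst.lfp K (Curv2.bc k X K)
    haveI : Flat (Spec.map (CommRingCat.ofHom (algebraMap k K))) := by
      rw [HasRingHomProperty.Spec_iff (P := @Flat)]
      exact RingHom.flat_algebraMap_iff.2 inferInstance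
    have h2 := S2155.result (X ↘ Spec (CommRingCat.of k))
      (Spec.map (CommRingCat.ofHom (algebraMap k K))) (Curv2.bcSnd k X K) (Curv2.bcFst k X K)
      (IsPullback.of_hasPullback _ _) (Or.inr inferInstance)
    have h3 : y ∈ (Curv2.bcSnd k X K).smoothLocus := h1
    rw [h2] at h3
    exact h3
  · exact Or.inr ((FieldExt.isNode_iff_bc k X (AtWorst.dim_le_one X hcomp) K y).2 hs)

end Groth.Agent.H25.Node.Descent
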