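import Groth.Agent.H25.Node.Glue
import Groth.Agent.Lib.SourceDescent.Scheme

/-! At-worst-nodal singularities are étale local. -/

set_option autoImplicit false
set_option linter.style.haveILetI false
universe u
open CategoryTheory CategoryTheory.Limits AlgebraicGeometry

attribute [local instance] Curv2.stalkAlgebra

namespace Groth.Agent.H25.Node.Local

/-- The dimension is at most one if it is so étale locally. -/
theorem dim_le_one {Y : Scheme.{u}}
    (h : ∀ y : Y, ∃ (Z : Scheme.{u}) (j : Z ⟶ Y), Etale j ∧ y ∈ Set.range j ∧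
      topologicalKrullDim Z ≤ 1) : topologicalKrullDim Y ≤ 1 := by
  refine iSup_le fun s => ?_
  by_contra hlen
  have hlen' : 2 ≤ s.length := by
    by_contra hc
    exact hlen (by exact_mod_cast (Nat.lt_succ_iff.1 (not_le.1 hc)))
  have hgp : ∀ S : TopologicalSpace.IrreducibleCloseds Y,
      IsGenericPoint S.isIrreducible.genericPoint (S : Set Y) :=
    fun S => S.isIrreducible.isGenericPoint_genericPoint S.isClosed
  let a : Fin (s.length + 1) → Y := fun i => (s i).isIrreducible.genericPoint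
  obtain ⟨Z, j, hj, ⟨z₀, hz₀⟩, hZ⟩ := h (a 0)
  haveI := hj
  have hsp : ∀ i l, i ≤ l → a l ⤳ a i := fun i l hil =>
    (hgp (s l)).specializes ((s.monotone hil) (hgp (s i)).mem)
  have hne : ∀ i l, i < l → a i ≠ a l := fun i l hil e => (s.strictMono hil).ne
    (TopologicalSpace.IrreducibleCloseds.ext (by
      rw [← (hgp (s i)).def, ← (hgp (s l)).def]; exact congrArg (fun p => closure {p}) e))
  let i₁ : Fin (s.length + 1) := ⟨1, by omega⟩
  let i₂ : Fin (s.length + 1) := ⟨2, by omega⟩
  have h01 : (0 : Fin (s.length + 1)) < i₁ := by simp [i₁, Fin.lt_def]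
  have h12 : i₁ < i₂ := by simp [i₁, i₂, Fin.lt_def]
  obtain ⟨z₁, hz1, hz₁⟩ := Flat.generalizingMap j (show a i₁ ⤳ j z₀ by
    rw [hz₀]; exact hsp _ _ h01.le)
  obtain ⟨z₂, hz2, hz₂⟩ := Flat.generalizingMap j (show a i₂ ⤳ j z₁ by
    rw [hz₁]; exact hsp _ _ h12.le)
  let C : Z → TopologicalSpace.IrreducibleCloseds Z := fun c =>
    ⟨closure {c}, isIrreducible_singleton.closure, isClosed_closure⟩
  have hlt : ∀ p q : Z, q ⤳ p → j q ≠ j p → C p < C q := fun p q hsz hd => by
    refine lt_of_le_of_ne (closure_minimal (Set.singleton_subset_iff.2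
      (specializes_iff_mem_closure.1 hsz)) isClosed_closure) fun e => hd ?_
    have hba : p ⤳ q := specializes_iff_mem_closure.2
      ((congrArg (fun c : TopologicalSpace.IrreducibleCloseds Z => (c : Set Z)) e).ge
        (subset_closure rfl))
    rw [(hba.antisymm hsz).eq]
  let t : LTSeries (TopologicalSpace.IrreducibleCloseds Z) :=
    LTSeries.mk 2 ![C z₀, C z₁, C z₂] (Fin.strictMono_iff_lt_succ.2 fun i => by
      fin_cases i
      · exact hlt _ _ hz1 (by rw [hz₁, hz₀]; exact (hne _ _ h01).symm)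
      · exact hlt _ _ hz2 (by rw [hz₂, hz₁]; exact (hne _ _ h12).symm))
  have h4 : (2 : WithBot ℕ∞) ≤ 1 := (Order.LTSeries.length_le_krullDim t).trans hZ
  exact absurd h4 (by decide)

/-- A point over a closed point in a quasi-finite scheme is closed. -/
theorem isClosed_of_map {X Y : Scheme.{u}} (π : Y ⟶ X) [LocallyQuasiFinite π] (z : Y)
    (h : IsClosed ({π z} : Set X)) : IsClosed ({z} : Set Y) := by
  refine isClosed_of_closure_subset fun w hw => ?_
  have hsp : z ⤳ w := specializes_iff_mem_closure.2 hw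
  exact (Dim.eq_of_specializes π hsp
    (h.closure_eq ▸ specializes_iff_mem_closure.1 (hsp.map π.continuous) :
      π w ∈ ({π z} : Set X)).symm).symm

/-- The property is étale local. -/
theorem of_etale_cover (k : Type u) [Field k] (Y : Scheme.{u}) [Y.Over (Spec (CommRingCat.of k))]
    [LocallyOfFiniteType (Y ↘ Spec (CommRingCat.of k))]
    (h : ∀ y : Y, ∃ (Z : Scheme.{u}) (_ : Z.Over (Spec (CommRingCat.of k))) (j : Z ⟶ Y),
      Etale j ∧ j ≫ (Y ↘ Spec (CommRingCat.of k)) = Z ↘ Spec (CommRingCat.of k) ∧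
      y ∈ Set.range j ∧ (∀ C ∈ irreducibleComponents (Z : Type u), topologicalKrullDim C = 1) ∧
      Curv2.AtWorstNodal k Z) :
    (∀ C ∈ irreducibleComponents (Y : Type u), topologicalKrullDim C = 1) ∧
      Curv2.AtWorstNodal k Y := by
  have hcomp : ∀ C ∈ irreducibleComponents (Y : Type u), topologicalKrullDim C = 1 := by
    refine Dim.comps_one (dim_le_one fun y => ?_) fun y hy => ?_
    · obtain ⟨Z, oZ, j, hj, -, hmem, hd, -⟩ := h y
      exact ⟨Z, j, hj, hmem, AtWorst.dim_le_one Z hd⟩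
    · obtain ⟨Z, oZ, j, hj, -, ⟨z, rfl⟩, hd, -⟩ := h y
      haveI := hj
      haveI := Lib.SourceDescent.Scheme.locallyQuasiFinite_of_etale j
      obtain ⟨w, hw, hne⟩ := Dim.exists_generization hd z (isClosed_of_map j z hy)
      exact ⟨j w, hw.map j.continuous, fun e => hne (Dim.eq_of_specializes j hw e)⟩
  refine ⟨hcomp, fun y hy => ?_⟩
  obtain ⟨Z, oZ, j, hj, hjo, ⟨z, rfl⟩, -, hn⟩ := h y
  haveI := hj
  haveI := Lib.SourceDescent.Scheme.locallyQuasiFinite_of_etale j
  haveI : LocallyOfFiniteType (Z ↘ Spec (CommRingCat.of k)) := hjo ▸ inferInstance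
  rcases hn z (isClosed_of_map j z hy) with ⟨V, hzV, hV⟩ | hs
  · let W : Y.Opens := ⟨j '' V, j.isOpenMap _ V.2⟩
    have e : V ≤ j ⁻¹ᵁ W := fun w hw => ⟨w, hw, rfl⟩
    haveI : Etale (j.resLE W V e) := inferInstance
    haveI : Surjective (j.resLE W V e) := ⟨fun w => by
      obtain ⟨v, hv, hvw⟩ := w.2
      refine ⟨⟨v, hv⟩, Subtype.ext ?_⟩
      exact (congrArg (fun m : (V : Scheme.{u}) ⟶ Y => m ⟨v, hv⟩)
        (Scheme.Hom.resLE_comp_ι j e)).trans hvw⟩
    refine Or.inl ⟨W, ⟨z, hzV, rfl⟩, Lib.SourceDescent.Scheme.smooth.descends (j.resLE W V e) _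
      inferInstance inferInstance ?_⟩
    show Smooth (j.resLE W V e ≫ W.ι ≫ (Y ↘ Spec (CommRingCat.of k)))
    rw [← Category.assoc, Scheme.Hom.resLE_comp_ι, Category.assoc, hjo]
    exact hV
  · refine Or.inr ?_
    have hd : topologicalKrullDim Y = 1 := by
      refine le_antisymm (AtWorst.dim_le_one Y hcomp) ?_
      rw [← hcomp _ (irreducibleComponent_mem_irreducibleComponents (j z))]
      exact topologicalKrullDim_subspace_le Y _
    have : (⟨j ≫ (Y ↘ Spec (CommRingCat.of k))⟩ : Z.Over (Spec (CommRingCat.of k))) = oZ := by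
      cases oZ with
      | ofHom hom => exact congrArg (fun h => (⟨h⟩ : Z.Over (Spec (CommRingCat.of k)))) hjo
    subst this
    exact (S6552.result k Y hd j z).2 hs

/-- The map of fibres induced by an étale map of the total spaces. -/
theorem exists_fibreMap {X Y S : Scheme.{u}} (f : X ⟶ S) (g : Y ⟶ X) [Etale g] (s : S) :
    ∃ p : (g ≫ f).fiber s ⟶ f.fiber s, Etale p ∧
      p ≫ f.fiberι s = (g ≫ f).fiberι s ≫ g ∧
      p ≫ f.fiberToSpecResidueField s = (g ≫ f).fiberToSpecResidueField s := by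
  let p : Limits.pullback (g ≫ f) (S.fromSpecResidueField s) ⟶
      Limits.pullback f (S.fromSpecResidueField s) :=
    Limits.pullback.map _ _ _ _ g (𝟙 _) (𝟙 _) (by simp) (by simp)
  have hp1 : p ≫ Limits.pullback.fst f (S.fromSpecResidueField s) =
      Limits.pullback.fst (g ≫ f) (S.fromSpecResidueField s) ≫ g := Limits.pullback.lift_fst _ _ _
  have hp2 : p ≫ Limits.pullback.snd f (S.fromSpecResidueField s) =
      Limits.pullback.snd (g ≫ f) (S.fromSpecResidueField s) :=
    (Limits.pullback.lift_snd _ _ _).trans (Category.comp_id _)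
  have hp : IsPullback (Limits.pullback.fst (g ≫ f) (S.fromSpecResidueField s)) p g
      (Limits.pullback.fst f (S.fromSpecResidueField s)) := by
    refine IsPullback.of_bot ?_ hp1.symm (IsPullback.of_hasPullback f (S.fromSpecResidueField s))
    rw [hp2]
    exact IsPullback.of_hasPullback (g ≫ f) (S.fromSpecResidueField s)
  exact ⟨p, MorphismProperty.of_isPullback hp (inferInstance : Etale g), hp1, hp2⟩

end Groth.Agent.H25.Node.Local
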