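import Groth.Agent.H25.Node.Invariance
import Groth.Agent.Lib.Unram.StalkTower
import Mathlib.AlgebraicGeometry.Morphisms.FlatMono

/-! At-worst-nodal singularities are local, and insensitive to finite separable changes of base field. -/

set_option autoImplicit false
set_option linter.style.haveILetI false
universe u
open CategoryTheory CategoryTheory.Limits AlgebraicGeometry

attribute [local instance] Curv2.stalkAlgebra

namespace Groth.Agent.H25.Node.Glue

/-- The dimension is at most one if it is so locally. -/
theorem dim_le_one {Y : Scheme.{u}}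
    (h : ∀ y : Y, ∃ (Z : Scheme.{u}) (j : Z ⟶ Y), IsOpenImmersion j ∧ y ∈ Set.range j ∧
      topologicalKrullDim Z ≤ 1) : topologicalKrullDim Y ≤ 1 := by
  refine iSup_le fun s => ?_
  by_contra hlen
  have hlen' : 2 ≤ s.length := by
    by_contra hc
    exact hlen (by exact_mod_cast (Nat.lt_succ_iff.1 (not_le.1 hc)))
  have hgp : ∀ S : TopologicalSpace.IrreducibleCloseds Y,
      IsGenericPoint S.isIrreducible.genericPoint (S : Set Y) :=
    fun S => S.isIrreducible.isGenericPoint_genericPoint S.isClosed
  let a : Fin (s.length + 1) → Y := fun i => (s i).isIrreducible.genericPoint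
  obtain ⟨Z, j, hj, hmem, hZ⟩ := h (a 0)
  haveI := hj
  have hsp : ∀ i l, i ≤ l → a l ⤳ a i := fun i l hil =>
    (hgp (s l)).specializes ((s.monotone hil) (hgp (s i)).mem)
  have hne : ∀ i l, i < l → a i ≠ a l := fun i l hil e => (s.strictMono hil).ne
    (TopologicalSpace.IrreducibleCloseds.ext (by
      rw [← (hgp (s i)).def, ← (hgp (s l)).def]; exact congrArg (fun p => closure {p}) e))
  have hin : ∀ i, a i ∈ Set.range j := fun i =>
    (hsp 0 i (Fin.zero_le i)).mem_open j.opensRange.2 hmem
  choose z hz using hin
  let i₀ : Fin (s.length + 1) := 0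
  let i₁ : Fin (s.length + 1) := ⟨1, by omega⟩
  let i₂ : Fin (s.length + 1) := ⟨2, by omega⟩
  have h01 : i₀ < i₁ := by simp [i₀, i₁, Fin.lt_def]
  have h12 : i₁ < i₂ := by simp [i₁, i₂, Fin.lt_def]
  let C : Z → TopologicalSpace.IrreducibleCloseds Z := fun c =>
    ⟨closure {c}, isIrreducible_singleton.closure, isClosed_closure⟩
  have hlt : ∀ i l, i < l → C (z i) < C (z l) := fun i l hil => by
    have hsz : z l ⤳ z i := j.isOpenEmbedding.isInducing.specializes_iff.1 (by
      rw [hz, hz]; exact hsp i l hil.le)
    refine lt_of_le_of_ne (closure_minimal (Set.singleton_subset_iff.2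
      (specializes_iff_mem_closure.1 hsz)) isClosed_closure) fun e => hne i l hil ?_
    have hba : z i ⤳ z l := specializes_iff_mem_closure.2
      ((congrArg (fun c : TopologicalSpace.IrreducibleCloseds Z => (c : Set Z)) e).ge
        (subset_closure rfl))
    rw [← hz i, ← hz l, (hba.antisymm hsz).eq]
  let t : LTSeries (TopologicalSpace.IrreducibleCloseds Z) :=
    LTSeries.mk 2 ![C (z i₀), C (z i₁), C (z i₂)] (Fin.strictMono_iff_lt_succ.2 fun i => by
      fin_cases i
      · exact hlt i₀ i₁ h01
      · exact hlt i₁ i₂ h12)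
  have h4 : (2 : WithBot ℕ∞) ≤ 1 := (Order.LTSeries.length_le_krullDim t).trans hZ
  exact absurd h4 (by decide)

/-- The property is local. -/
theorem of_cover (k : Type u) [Field k] (Y : Scheme.{u}) [Y.Over (Spec (CommRingCat.of k))]
    [LocallyOfFiniteType (Y ↘ Spec (CommRingCat.of k))]
    (h : ∀ y : Y, ∃ (Z : Scheme.{u}) (_ : Z.Over (Spec (CommRingCat.of k))) (j : Z ⟶ Y),
      IsOpenImmersion j ∧ j ≫ (Y ↘ Spec (CommRingCat.of k)) = Z ↘ Spec (CommRingCat.of k) ∧
      y ∈ Set.range j ∧ (∀ C ∈ irreducibleComponents (Z : Type u), topologicalKrullDim C = 1) ∧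
      Curv2.AtWorstNodal k Z) :
    (∀ C ∈ irreducibleComponents (Y : Type u), topologicalKrullDim C = 1) ∧
      Curv2.AtWorstNodal k Y := by
  have hcl : ∀ {Z : Scheme.{u}} (j : Z ⟶ Y) (z : Z), IsOpenImmersion j → IsClosed ({j z} : Set Y) →
      IsClosed ({z} : Set Z) := fun {Z} j z hj hy => by
    haveI := hj
    have := hy.preimage j.continuous
    convert this using 1
    ext w
    exact ⟨fun hw => congrArg j hw, fun hw => j.isOpenEmbedding.injective hw⟩
  have hcomp : ∀ C ∈ irreducibleComponents (Y : Type u), topologicalKrullDim C = 1 := by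
    refine Dim.comps_one (dim_le_one fun y => ?_) fun y hy => ?_
    · obtain ⟨Z, oZ, j, hj, -, hmem, hd, -⟩ := h y
      exact ⟨Z, j, hj, hmem, AtWorst.dim_le_one Z hd⟩
    · obtain ⟨Z, oZ, j, hj, -, ⟨z, rfl⟩, hd, -⟩ := h y
      obtain ⟨w, hw, hne⟩ := Dim.exists_generization hd z (hcl j z hj hy)
      haveI := hj
      exact ⟨j w, hw.map j.continuous, fun e => hne (j.isOpenEmbedding.injective e)⟩
  refine ⟨hcomp, fun y hy => ?_⟩
  obtain ⟨Z, oZ, j, hj, hjo, ⟨z, rfl⟩, -, hn⟩ := h y
  haveI := hj
  haveI : LocallyOfFiniteType (Z ↘ Spec (CommRingCat.of k)) := hjo ▸ inferInstance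
  rcases hn z (hcl j z hj hy) with hs | hs
  · refine Or.inl ((AtWorst.exists_smooth_iff k Y _).2 ?_)
    have := (AtWorst.exists_smooth_iff k Z z).1 hs
    have hpre := Scheme.Hom.preimage_smoothLocus_eq j (Y ↘ Spec (CommRingCat.of k))
    simp only [hjo] at hpre
    rw [← hpre] at this
    exact this
  · refine Or.inr ?_
    have hd : topologicalKrullDim Y = 1 := by
      refine le_antisymm (AtWorst.dim_le_one Y hcomp) ?_
      rw [← hcomp _ (irreducibleComponent_mem_irreducibleComponents (j z))]
      exact topologicalKrullDim_subspace_le Y _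
    have : (⟨j ≫ (Y ↘ Spec (CommRingCat.of k))⟩ : Z.Over (Spec (CommRingCat.of k))) = oZ := by
      cases oZ with
      | ofHom hom => exact congrArg (fun h => (⟨h⟩ : Z.Over (Spec (CommRingCat.of k)))) hjo
    subst this
    exact (S6552.result k Y hd j z).2 hs

/-- Finite separable restriction of the base field. -/
theorem restrict (k k' : Type u) [Field k] [Field k'] [Algebra k k'] [FiniteDimensional k k']
    [Algebra.IsSeparable k k'] (Z : Scheme.{u}) [Z.Over (Spec (CommRingCat.of k'))]
    [LocallyOfFiniteType (Z ↘ Spec (CommRingCat.of k'))]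
    (hd : ∀ C ∈ irreducibleComponents (Z : Type u), topologicalKrullDim C = 1)
    (hn : Curv2.AtWorstNodal k' Z) :
    @Curv2.AtWorstNodal k _ Z
      ⟨(Z ↘ Spec (CommRingCat.of k')) ≫ Spec.map (CommRingCat.ofHom (algebraMap k k'))⟩ := by
  letI o : Z.Over (Spec (CommRingCat.of k)) :=
    ⟨(Z ↘ Spec (CommRingCat.of k')) ≫ Spec.map (CommRingCat.ofHom (algebraMap k k'))⟩
  haveI : Algebra.FormallyEtale k k' := Algebra.FormallyEtale.of_isSeparable k k'
  haveI : Algebra.FinitePresentation k k' := Algebra.FinitePresentation.of_finiteType.1 inferInstance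
  haveI : Algebra.Etale k k' := ⟨inferInstance, inferInstance⟩
  haveI : Etale (Spec.map (CommRingCat.ofHom (algebraMap k k'))) := by
    rw [HasRingHomProperty.Spec_iff (P := @Etale)]
    exact RingHom.etale_algebraMap.2 inferInstance
  intro z hz
  rcases hn z hz with ⟨U, hU, hs⟩ | h
  · refine Or.inl ⟨U, hU, ?_⟩
    show Smooth (U.ι ≫ (Z ↘ Spec (CommRingCat.of k')) ≫ Spec.map (CommRingCat.ofHom (algebraMap k k')))
    rw [← Category.assoc]
    haveI := hs
    infer_instance
  · have hd' : topologicalKrullDim Z = 1 := by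
      refine le_antisymm (AtWorst.dim_le_one Z hd) ?_
      rw [← hd _ (irreducibleComponent_mem_irreducibleComponents z)]
      exact topologicalKrullDim_subspace_le Z _
    exact Or.inr ((S6553.result k k' Z hd' z hz).1 h)

/-- A point of an étale scheme over a field is open in it. -/
theorem isOpenImmersion_point {S S' : Scheme.{u}} (e : S' ⟶ S) [Etale e] (s' : S') :
    IsOpenImmersion (pullback.lift (S'.fromSpecResidueField s') (Spec.map (e.residueFieldMap s'))
      (by simp) : Spec (S'.residueField s') ⟶ pullback e (S.fromSpecResidueField (e s'))) := by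
  set ι : Spec (S'.residueField s') ⟶ pullback e (S.fromSpecResidueField (e s')) :=
    pullback.lift (S'.fromSpecResidueField s') (Spec.map (e.residueFieldMap s')) (by simp)
  letI : Algebra (S.residueField (e s')) (S'.residueField s') := (e.residueFieldMap s').hom.toAlgebra
  obtain ⟨-, hfin, hsep⟩ := (Groth.Agent.Lib.Unram.StalkTower.formallyUnramified_stalkMap_iff e s').1
    (AlgebraicGeometry.FormallyUnramified.stalkMap e s')
  haveI := hfin
  haveI := hsep
  haveI : Algebra.FormallyEtale (S.residueField (e s')) (S'.residueField s') :=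
    Algebra.FormallyEtale.of_isSeparable _ _
  haveI : Algebra.FinitePresentation (S.residueField (e s')) (S'.residueField s') :=
    Algebra.FinitePresentation.of_finiteType.1 inferInstance
  haveI : Algebra.Etale (S.residueField (e s')) (S'.residueField s') := ⟨inferInstance, inferInstance⟩
  haveI : Etale (Spec.map (e.residueFieldMap s')) := by
    rw [HasRingHomProperty.Spec_iff (P := @Etale)]
    exact (RingHom.etale_algebraMap (R := S.residueField (e s')) (S := S'.residueField s')).2 inferInstance
  haveI : Etale (ι ≫ pullback.snd e (S.fromSpecResidueField (e s'))) := by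
    rw [pullback.lift_snd]; infer_instance
  haveI : Etale ι := MorphismProperty.of_postcomp (W := @Etale) (W' := @Etale) ι
    (pullback.snd e (S.fromSpecResidueField (e s'))) inferInstance inferInstance
  haveI : Mono (ι ≫ pullback.fst e (S.fromSpecResidueField (e s'))) := by
    rw [pullback.lift_fst]; infer_instance
  haveI : Mono ι := mono_of_mono ι (pullback.fst e (S.fromSpecResidueField (e s')))
  exact IsOpenImmersion.of_flat_of_mono ι

/-- The pieces of a fibre of a composite with an étale map. -/
theorem exists_piece {X S S' : Scheme.{u}} (e : S' ⟶ S) [Etale e] (f : X ⟶ S') (s' : S') :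
    ∃ j : f.fiber s' ⟶ (f ≫ e).fiber (e s'), IsOpenImmersion j ∧
      j ≫ (f ≫ e).fiberι (e s') = f.fiberι s' ∧
      j ≫ (f ≫ e).fiberToSpecResidueField (e s') =
        f.fiberToSpecResidueField s' ≫ Spec.map (e.residueFieldMap s') := by
  let E := pullback e (S.fromSpecResidueField (e s'))
  let ι : Spec (S'.residueField s') ⟶ E :=
    pullback.lift (S'.fromSpecResidueField s') (Spec.map (e.residueFieldMap s')) (by simp)
  haveI : IsOpenImmersion ι := isOpenImmersion_point e s'
  let j : pullback f (S'.fromSpecResidueField s') ⟶ pullback (f ≫ e) (S.fromSpecResidueField (e s')) :=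
    pullback.lift (pullback.fst _ _) (pullback.snd _ _ ≫ Spec.map (e.residueFieldMap s'))
      (by simp [pullback.condition_assoc])
  let q : pullback (f ≫ e) (S.fromSpecResidueField (e s')) ⟶ E :=
    pullback.lift (pullback.fst _ _ ≫ f) (pullback.snd _ _) (by simp [pullback.condition])
  have hq : IsPullback (pullback.fst (f ≫ e) (S.fromSpecResidueField (e s'))) q f
      (pullback.fst e (S.fromSpecResidueField (e s'))) := by
    refine IsPullback.of_bot ?_ (pullback.lift_fst _ _ _).symm
      (IsPullback.of_hasPullback e (S.fromSpecResidueField (e s')))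
    rw [show q ≫ pullback.snd e (S.fromSpecResidueField (e s')) = _ from pullback.lift_snd _ _ _]
    exact IsPullback.of_hasPullback (f ≫ e) (S.fromSpecResidueField (e s'))
  have hj : IsPullback j (pullback.snd f (S'.fromSpecResidueField s')) q ι := by
    refine IsPullback.of_right (h₁₂ := pullback.fst (f ≫ e) (S.fromSpecResidueField (e s'))) ?_ ?_ hq
    · rw [show j ≫ pullback.fst (f ≫ e) (S.fromSpecResidueField (e s')) = _ from pullback.lift_fst _ _ _,
        show ι ≫ pullback.fst e (S.fromSpecResidueField (e s')) = _ from pullback.lift_fst _ _ _]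
      exact IsPullback.of_hasPullback f (S'.fromSpecResidueField s')
    · refine pullback.hom_ext ?_ ?_
      · simp only [j, q, ι, E, Category.assoc]
        erw [pullback.lift_fst, pullback.lift_fst, pullback.lift_fst_assoc]
        exact pullback.condition
      · simp only [j, q, ι, E, Category.assoc]
        erw [pullback.lift_snd, pullback.lift_snd, pullback.lift_snd]
  haveI : IsOpenImmersion j := MorphismProperty.of_isPullback hj.flip ‹IsOpenImmersion ι›
  exact ⟨j, ‹_›, pullback.lift_fst _ _ _, pullback.lift_snd _ _ _⟩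

end Groth.Agent.H25.Node.Glue
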