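import Groth.Agent.H25.Node.Quadratic
import Mathlib.RingTheory.AdicCompletion.RingHom
import Mathlib.RingTheory.Smooth.Basic
import Mathlib.FieldTheory.IsSepClosed

/-! Coefficient fields for formally smooth residue extensions, and nodes over them. -/

set_option autoImplicit false
set_option linter.style.haveILetI false
universe u

namespace Groth.Agent.H25.Node.Coefficient

open IsLocalRing

/-- A formally smooth residue extension gives a coefficient field. -/
theorem exists_section (k R : Type u) [Field k] [CommRing R] [IsLocalRing R]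
    [IsAdicComplete (maximalIdeal R) R] [Algebra k R]
    [Algebra.FormallySmooth k (ResidueField R)] :
    ∃ s : ResidueField R →ₐ[k] R, ∀ z, residue R (s z) = z := by
  let m := maximalIdeal R
  let fac : ∀ n, (R ⧸ m ^ (n + 1 + 1)) →ₐ[k] R ⧸ m ^ (n + 1) := fun n =>
    Ideal.Quotient.factorₐ k (Ideal.pow_le_pow_right (n + 1).le_succ : m ^ (n + 1 + 1) ≤ m ^ (n + 1))
  have hfs : ∀ n, Function.Surjective (fac n) := fun n =>
    Ideal.Quotient.factor_surjective (Ideal.pow_le_pow_right (n + 1).le_succ)
  have hker : ∀ n, IsNilpotent (RingHom.ker (fac n).toRingHom) := fun n => by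
    refine ⟨n + 2, le_bot_iff.1 ?_⟩
    refine (Ideal.pow_right_mono (J := m.map (Ideal.Quotient.mk (m ^ (n + 1 + 1)))) ?_ _).trans ?_
    · intro z hz
      obtain ⟨z, rfl⟩ := Ideal.Quotient.mk_surjective z
      exact Ideal.mem_map_of_mem _ (Ideal.pow_le_self n.succ_ne_zero (Ideal.Quotient.eq_zero_iff_mem.1 hz))
    · rw [← Ideal.map_pow, Ideal.map_quotient_self]
  let pr : ∀ n, (R ⧸ m ^ (n + 1)) →ₐ[k] ResidueField R := fun n =>
    Ideal.Quotient.factorₐ k (Ideal.pow_le_self n.succ_ne_zero : m ^ (n + 1) ≤ m)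
  let T := fun n => {f : ResidueField R →ₐ[k] R ⧸ m ^ (n + 1) // ∀ z, pr n (f z) = z}
  have hnext : ∀ n (f : T n), ∃ g : T (n + 1), (fac n).comp g.1 = f.1 := fun n f => by
    let g := Algebra.FormallySmooth.lift _ (hker n)
      ((Ideal.quotientKerAlgEquivOfSurjective (hfs n)).symm.toAlgHom.comp f.1)
    have hg : ∀ z, fac n (g z) = f.1 z := fun z => by
      have h := Algebra.FormallySmooth.mk_lift _ (hker n)
        ((Ideal.quotientKerAlgEquivOfSurjective (hfs n)).symm.toAlgHom.comp f.1) z
      exact (congrArg (Ideal.quotientKerAlgEquivOfSurjective (hfs n)) h).trans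
        (AlgEquiv.apply_symm_apply _ _)
    refine ⟨⟨g, fun z => ?_⟩, AlgHom.ext hg⟩
    refine Eq.trans ?_ (f.2 z)
    rw [← hg z]
    obtain ⟨w, hw⟩ := Ideal.Quotient.mk_surjective (g z)
    rw [← hw]
    rfl
  have hzero : ∃ f : T 0, True := by
    have h1 : m ≤ m ^ (0 + 1) := by rw [zero_add, pow_one]
    refine ⟨⟨Ideal.Quotient.factorₐ k h1, fun z => ?_⟩, trivial⟩
    obtain ⟨w, rfl⟩ := residue_surjective z
    rfl
  choose F hF using hnext
  obtain ⟨f₀, -⟩ := hzero
  let S : ∀ n, T n := fun n => Nat.rec (motive := T) f₀ F n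
  have hS : ∀ {a b : ℕ} (h : a ≤ b), (Ideal.Quotient.factorₐ k
      (Ideal.pow_le_pow_right (Nat.succ_le_succ h) : m ^ (b + 1) ≤ m ^ (a + 1))).comp (S b).1 = (S a).1 := by
    intro a b h
    induction b, h using Nat.le_induction with
    | base =>
      refine AlgHom.ext fun z => ?_
      obtain ⟨w, hw⟩ := Ideal.Quotient.mk_surjective ((S a).1 z)
      rw [AlgHom.comp_apply, ← hw]
      rfl
    | succ b h ih =>
      refine AlgHom.ext fun z => ?_
      rw [← ih, ← hF b (S b)]
      obtain ⟨w, hw⟩ := Ideal.Quotient.mk_surjective ((S (b + 1)).1 z)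
      show _ = Ideal.Quotient.factorₐ k (Ideal.pow_le_pow_right (Nat.succ_le_succ h) : m ^ (b + 1) ≤ m ^ (a + 1)) (fac b ((S (b + 1)).1 z))
      rw [AlgHom.comp_apply, ← hw]
      rfl
  let g : ∀ n, ResidueField R →ₐ[k] R ⧸ m ^ n := fun n =>
    (Ideal.Quotient.factorₐ k (Ideal.pow_le_pow_right n.le_succ : m ^ (n + 1) ≤ m ^ n)).comp (S n).1
  have hcompat : ∀ {a b : ℕ} (h : a ≤ b),
      (Ideal.Quotient.factorPow m h).comp (g b).toRingHom = (g a).toRingHom := by
    intro a b h
    refine RingHom.ext fun z => ?_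
    show Ideal.Quotient.factorPow m h (g b z) = g a z
    simp only [g, AlgHom.comp_apply]
    rw [← hS h, AlgHom.comp_apply]
    obtain ⟨w, hw⟩ := Ideal.Quotient.mk_surjective ((S b).1 z)
    rw [← hw]
    rfl
  let s := IsAdicComplete.liftRingHom m (fun n => (g n).toRingHom) hcompat
  have hs : ∀ n z, Ideal.Quotient.mk (m ^ n) (s z) = g n z := fun n z =>
    IsAdicComplete.mk_liftRingHom m (fun n => (g n).toRingHom) hcompat n z
  refine ⟨{ s with commutes' := fun c => ?_ }, fun z => ?_⟩
  · show s (algebraMap k _ c) = algebraMap k R c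
    rw [IsHausdorff.eq_iff_smodEq (I := m)]
    intro n
    rw [SModEq.sub_mem, smul_eq_mul, Ideal.mul_top, ← Ideal.Quotient.eq, hs, AlgHom.commutes]
    rfl
  · show residue R (s z) = z
    have h1 := hs 1 z
    refine Eq.trans ?_ ((S 1).2 z)
    obtain ⟨w, hw⟩ := Ideal.Quotient.mk_surjective ((S 1).1 z)
    rw [← hw]
    have h2 : Ideal.Quotient.mk (m ^ 1) (s z) = Ideal.Quotient.mk (m ^ 1) w := by
      rw [h1]
      show Ideal.Quotient.factorₐ k (Ideal.pow_le_pow_right (Nat.le_succ 1) : m ^ (1 + 1) ≤ m ^ 1)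
        ((S 1).1 z) = _
      rw [← hw]
      rfl
    rw [Ideal.Quotient.eq, pow_one] at h2
    show Ideal.Quotient.mk m (s z) = Ideal.Quotient.mk m w
    exact Ideal.Quotient.eq.2 h2

variable {A : Type u} [CommRing A] [IsLocalRing A] [IsNoetherianRing A]

/-- A node with formally smooth residue extension: the completion is a nondegenerate quadratic cone. -/
theorem exists_quadratic (k : Type u) [Field k] [Algebra k A]
    [Algebra.FormallySmooth k (ResidueField A)] (h : IsNodal A) :
    ∃ a b c : ResidueField A, 4 * a * c - b ^ 2 ≠ 0 ∧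
      ∃ e : AdicCompletion (maximalIdeal A) A ≃+*
          (MvPowerSeries (Fin 2) (ResidueField A) ⧸ Ideal.span
            {(MvPowerSeries.C a * MvPowerSeries.X 0 ^ 2 +
              MvPowerSeries.C b * MvPowerSeries.X 0 * MvPowerSeries.X 1 +
              MvPowerSeries.C c * MvPowerSeries.X 1 ^ 2 : MvPowerSeries (Fin 2) (ResidueField A))}),
        ∀ t : k, e (algebraMap A _ (algebraMap k A t)) =
          Ideal.Quotient.mk _ (MvPowerSeries.C (algebraMap k (ResidueField A) t)) := by
  let R := AdicCompletion (maximalIdeal A) A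
  have hR := (Fibre.isNodal_completion_iff A).1 h
  let ι : ResidueField A →ₐ[k] ResidueField R :=
    { ResidueField.map (algebraMap A R) with
      commutes' := fun c => by
        show ResidueField.map (algebraMap A R) (residue A (algebraMap k A c)) = residue R (algebraMap k R c)
        rw [ResidueField.map_residue, ← IsScalarTower.algebraMap_apply k A R] }
  have hι : Function.Bijective ι := AdicCompletion.residueField_map_bijective (R := A)
  haveI : Algebra.FormallySmooth k (ResidueField R) :=
    Algebra.FormallySmooth.of_equiv (AlgEquiv.ofBijective ι hι)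
  obtain ⟨σ, hσ⟩ := exists_section k R
  letI : Algebra (ResidueField A) R := (σ.comp ι).toRingHom.toAlgebra
  have hres : ∀ z : ResidueField A, residue R (algebraMap (ResidueField A) R z) = ι z := fun z => hσ _
  have hsurj : Function.Surjective ((residue R).comp (algebraMap (ResidueField A) R)) := fun z => by
    obtain ⟨w, rfl⟩ := hι.2 z
    exact ⟨w, hres w⟩
  obtain ⟨x, y, hxy, w, hw, hd⟩ := hR.exists_rel
  choose c hc using fun i => hsurj (residue R (w i))
  have hq : quad (algebraMap (ResidueField A) R ∘ c) x y ∈ maximalIdeal R ^ 3 := by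
    have hmem : ∀ i, w i - algebraMap (ResidueField A) R (c i) ∈ maximalIdeal R := fun i => by
      rw [← residue_eq_zero_iff, map_sub, sub_eq_zero]; exact (hc i).symm
    have e : quad (algebraMap (ResidueField A) R ∘ c) x y = quad w x y -
        ((w 0 - algebraMap (ResidueField A) R (c 0)) * x ^ 2 +
          (w 1 - algebraMap (ResidueField A) R (c 1)) * (x * y) +
          (w 2 - algebraMap (ResidueField A) R (c 2)) * y ^ 2) := by
      simp only [quad, Function.comp_apply]; ring
    have hs := sq_mem hxy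
    rw [e, pow_succ']
    refine sub_mem (pow_succ' (maximalIdeal R) 2 ▸ hw) (add_mem (add_mem ?_ ?_) ?_)
    · exact Ideal.mul_mem_mul (hmem 0) (by simpa using hs 0)
    · exact Ideal.mul_mem_mul (hmem 1) (by simpa using hs 1)
    · exact Ideal.mul_mem_mul (hmem 2) (by simpa using hs 2)
  have hd' : disc c ≠ 0 := fun h0 => by
    have : residue R (disc w) = 0 := by
      rw [map_disc, show residue R ∘ w = residue R ∘ (algebraMap (ResidueField A) R ∘ c) from
        funext fun i => (hc i).symm, ← map_disc, ← map_disc, h0, map_zero, map_zero]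
    exact (residue_ne_zero_iff_isUnit _).2 hd this
  obtain ⟨e⟩ := Complete.exists_equiv (ResidueField A) hsurj hR.length c hd' hxy hq
  have hI : Ideal.span {Model.form (ResidueField A) c} = Ideal.span
      {(MvPowerSeries.C (c 0) * MvPowerSeries.X 0 ^ 2 +
        MvPowerSeries.C (c 1) * MvPowerSeries.X 0 * MvPowerSeries.X 1 +
        MvPowerSeries.C (c 2) * MvPowerSeries.X 1 ^ 2 : MvPowerSeries (Fin 2) (ResidueField A))} := by
    rw [← Quadratic.form_eq, show (![c 0, c 1, c 2] : Fin 3 → ResidueField A) = c from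
      funext fun i => by fin_cases i <;> rfl]
  refine ⟨c 0, c 1, c 2, hd', e.symm.toRingEquiv.trans (Ideal.quotEquivOfEq hI), fun t => ?_⟩
  · have ht : algebraMap A R (algebraMap k A t) =
        algebraMap (ResidueField A) R (algebraMap k (ResidueField A) t) := by
      rw [← IsScalarTower.algebraMap_apply k A R]
      exact (((σ.comp ι).commutes t)).symm
    show Ideal.quotEquivOfEq hI (e.symm (algebraMap A R (algebraMap k A t))) = _
    rw [ht, e.symm.commutes]
    rfl

end Groth.Agent.H25.Node.Coefficient
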