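import Groth.Agent.H25.Node.Model
import Mathlib.RingTheory.AdicCompletion.RingHom
import Mathlib.RingTheory.Etale.Field
import Mathlib.RingTheory.Filtration
import Mathlib.FieldTheory.IsAlgClosed.Basic

/-!
Complete nodal local rings with a coefficient field are `κ[[u,v]]/(Q)`.
-/

set_option autoImplicit false
set_option linter.style.haveILetI false
universe u

namespace Groth.Agent.H25.Node.Complete

open IsLocalRing

/-- A separable residue extension gives a coefficient field. -/
theorem exists_section (k R : Type u) [Field k] [CommRing R] [IsLocalRing R]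
    [IsAdicComplete (maximalIdeal R) R] [Algebra k R]
    [Algebra.IsSeparable k (ResidueField R)] :
    ∃ s : ResidueField R →ₐ[k] R, ∀ z, residue R (s z) = z := by
  haveI : Algebra.FormallyEtale k (ResidueField R) := Algebra.FormallyEtale.of_isSeparable k _
  let m := maximalIdeal R
  let pr : ∀ n, (R ⧸ m ^ (n + 1)) →ₐ[k] ResidueField R := fun n =>
    Ideal.Quotient.factorₐ k (Ideal.pow_le_self n.succ_ne_zero : m ^ (n + 1) ≤ m)
  have hprs : ∀ n, Function.Surjective (pr n) := fun n =>
    Ideal.Quotient.factor_surjective (Ideal.pow_le_self n.succ_ne_zero : m ^ (n + 1) ≤ m)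
  have hker : ∀ n, IsNilpotent (RingHom.ker (pr n).toRingHom) := fun n => by
    have he : RingHom.ker (pr n).toRingHom = m.map (Ideal.Quotient.mk (m ^ (n + 1))) := by
      refine le_antisymm (fun z hz => ?_) ?_
      · obtain ⟨z, rfl⟩ := Ideal.Quotient.mk_surjective z
        exact Ideal.mem_map_of_mem _ (Ideal.Quotient.eq_zero_iff_mem.1 hz)
      · rw [Ideal.map_le_iff_le_comap]
        intro z hz
        exact Ideal.Quotient.eq_zero_iff_mem.2 hz
    refine ⟨n + 1, ?_⟩
    rw [he, ← Ideal.map_pow, Ideal.map_quotient_self]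
    rfl
  let f : ∀ n, ResidueField R →ₐ[k] R ⧸ m ^ (n + 1) := fun n =>
    Algebra.FormallySmooth.lift _ (hker n)
      (Ideal.quotientKerAlgEquivOfSurjective (hprs n)).symm.toAlgHom
  have hf : ∀ n z, pr n (f n z) = z := fun n z => by
    have h := Algebra.FormallySmooth.mk_lift _ (hker n)
      (Ideal.quotientKerAlgEquivOfSurjective (hprs n)).symm.toAlgHom z
    have h' := congrArg (Ideal.quotientKerAlgEquivOfSurjective (hprs n)) h
    exact h'.trans (AlgEquiv.apply_symm_apply _ z)
  let g : ∀ n, ResidueField R →ₐ[k] R ⧸ m ^ n := fun n =>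
    (Ideal.Quotient.factorₐ k (Ideal.pow_le_pow_right n.le_succ : m ^ (n + 1) ≤ m ^ n)).comp (f n)
  have hf' : ∀ {a b : ℕ} (h : a ≤ b), (Ideal.Quotient.factorₐ k
      (Ideal.pow_le_pow_right (Nat.succ_le_succ h) : m ^ (b + 1) ≤ m ^ (a + 1))).comp (f b) = f a := by
    intro a b h
    refine Algebra.FormallyUnramified.ext' (pr a).toRingHom (hker a) _ _ fun z => ?_
    show pr a _ = pr a _
    rw [hf, AlgHom.comp_apply]
    refine Eq.trans ?_ (hf b z)
    obtain ⟨w, hw⟩ := Ideal.Quotient.mk_surjective (f b z)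
    rw [← hw]
    rfl
  have hcompat : ∀ {a b : ℕ} (h : a ≤ b),
      (Ideal.Quotient.factorPow m h).comp (g b).toRingHom = (g a).toRingHom := by
    intro a b h
    refine RingHom.ext fun z => ?_
    show Ideal.Quotient.factorPow m h (g b z) = g a z
    simp only [g, AlgHom.comp_apply]
    rw [← hf' h, AlgHom.comp_apply]
    obtain ⟨w, hw⟩ := Ideal.Quotient.mk_surjective (f b z)
    rw [← hw]
    rfl
  let s := IsAdicComplete.liftRingHom m (fun n => (g n).toRingHom) hcompat
  have hs : ∀ n z, Ideal.Quotient.mk (m ^ n) (s z) = g n z := fun n z =>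
    IsAdicComplete.mk_liftRingHom m (fun n => (g n).toRingHom) hcompat n z
  refine ⟨{ s with commutes' := fun c => ?_ }, fun z => ?_⟩
  · show s (algebraMap k _ c) = algebraMap k R c
    rw [IsHausdorff.eq_iff_smodEq (I := m)]
    intro n
    rw [SModEq.sub_mem, smul_eq_mul, Ideal.mul_top, ← Ideal.Quotient.eq, hs, AlgHom.commutes]
    rfl
  · show residue R (s z) = z
    have h1 := hs 1 z
    refine Eq.trans ?_ (hf 1 z)
    obtain ⟨w, hw⟩ := Ideal.Quotient.mk_surjective (f 1 z)
    rw [← hw]
    have h2 : Ideal.Quotient.mk (m ^ 1) (s z) = Ideal.Quotient.mk (m ^ 1) w := by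
      rw [h1]
      show Ideal.Quotient.factorₐ k (Ideal.pow_le_pow_right (Nat.le_succ 1) : m ^ (1 + 1) ≤ m ^ 1)
        (f 1 z) = _
      rw [← hw]
      rfl
    rw [Ideal.Quotient.eq, pow_one] at h2
    show Ideal.Quotient.mk m (s z) = Ideal.Quotient.mk m w
    exact Ideal.Quotient.eq.2 h2

variable {R : Type u} [CommRing R] [IsLocalRing R]

/-- One step of the successive approximation. -/
theorem step {x y : R} (hxy : Ideal.span {x, y} = maximalIdeal R) (v : Fin 3 → R)
    (hv : IsUnit (disc v)) {N : ℕ} (hN : 2 ≤ N) (h : quad v x y ∈ maximalIdeal R ^ (N + 1)) :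
    ∃ x' y' : R, x' - x ∈ maximalIdeal R ^ N ∧ y' - y ∈ maximalIdeal R ^ N ∧
      quad v x' y' ∈ maximalIdeal R ^ (N + 2) := by
  have hm : maximalIdeal R ^ (N + 1) ≤
      Ideal.span {x} * maximalIdeal R ^ N ⊔ Ideal.span {y} * maximalIdeal R ^ N := by
    rw [← Ideal.sup_mul, ← Ideal.span_insert, hxy, pow_succ']
  obtain ⟨s, hs, t, ht, hst⟩ := Submodule.mem_sup.1 (hm h)
  obtain ⟨g₁, hg₁, rfl⟩ := Ideal.mem_span_singleton_mul.1 hs
  obtain ⟨g₂, hg₂, rfl⟩ := Ideal.mem_span_singleton_mul.1 ht
  obtain ⟨w, hw⟩ := hv.exists_left_inv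
  let d := -w * (2 * v 2 * g₁ - v 1 * g₂)
  let e := -w * (2 * v 0 * g₂ - v 1 * g₁)
  have hd : d ∈ maximalIdeal R ^ N :=
    Ideal.mul_mem_left _ _ (sub_mem (Ideal.mul_mem_left _ _ hg₁) (Ideal.mul_mem_left _ _ hg₂))
  have he : e ∈ maximalIdeal R ^ N :=
    Ideal.mul_mem_left _ _ (sub_mem (Ideal.mul_mem_left _ _ hg₂) (Ideal.mul_mem_left _ _ hg₁))
  refine ⟨x + d, y + e, by simpa using hd, by simpa using he, ?_⟩
  have heq : quad v (x + d) (y + e) = quad v d e := by
    simp only [quad, disc, d, e] at hst hw ⊢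
    linear_combination (-1 : R) * hst + (-(x * g₁ + y * g₂)) * hw
  rw [heq]
  refine Ideal.pow_le_pow_right (by omega : N + 2 ≤ N + N) ?_
  rw [pow_add]
  refine add_mem (add_mem ?_ ?_) ?_
  · exact Ideal.mul_mem_left _ _ (pow_two d ▸ Ideal.mul_mem_mul hd hd)
  · exact Ideal.mul_mem_left _ _ (Ideal.mul_mem_mul hd he)
  · exact Ideal.mul_mem_left _ _ (pow_two e ▸ Ideal.mul_mem_mul he he)

theorem span_eq_of_sub_mem [IsNoetherianRing R] {x y x' y' : R}
    (hxy : Ideal.span {x, y} = maximalIdeal R) (hx : x' - x ∈ maximalIdeal R ^ 2)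
    (hy : y' - y ∈ maximalIdeal R ^ 2) : Ideal.span {x', y'} = maximalIdeal R := by
  have hle : Ideal.span {x', y'} ≤ maximalIdeal R := by
    rw [Ideal.span_le, Set.insert_subset_iff, Set.singleton_subset_iff]
    exact ⟨by simpa using add_mem (Ideal.pow_le_self two_ne_zero hx) (mem_left hxy),
      by simpa using add_mem (Ideal.pow_le_self two_ne_zero hy) (mem_right hxy)⟩
  refine le_antisymm hle ?_
  apply Submodule.le_of_le_smul_of_le_jacobson_bot (IsNoetherian.noetherian _)
    (jacobson_eq_maximalIdeal ⊥ bot_ne_top).ge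
  rw [smul_eq_mul, ← pow_two]
  conv_lhs => rw [← hxy]
  rw [Ideal.span_le, Set.insert_subset_iff, Set.singleton_subset_iff]
  have hmem : ∀ a a' : R, a' ∈ Ideal.span {x', y'} → a' - a ∈ maximalIdeal R ^ 2 →
      a ∈ Ideal.span {x', y'} ⊔ maximalIdeal R ^ 2 := fun a a' ha hd => by
    simpa using sub_mem (Ideal.mem_sup_left (T := maximalIdeal R ^ 2) ha)
      (Ideal.mem_sup_right (S := Ideal.span {x', y'}) hd)
  exact ⟨hmem x x' (Ideal.subset_span (by simp)) hx, hmem y y' (Ideal.subset_span (by simp)) hy⟩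

/-- An exact solution near an approximate one. -/
theorem exists_zero [IsNoetherianRing R] [IsAdicComplete (maximalIdeal R) R] {x y : R}
    (hxy : Ideal.span {x, y} = maximalIdeal R) (v : Fin 3 → R)
    (hv : IsUnit (disc v)) (h : quad v x y ∈ maximalIdeal R ^ 3) :
    ∃ x' y' : R, Ideal.span {x', y'} = maximalIdeal R ∧ quad v x' y' = 0 := by
  let m := maximalIdeal R
  let T := fun n => {p : R × R // Ideal.span {p.1, p.2} = maximalIdeal R ∧
    quad v p.1 p.2 ∈ m ^ (n + 3)}
  have hstep : ∀ n (p : T n), ∃ q : T (n + 1), q.1.1 - p.1.1 ∈ m ^ (n + 2) ∧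
      q.1.2 - p.1.2 ∈ m ^ (n + 2) := fun n p => by
    obtain ⟨x', y', hx', hy', hq⟩ := step p.2.1 v hv (N := n + 2) (by omega) p.2.2
    exact ⟨⟨(x', y'), span_eq_of_sub_mem p.2.1 (Ideal.pow_le_pow_right (by omega) hx')
      (Ideal.pow_le_pow_right (by omega) hy'), hq⟩, hx', hy'⟩
  choose F hF1 hF2 using hstep
  let S : ∀ n, T n := fun n => Nat.rec (motive := T) ⟨(x, y), hxy, h⟩ F n
  have hS : ∀ n, (S (n + 1)).1.1 - (S n).1.1 ∈ m ^ (n + 2) ∧
      (S (n + 1)).1.2 - (S n).1.2 ∈ m ^ (n + 2) := fun n => ⟨hF1 n (S n), hF2 n (S n)⟩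
  have hlim : ∀ (c : ℕ → R), (∀ n, c (n + 1) - c n ∈ m ^ (n + 2)) →
      ∃ l, ∀ n, l - c n ∈ m ^ (n + 2) := by
    intro c hc
    have hmono : ∀ a b, a ≤ b → c b - c a ∈ m ^ (a + 2) := by
      intro a b hab
      induction b, hab using Nat.le_induction with
      | base => simp
      | succ b hab ih =>
        rw [← sub_add_sub_cancel (c (b + 1)) (c b) (c a)]
        exact add_mem (Ideal.pow_le_pow_right (by omega) (hc b)) ih
    obtain ⟨l, hl⟩ := IsPrecomplete.prec (I := m) inferInstance (f := c) fun {a b} hab => by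
      rw [SModEq.sub_mem, smul_eq_mul, Ideal.mul_top, ← neg_mem_iff, neg_sub]
      exact Ideal.pow_le_pow_right (by omega) (hmono a b hab)
    refine ⟨l, fun n => ?_⟩
    have h2 := hl (n + 2)
    rw [SModEq.sub_mem, smul_eq_mul, Ideal.mul_top, ← neg_mem_iff, neg_sub] at h2
    rw [← sub_add_sub_cancel l (c (n + 2)) (c n)]
    exact add_mem h2 (hmono n (n + 2) (by omega))
  obtain ⟨x', hx'⟩ := hlim (fun n => (S n).1.1) fun n => (hS n).1
  obtain ⟨y', hy'⟩ := hlim (fun n => (S n).1.2) fun n => (hS n).2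
  refine ⟨x', y', span_eq_of_sub_mem (x := x) (y := y) hxy (hx' 0) (hy' 0), ?_⟩
  refine IsHausdorff.haus' (I := m) _ fun n => ?_
  rw [SModEq.zero, smul_eq_mul, Ideal.mul_top]
  have h1 : Ideal.Quotient.mk (m ^ n) (quad v x' y') =
      Ideal.Quotient.mk (m ^ n) (quad v (S n).1.1 (S n).1.2) := by
    rw [map_quad, map_quad,
      Ideal.Quotient.eq.2 (Ideal.pow_le_pow_right (by omega : n ≤ n + 2) (hx' n)),
      Ideal.Quotient.eq.2 (Ideal.pow_le_pow_right (by omega : n ≤ n + 2) (hy' n))]
  rw [← Ideal.Quotient.eq_zero_iff_mem, h1, Ideal.Quotient.eq_zero_iff_mem]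
  exact Ideal.pow_le_pow_right (by omega : n ≤ n + 3) (S n).2.2

/-- The structure theorem. -/
theorem exists_equiv [IsNoetherianRing R] [IsAdicComplete (maximalIdeal R) R] (κ : Type u) [Field κ]
    [Algebra κ R] (hκ : Function.Surjective ((residue R).comp (algebraMap κ R)))
    (h : HasLengths R) (v : Fin 3 → κ) (hv : disc v ≠ 0) {x y : R}
    (hxy : Ideal.span {x, y} = maximalIdeal R)
    (hq : quad (algebraMap κ R ∘ v) x y ∈ maximalIdeal R ^ 3) :
    Nonempty (Model.Model κ v ≃ₐ[κ] R) := by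
  obtain ⟨s, t, hst, h0⟩ := exists_zero hxy _ (by rw [← map_disc]; exact (Ne.isUnit hv).map _) hq
  obtain ⟨φ, hφ⟩ := H24.PowerSeries.exists_hom (A := κ) (maximalIdeal R) ![s, t] (fun i => by
    fin_cases i <;> simp [mem_left hst, mem_right hst])
  have hform : φ (Model.form κ v) = 0 := by
    show φ.toRingHom (Model.form κ v) = 0
    rw [Model.form, map_quad, ← h0]
    congr 1
    · exact funext fun i => φ.commutes (v i)
    · exact hφ 0
    · exact hφ 1
  let ψ : Model.Model κ v →ₐ[κ] R := Ideal.Quotient.liftₐ _ φ fun a ha => by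
    obtain ⟨w, rfl⟩ := Ideal.mem_span_singleton'.1 ha
    rw [map_mul, hform, mul_zero]
  haveI : IsAdicComplete (maximalIdeal (MvPowerSeries (Fin 2) κ)) (MvPowerSeries (Fin 2) κ) :=
    H24.PowerSeries.isAdicComplete κ (Fin 2)
  have hφs : Function.Surjective φ.toRingHom := by
    refine H24.PowerSeries.surjective_of_cotangent φ.toRingHom (fun z => ?_) ?_ ?_
    · obtain ⟨c, rfl⟩ := hκ z
      exact ⟨algebraMap κ _ c, congrArg (residue R) (φ.commutes c)⟩
    · rw [H24.PowerSeries.maximalIdeal_eq, Ideal.map_span, Ideal.span_le]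
      rintro _ ⟨_, ⟨i, rfl⟩, rfl⟩
      show φ (MvPowerSeries.X i) ∈ _
      rw [hφ]
      fin_cases i <;> simp [mem_left hst, mem_right hst]
    · refine le_trans ?_ le_sup_left
      rw [← hst, Ideal.span_le, Set.insert_subset_iff, Set.singleton_subset_iff]
      exact ⟨by simpa [hφ] using Ideal.mem_map_of_mem φ.toRingHom (H24.PowerSeries.X_mem κ (0 : Fin 2)),
        by simpa [hφ] using Ideal.mem_map_of_mem φ.toRingHom (H24.PowerSeries.X_mem κ (1 : Fin 2))⟩
  have hψs : Function.Surjective ψ := fun z => by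
    obtain ⟨f, rfl⟩ := hφs z
    exact ⟨Ideal.Quotient.mk _ f, rfl⟩
  haveI : IsLocalHom ψ.toRingHom := IsLocalHom.of_surjective _ hψs
  refine ⟨AlgEquiv.ofBijective ψ ⟨?_, hψs⟩⟩
  rw [injective_iff_map_eq_zero]
  intro z hz
  letI : Algebra (Model.Model κ v) R := ψ.toRingHom.toAlgebra
  have hn : ∀ n, z ∈ maximalIdeal (Model.Model κ v) ^ n := by
    intro n
    cases n with
    | zero => simp
    | succ n =>
      have hmap : (maximalIdeal (Model.Model κ v)).map ψ.toRingHom ≤ maximalIdeal R :=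
        ((local_hom_TFAE ψ.toRingHom).out 0 2 rfl rfl).1 inferInstance
      let g : (Model.Model κ v ⧸ maximalIdeal (Model.Model κ v) ^ (n + 1)) →ₗ[Model.Model κ v]
          R ⧸ maximalIdeal R ^ (n + 1) :=
        Submodule.mapQ _ ((maximalIdeal R ^ (n + 1)).restrictScalars (Model.Model κ v))
          (Algebra.linearMap (Model.Model κ v) R) (fun a ha => by
            show ψ.toRingHom a ∈ maximalIdeal R ^ (n + 1)
            refine Ideal.pow_right_mono hmap (n + 1) ?_
            rw [← Ideal.map_pow]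
            exact Ideal.mem_map_of_mem _ ha)
      have hg : Function.Surjective g := fun w => by
        obtain ⟨w, rfl⟩ := Ideal.Quotient.mk_surjective w
        obtain ⟨a, rfl⟩ := hψs w
        exact ⟨Ideal.Quotient.mk _ a, rfl⟩
      have hex := Module.length_eq_add_of_exact (LinearMap.ker g).subtype g Subtype.val_injective hg
        (LinearMap.exact_subtype_ker_map g)
      rw [(Model.isNodal hv).length n, Module.length_eq_of_surjective (R := R)
        (S := Model.Model κ v) (M := R ⧸ maximalIdeal R ^ (n + 1)) hψs, h n] at hex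
      have hker : Module.length (Model.Model κ v) (LinearMap.ker g) = 0 := by
        generalize Module.length (Model.Model κ v) (LinearMap.ker g) = l at hex
        induction l using ENat.recTopCoe with
        | top => exact absurd (hex.trans (top_add _)) (ENat.natCast_ne_top _)
        | coe l => norm_cast at hex ⊢; omega
      haveI := Module.length_eq_zero_iff.1 hker
      have hmem : Ideal.Quotient.mk (maximalIdeal (Model.Model κ v) ^ (n + 1)) z ∈ LinearMap.ker g := by
        rw [LinearMap.mem_ker]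
        show Ideal.Quotient.mk (maximalIdeal R ^ (n + 1)) (ψ z) = 0
        rw [hz, map_zero]
      exact Ideal.Quotient.eq_zero_iff_mem.1
        (congrArg Subtype.val (Subsingleton.elim (⟨_, hmem⟩ : LinearMap.ker g) 0))
  have := Ideal.iInf_pow_eq_bot_of_isLocalRing (maximalIdeal (Model.Model κ v))
    (maximalIdeal.isMaximal _).ne_top
  exact (Submodule.mem_bot _).1 (this.le (Submodule.mem_iInf _ |>.2 hn))

/-- Over an algebraically closed residue field there are generators with `s t ∈ m³`. -/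
theorem exists_pair [IsNoetherianRing R] (K : Type u) [Field K] [IsAlgClosed K] [Algebra K R]
    (hK : Function.Surjective ((residue R).comp (algebraMap K R))) (h : IsNodal R) :
    ∃ s t : R, Ideal.span {s, t} = maximalIdeal R ∧ s * t ∈ maximalIdeal R ^ 3 := by
  obtain ⟨x, y, hxy, w, hw, hd⟩ := h.exists_rel
  choose c hc using fun i => hK (residue R (w i))
  have hmem : ∀ i, w i - algebraMap K R (c i) ∈ maximalIdeal R := fun i => by
    rw [← residue_eq_zero_iff, map_sub, sub_eq_zero]; exact (hc i).symm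
  have hq : quad (algebraMap K R ∘ c) x y ∈ maximalIdeal R ^ 3 := by
    have e : quad (algebraMap K R ∘ c) x y = quad w x y -
        ((w 0 - algebraMap K R (c 0)) * x ^ 2 + (w 1 - algebraMap K R (c 1)) * (x * y) +
          (w 2 - algebraMap K R (c 2)) * y ^ 2) := by
      simp only [quad, Function.comp_apply]; ring
    have hs := sq_mem hxy
    rw [e, pow_succ']
    refine sub_mem (pow_succ' (maximalIdeal R) 2 ▸ hw) (add_mem (add_mem ?_ ?_) ?_)
    · exact Ideal.mul_mem_mul (hmem 0) (by simpa using hs 0)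
    · exact Ideal.mul_mem_mul (hmem 1) (by simpa using hs 1)
    · exact Ideal.mul_mem_mul (hmem 2) (by simpa using hs 2)
  have hd' : disc c ≠ 0 := fun h0 => by
    have : residue R (disc w) = 0 := by
      rw [map_disc, show residue R ∘ w = residue R ∘ (algebraMap K R ∘ c) from
        funext fun i => (hc i).symm, ← map_disc, ← map_disc, h0, map_zero, map_zero]
    exact (residue_ne_zero_iff_isUnit _).2 hd this
  by_cases ha : c 0 = 0
  · have hb : c 1 ≠ 0 := fun hb => hd' (by simp [disc, ha, hb])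
    refine ⟨y, algebraMap K R (c 1) * x + algebraMap K R (c 2) * y, ?_, ?_⟩
    · rw [← hxy]
      refine le_antisymm ?_ ?_ <;> rw [Ideal.span_le, Set.insert_subset_iff, Set.singleton_subset_iff] <;>
        refine ⟨?_, ?_⟩
      · exact Ideal.subset_span (by simp)
      · exact Ideal.mem_span_pair.2 ⟨_, _, rfl⟩
      · refine Ideal.mem_span_pair.2 ⟨- (algebraMap K R (c 1)⁻¹ * algebraMap K R (c 2)),
          algebraMap K R (c 1)⁻¹, ?_⟩
        have : algebraMap K R (c 1)⁻¹ * algebraMap K R (c 1) = 1 := by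
          rw [← map_mul, inv_mul_cancel₀ hb, map_one]
        linear_combination x * this
      · exact Ideal.subset_span (by simp)
    · convert hq using 1
      simp only [quad, Function.comp_apply, ha, map_zero]
      ring
  · obtain ⟨l, hl⟩ := IsAlgClosed.exists_root
      (Polynomial.C (c 0) * Polynomial.X ^ 2 + Polynomial.C (c 1) * Polynomial.X + Polynomial.C (c 2))
      (by rw [Polynomial.degree_quadratic ha]; decide)
    simp only [Polynomial.IsRoot.def, Polynomial.eval_add, Polynomial.eval_mul, Polynomial.eval_C,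
      Polynomial.eval_pow, Polynomial.eval_X] at hl
    have hne : 2 * (c 0 * l) + c 1 ≠ 0 := fun h0 => hd' (by
      simp only [disc]; linear_combination (-4 * c 0) * (-hl) + (-(2 * (c 0 * l) + c 1)) * h0)
    let μ := algebraMap K R
    refine ⟨x - μ l * y, μ (c 0) * x + μ (c 0 * l + c 1) * y, ?_, ?_⟩
    · rw [← hxy]
      have hu : μ (2 * (c 0 * l) + c 1)⁻¹ * μ (2 * (c 0 * l) + c 1) = 1 := by
        rw [← map_mul, inv_mul_cancel₀ hne, map_one]
      refine le_antisymm ?_ ?_ <;> rw [Ideal.span_le, Set.insert_subset_iff, Set.singleton_subset_iff] <;>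
        refine ⟨?_, ?_⟩
      · exact Ideal.mem_span_pair.2 ⟨1, - μ l, by ring⟩
      · exact Ideal.mem_span_pair.2 ⟨_, _, rfl⟩
      · refine Ideal.mem_span_pair.2 ⟨μ (2 * (c 0 * l) + c 1)⁻¹ * μ (c 0 * l + c 1),
          μ (2 * (c 0 * l) + c 1)⁻¹ * μ l, ?_⟩
        simp only [map_add, map_mul, map_ofNat] at hu ⊢
        linear_combination x * hu
      · refine Ideal.mem_span_pair.2 ⟨-(μ (2 * (c 0 * l) + c 1)⁻¹ * μ (c 0)),
          μ (2 * (c 0 * l) + c 1)⁻¹, ?_⟩
        simp only [map_add, map_mul, map_ofNat] at hu ⊢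
        linear_combination y * hu
    · convert hq using 1
      have hl' := congrArg μ hl
      simp only [quad, Function.comp_apply, map_add, map_mul, map_pow, map_zero, μ] at hl' ⊢
      linear_combination (-y ^ 2) * hl'

end Groth.Agent.H25.Node.Complete
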