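import Groth.Agent.H25.Node.Complete
import Groth.Agent.H24.PowerSeries
import Groth.Agent.H68.FlatLift
import Groth.Agent.Lib.Cohen.CTensorReduced

/-!
Flat families of nodes over a complete Noetherian local ring: `B ≅ A[[u,v]]/(Q - h)`.
-/

set_option autoImplicit false
set_option linter.style.haveILetI false
universe u

namespace Groth.Agent.H25.Node.Family

open IsLocalRing

theorem map_surjective {A A' : Type u} [CommRing A] [CommRing A'] {σ : Type} (f : A →+* A')
    (hf : Function.Surjective f) : Function.Surjective (MvPowerSeries.map (σ := σ) f) := fun g =>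
  ⟨fun d => Function.surjInv hf (g d), by ext d; exact Function.surjInv_eq hf (g d)⟩

/-- A power series killed by `map (residue A)` lies in `m_A A[[X]]`. -/
theorem mem_map_of_coeff {A : Type u} [CommRing A] {σ : Type} (J : Ideal A) (hJ : J.FG)
    {f : MvPowerSeries σ A} (hf : ∀ d, MvPowerSeries.coeff d f ∈ J) :
    f ∈ J.map (MvPowerSeries.C : A →+* MvPowerSeries σ A) := by
  obtain ⟨n, t, rfl⟩ := Submodule.fg_iff_exists_fin_generating_family.1 hJ
  choose c hc using fun d => Ideal.mem_span_range_iff_exists_fun.1 (hf d)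
  let g : Fin n → MvPowerSeries σ A := fun i d => c d i
  have hsum : f = ∑ i, g i * MvPowerSeries.C (t i) := by
    ext d
    rw [map_sum]
    refine (hc d).symm.trans (Finset.sum_congr rfl fun i _ => ?_)
    rw [MvPowerSeries.coeff_mul_C]
    rfl
  rw [hsum]
  exact Submodule.sum_mem _ fun i _ => Ideal.mul_mem_left _ _
    (Ideal.mem_map_of_mem _ (Ideal.subset_span ⟨i, rfl⟩))

section

variable {A B : Type u} [CommRing A] [CommRing B] [IsLocalRing A] [IsLocalRing B] [Algebra A B]


variable (x y : B) (hdec : ∀ b : B, ∃ (a : A) (c d : B),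
    b - (algebraMap A B) a - (x * c + y * d) ∈ (maximalIdeal A).map (algebraMap A B))

include hdec in
/-- Every element of `m_A^n B` is a constant plus a combination of `x`, `y`, up to `m_A^(n+1) B`. -/
theorem decompose (n : ℕ) {z : B} (hz : z ∈ (maximalIdeal A ^ n).map (algebraMap A B)) :
    ∃ a ∈ maximalIdeal A ^ n, ∃ g₁ ∈ (maximalIdeal A ^ n).map (algebraMap A B), ∃ g₂ ∈ (maximalIdeal A ^ n).map (algebraMap A B),
      z - (algebraMap A B) a - (x * g₁ + y * g₂) ∈ (maximalIdeal A ^ (n + 1)).map (algebraMap A B) := by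
  have key : ∀ b : B, ∃ a ∈ maximalIdeal A ^ n, ∃ g₁ ∈ (maximalIdeal A ^ n).map (algebraMap A B),
      ∃ g₂ ∈ (maximalIdeal A ^ n).map (algebraMap A B),
        b * z - (algebraMap A B) a - (x * g₁ + y * g₂) ∈ (maximalIdeal A ^ (n + 1)).map (algebraMap A B) := by
    induction hz using Submodule.span_induction with
    | mem w hw =>
      obtain ⟨e, he, rfl⟩ := hw
      intro b
      obtain ⟨a, c, d, h⟩ := hdec b
      refine ⟨a * e, Ideal.mul_mem_left _ _ he, c * (algebraMap A B) e,
        Ideal.mul_mem_left _ _ (Ideal.mem_map_of_mem _ he), d * (algebraMap A B) e,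
        Ideal.mul_mem_left _ _ (Ideal.mem_map_of_mem _ he), ?_⟩
      rw [pow_succ', Ideal.map_mul]
      convert Ideal.mul_mem_mul h (Ideal.mem_map_of_mem (algebraMap A B) he) using 1
      rw [map_mul]
      ring
    | zero =>
      exact fun b => ⟨0, zero_mem _, 0, zero_mem _, 0, zero_mem _, by simp⟩
    | add w₁ w₂ _ _ h₁ h₂ =>
      intro b
      obtain ⟨a, ha, g, hg, k, hk, h⟩ := h₁ b
      obtain ⟨a', ha', g', hg', k', hk', h'⟩ := h₂ b
      refine ⟨a + a', add_mem ha ha', g + g', add_mem hg hg', k + k', add_mem hk hk', ?_⟩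
      convert add_mem h h' using 1
      rw [map_add]
      ring
    | smul r w _ h =>
      intro b
      obtain ⟨a, ha, g, hg, k, hk, h⟩ := h (b * r)
      refine ⟨a, ha, g, hg, k, hk, ?_⟩
      convert h using 1
      rw [smul_eq_mul]
      ring
  simpa using key 1

include hdec in
/-- One step of the successive approximation. -/
theorem step (v : Fin 3 → A) (hv : IsUnit (disc v)) {n : ℕ} (hn : 1 ≤ n) {x₁ y₁ : B} {h : A}
    (hx : x₁ - x ∈ (maximalIdeal A).map (algebraMap A B)) (hy : y₁ - y ∈ (maximalIdeal A).map (algebraMap A B))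
    (hq : quad ((algebraMap A B) ∘ v) x₁ y₁ - (algebraMap A B) h ∈ (maximalIdeal A ^ n).map (algebraMap A B)) :
    ∃ x' y' : B, ∃ h' : A, x' - x₁ ∈ (maximalIdeal A ^ n).map (algebraMap A B) ∧
      y' - y₁ ∈ (maximalIdeal A ^ n).map (algebraMap A B) ∧ h' - h ∈ maximalIdeal A ^ n ∧
      quad ((algebraMap A B) ∘ v) x' y' - (algebraMap A B) h' ∈ (maximalIdeal A ^ (n + 1)).map (algebraMap A B) := by
  obtain ⟨a, ha, g₁, hg₁, g₂, hg₂, hr⟩ := decompose x y hdec n hq
  obtain ⟨w, hw⟩ := (hv.map (algebraMap A B)).exists_left_inv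
  rw [map_disc] at hw
  let V : Fin 3 → B := (algebraMap A B) ∘ v
  let d := -w * (2 * V 2 * g₁ - V 1 * g₂)
  let e := -w * (2 * V 0 * g₂ - V 1 * g₁)
  have hd : d ∈ (maximalIdeal A ^ n).map (algebraMap A B) :=
    Ideal.mul_mem_left _ _ (sub_mem (Ideal.mul_mem_left _ _ hg₁) (Ideal.mul_mem_left _ _ hg₂))
  have he : e ∈ (maximalIdeal A ^ n).map (algebraMap A B) :=
    Ideal.mul_mem_left _ _ (sub_mem (Ideal.mul_mem_left _ _ hg₂) (Ideal.mul_mem_left _ _ hg₁))
  refine ⟨x₁ + d, y₁ + e, h + a, by simpa using hd, by simpa using he, by simpa using ha, ?_⟩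
  have h1 : (x₁ - x) * g₁ + (y₁ - y) * g₂ ∈ (maximalIdeal A ^ (n + 1)).map (algebraMap A B) := by
    rw [pow_succ', Ideal.map_mul]
    exact add_mem (Ideal.mul_mem_mul hx hg₁) (Ideal.mul_mem_mul hy hg₂)
  have h2 : quad V d e ∈ (maximalIdeal A ^ (n + 1)).map (algebraMap A B) := by
    refine Ideal.map_mono (Ideal.pow_le_pow_right (by omega : n + 1 ≤ n + n)) ?_
    rw [pow_add, Ideal.map_mul]
    exact add_mem (add_mem (Ideal.mul_mem_left _ _ (pow_two d ▸ Ideal.mul_mem_mul hd hd))
      (Ideal.mul_mem_left _ _ (Ideal.mul_mem_mul hd he)))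
      (Ideal.mul_mem_left _ _ (pow_two e ▸ Ideal.mul_mem_mul he he))
  convert add_mem (sub_mem hr h1) h2 using 1
  simp only [quad, disc, V, d, e, map_add] at hw ⊢
  linear_combination (-(x₁ * g₁ + y₁ * g₂)) * hw

end

variable {A B : Type u} [CommRing A] [CommRing B] [IsLocalRing A] [IsLocalRing B] [Algebra A B]

/-- An exact solution near an approximate one. -/
theorem exists_zero [IsNoetherianRing A] [IsNoetherianRing B] [IsAdicComplete (maximalIdeal A) A]
    [IsAdicComplete (maximalIdeal B) B] [IsLocalHom (algebraMap A B)] (x y : B)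
    (hdec : ∀ b : B, ∃ (a : A) (c d : B),
      b - algebraMap A B a - (x * c + y * d) ∈ (maximalIdeal A).map (algebraMap A B))
    (v : Fin 3 → A) (hv : IsUnit (disc v))
    (hq : quad (algebraMap A B ∘ v) x y ∈ (maximalIdeal A).map (algebraMap A B)) :
    ∃ x' y' : B, ∃ h ∈ maximalIdeal A, x' - x ∈ (maximalIdeal A).map (algebraMap A B) ∧
      y' - y ∈ (maximalIdeal A).map (algebraMap A B) ∧
      quad (algebraMap A B ∘ v) x' y' = algebraMap A B h := by
  set α := algebraMap A B
  set m := maximalIdeal A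
  have hIB : ∀ n, (m ^ n).map α ≤ maximalIdeal B ^ n := fun n => by
    rw [Ideal.map_pow]
    exact Ideal.pow_right_mono (map_maximalIdeal_le _) n
  have hI1 : ∀ n, 1 ≤ n → (m ^ n).map α ≤ m.map α := fun n hn =>
    Ideal.map_mono (Ideal.pow_le_self (by omega))
  let S : ℕ → Type u := fun n => { p : B × B × A // p.1 - x ∈ m.map α ∧ p.2.1 - y ∈ m.map α ∧
    p.2.2 ∈ m ∧ quad (α ∘ v) p.1 p.2.1 - α p.2.2 ∈ (m ^ (n + 1)).map α }
  have hstep : ∀ n (s : S n), ∃ t : S (n + 1), t.1.1 - s.1.1 ∈ (m ^ (n + 1)).map α ∧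
      t.1.2.1 - s.1.2.1 ∈ (m ^ (n + 1)).map α ∧ t.1.2.2 - s.1.2.2 ∈ m ^ (n + 1) := by
    rintro n ⟨⟨x₁, y₁, h⟩, hx, hy, hh, hq⟩
    obtain ⟨x', y', h', hx', hy', hh', hq'⟩ := step x y hdec v hv (Nat.le_add_left 1 n) hx hy hq
    refine ⟨⟨⟨x', y', h'⟩, ?_, ?_, ?_, hq'⟩, hx', hy', hh'⟩
    · simpa using add_mem (hI1 _ (Nat.le_add_left 1 n) hx') hx
    · simpa using add_mem (hI1 _ (Nat.le_add_left 1 n) hy') hy
    · have h' := add_mem (Ideal.pow_le_self (Nat.succ_ne_zero n) hh') hh
      rwa [sub_add_cancel] at h'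
  let s : ∀ n, S n := fun n => Nat.rec (motive := S)
    ⟨⟨x, y, 0⟩, by simp, by simp, zero_mem _, by simpa using hq⟩
    (fun n t => (hstep n t).choose) n
  have hs : ∀ n, (s (n + 1)).1.1 - (s n).1.1 ∈ (m ^ (n + 1)).map α ∧
      (s (n + 1)).1.2.1 - (s n).1.2.1 ∈ (m ^ (n + 1)).map α ∧
      (s (n + 1)).1.2.2 - (s n).1.2.2 ∈ m ^ (n + 1) := fun n => (hstep n (s n)).choose_spec
  obtain ⟨x', hx'⟩ := IsPrecomplete.prec (I := maximalIdeal B) (M := B) inferInstance
    (f := fun n => (s n).1.1) fun {k l} hkl => by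
      induction l, hkl using Nat.le_induction with
      | base => rfl
      | succ l hkl ih =>
        refine ih.trans (SModEq.symm ?_)
        rw [SModEq.sub_mem, smul_eq_mul, Ideal.mul_top]
        exact Ideal.pow_le_pow_right (by omega) (hIB _ (hs l).1)
  obtain ⟨y', hy'⟩ := IsPrecomplete.prec (I := maximalIdeal B) (M := B) inferInstance
    (f := fun n => (s n).1.2.1) fun {k l} hkl => by
      induction l, hkl using Nat.le_induction with
      | base => rfl
      | succ l hkl ih =>
        refine ih.trans (SModEq.symm ?_)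
        rw [SModEq.sub_mem, smul_eq_mul, Ideal.mul_top]
        exact Ideal.pow_le_pow_right (by omega) (hIB _ (hs l).2.1)
  obtain ⟨h, hh⟩ := IsPrecomplete.prec (I := m) (M := A) inferInstance
    (f := fun n => (s n).1.2.2) fun {k l} hkl => by
      induction l, hkl using Nat.le_induction with
      | base => rfl
      | succ l hkl ih =>
        refine ih.trans (SModEq.symm ?_)
        rw [SModEq.sub_mem, smul_eq_mul, Ideal.mul_top]
        exact Ideal.pow_le_pow_right (by omega) (hs l).2.2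
  simp only [SModEq.sub_mem, smul_eq_mul, Ideal.mul_top] at hx' hy' hh
  have heq : quad (α ∘ v) x' y' = α h := by
    rw [IsHausdorff.eq_iff_smodEq (I := maximalIdeal B)]
    intro n
    rw [SModEq.sub_mem, smul_eq_mul, Ideal.mul_top]
    have h1 := Ideal.Quotient.eq.2 (hx' n)
    have h2 := Ideal.Quotient.eq.2 (hy' n)
    have h3 : Ideal.Quotient.mk (maximalIdeal B ^ n) (α (s n).1.2.2) =
        Ideal.Quotient.mk (maximalIdeal B ^ n) (α h) := Ideal.Quotient.eq.2 (by
      rw [← map_sub]
      exact hIB n (Ideal.mem_map_of_mem _ (hh n)))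
    rw [← Ideal.Quotient.eq, map_quad, ← h1, ← h2, ← h3, ← map_quad, Ideal.Quotient.eq]
    exact Ideal.pow_le_pow_right n.le_succ (hIB _ (s n).2.2.2.2)
  have hclosed : ∀ (J : Ideal B), J ≠ ⊤ → ∀ z : B, (∀ n, z ∈ J ⊔ maximalIdeal B ^ n) → z ∈ J := by
    intro J hJ z hz
    haveI : Nontrivial (B ⧸ J) := Ideal.Quotient.nontrivial_iff.2 hJ
    haveI : IsLocalRing (B ⧸ J) := .of_surjective' _ Ideal.Quotient.mk_surjective
    rw [← Ideal.Quotient.eq_zero_iff_mem, ← Ideal.mem_bot,
      ← Ideal.iInf_pow_eq_bot_of_isLocalRing (maximalIdeal (B ⧸ J)) (IsLocalRing.maximalIdeal.isMaximal _).ne_top,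
      Ideal.mem_iInf]
    intro n
    have := Ideal.mem_map_of_mem (Ideal.Quotient.mk J) (hz n)
    rw [Ideal.map_sup, Ideal.map_quotient_self, bot_sup_eq, Ideal.map_pow,
      IsLocalRing.map_maximalIdeal_of_surjective _ Ideal.Quotient.mk_surjective] at this
    exact this
  have hne : m.map α ≠ ⊤ := fun h' =>
    (IsLocalRing.maximalIdeal.isMaximal B).ne_top (top_le_iff.1 (h' ▸ map_maximalIdeal_le _))
  refine ⟨x', y', h, ?_, hclosed _ hne _ fun n => ?_, hclosed _ hne _ fun n => ?_, heq⟩
  · by_contra hh'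
    have hu : IsUnit h := by simpa [m] using hh'
    have h1 := hh 1
    rw [pow_one] at h1
    exact hh' (by simpa using sub_mem (s 1).2.2.2.1 h1)
  · simpa using sub_mem (Ideal.mem_sup_left (T := maximalIdeal B ^ n) (s n).2.1)
      (Ideal.mem_sup_right (S := m.map α) (hx' n))
  · simpa using sub_mem (Ideal.mem_sup_left (T := maximalIdeal B ^ n) (s n).2.2.1)
      (Ideal.mem_sup_right (S := m.map α) (hy' n))

/-- A flat deformation of a node over a complete base is `A[[u,v]]/(Q - h)`. -/
theorem exists_equiv [IsNoetherianRing A] [IsNoetherianRing B] [IsAdicComplete (maximalIdeal A) A]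
    [IsAdicComplete (maximalIdeal B) B] [IsLocalHom (algebraMap A B)] [Module.Flat A B]
    (v : Fin 3 → A) (hv : IsUnit (disc v))
    (e : (B ⧸ (maximalIdeal A).map (algebraMap A B)) ≃+* Model.Model (ResidueField A) (residue A ∘ v))
    (he : ∀ a, e (Ideal.Quotient.mk _ (algebraMap A B a)) =
      Ideal.Quotient.mk _ (MvPowerSeries.C (residue A a))) :
    ∃ h ∈ maximalIdeal A, Nonempty (B ≃ₐ[A] MvPowerSeries (Fin 2) A ⧸ Ideal.span
      {quad (MvPowerSeries.C ∘ v) (MvPowerSeries.X 0) (MvPowerSeries.X 1) - MvPowerSeries.C h}) := by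
  revert e he
  set α := algebraMap A B
  set m := maximalIdeal A
  set I := m.map α
  intro e he
  let E := MvPowerSeries (Fin 2) A
  let q : E →+* MvPowerSeries (Fin 2) (ResidueField A) := MvPowerSeries.map (residue A)
  let ρ : E →+* B ⧸ I := e.symm.toRingHom.comp ((Ideal.Quotient.mk _).comp q)
  obtain ⟨x, hx⟩ := Ideal.Quotient.mk_surjective (e.symm (Ideal.Quotient.mk _ (MvPowerSeries.X 0)))
  obtain ⟨y, hy⟩ := Ideal.Quotient.mk_surjective (e.symm (Ideal.Quotient.mk _ (MvPowerSeries.X 1)))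
  have hρC : ∀ a, ρ (MvPowerSeries.C a) = Ideal.Quotient.mk I (α a) := fun a => by
    show e.symm (Ideal.Quotient.mk _ (q (MvPowerSeries.C a))) = _
    rw [e.symm_apply_eq, he]
    exact congrArg _ (MvPowerSeries.map_C (residue A) a)
  have hρX : ∀ i, ρ (MvPowerSeries.X i) = Ideal.Quotient.mk I (![x, y] i) := fun i => by
    show e.symm (Ideal.Quotient.mk _ (q (MvPowerSeries.X i))) = _
    rw [show q (MvPowerSeries.X i) = MvPowerSeries.X i from MvPowerSeries.map_X _ _]
    fin_cases i <;> simp [hx, hy]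
  have hρs : Function.Surjective ρ :=
    e.symm.surjective.comp (Ideal.Quotient.mk_surjective.comp
      (map_surjective (residue A) residue_surjective))
  have hdec : ∀ b : B, ∃ (a : A) (c d : B), b - α a - (x * c + y * d) ∈ I := by
    intro b
    obtain ⟨f, hf⟩ := hρs (Ideal.Quotient.mk I b)
    have h1 : f - MvPowerSeries.C (MvPowerSeries.constantCoeff f) ∈
        Ideal.span (Set.range fun i : Fin 2 => (MvPowerSeries.X i : E)) :=
      H23.PSAut.mem_span_X_of_constantCoeff _ (by simp)
    obtain ⟨c, hc⟩ := Ideal.mem_span_range_iff_exists_fun.1 h1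
    obtain ⟨c₀, h₀⟩ := Ideal.Quotient.mk_surjective (ρ (c 0))
    obtain ⟨c₁, h₁⟩ := Ideal.Quotient.mk_surjective (ρ (c 1))
    refine ⟨MvPowerSeries.constantCoeff f, c₀, c₁, Ideal.Quotient.eq.1 ?_⟩
    rw [map_sub, ← hρC, ← hf, map_add, map_mul, map_mul, h₀, h₁, ← map_sub, ← hc, map_sum,
      Fin.sum_univ_two, map_mul, map_mul, hρX, hρX]
    simp [mul_comm]
  have hQ : q (quad (MvPowerSeries.C ∘ v) (MvPowerSeries.X 0) (MvPowerSeries.X 1)) =
      Model.form (ResidueField A) (residue A ∘ v) := by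
    rw [map_quad, Model.form]
    congr 1
    · exact funext fun i => MvPowerSeries.map_C (residue A) (v i)
    · exact MvPowerSeries.map_X _ _
    · exact MvPowerSeries.map_X _ _
  have hq0 : quad (α ∘ v) x y ∈ I := by
    rw [← Ideal.Quotient.eq_zero_iff_mem, map_quad]
    have h1 : ρ (quad (MvPowerSeries.C ∘ v) (MvPowerSeries.X 0) (MvPowerSeries.X 1)) = 0 := by
      show e.symm (Ideal.Quotient.mk _ (q _)) = 0
      rw [hQ, Ideal.Quotient.eq_zero_iff_mem.2 (Ideal.mem_span_singleton_self _), map_zero]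
    rw [← h1, map_quad, hρX, hρX]
    congr 1
    exact funext fun i => (hρC (v i)).symm
  obtain ⟨x', y', h, hh, hx', hy', hquad⟩ := exists_zero x y hdec v hv hq0
  have hxy : ∀ i, ![x, y] i ∈ maximalIdeal B := by
    intro i
    by_contra hu
    have hu' : IsUnit (![x, y] i) := by simpa using hu
    have h1 : IsUnit (e (Ideal.Quotient.mk I (![x, y] i))) := (hu'.map (Ideal.Quotient.mk I)).map e
    rw [← hρX, show e (ρ (MvPowerSeries.X i)) = Ideal.Quotient.mk _ (q (MvPowerSeries.X i)) from
      e.apply_symm_apply _, show q (MvPowerSeries.X i) = MvPowerSeries.X i from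
      MvPowerSeries.map_X _ _] at h1
    have h2 : (Ideal.Quotient.mk (Ideal.span {Model.form (ResidueField A) (residue A ∘ v)})
        (MvPowerSeries.X i)) ∈ maximalIdeal (Model.Model (ResidueField A) (residue A ∘ v)) := by
      rw [← Model.map_maximalIdeal]
      exact Ideal.mem_map_of_mem _ (H24.PowerSeries.X_mem _ i)
    exact (mem_maximalIdeal _).1 h2 h1
  have hIm : I ≤ maximalIdeal B := map_maximalIdeal_le _
  have hxy' : ∀ i, ![x', y'] i ∈ maximalIdeal B := by
    intro i
    fin_cases i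
    · simpa using add_mem (hIm hx') (hxy 0)
    · simpa using add_mem (hIm hy') (hxy 1)
  obtain ⟨π, hπ⟩ := H24.PowerSeries.exists_hom (A := A) (maximalIdeal B) ![x', y'] hxy'
  have hπC : ∀ a, π (MvPowerSeries.C a) = α a := fun a => π.commutes a
  have hπ0 : π (quad (MvPowerSeries.C ∘ v) (MvPowerSeries.X 0) (MvPowerSeries.X 1) -
      MvPowerSeries.C h) = 0 := by
    rw [map_sub, hπC, sub_eq_zero, ← hquad]
    show π.toRingHom _ = _
    rw [map_quad]
    congr 1
    · exact funext fun i => hπC (v i)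
    · exact hπ 0
    · exact hπ 1
  haveI := Lib.Cohen.CTensorReduced.isAdicComplete_ps A 2
  have hmE : maximalIdeal E = Ideal.span (Set.range MvPowerSeries.X) ⊔ m.map MvPowerSeries.C :=
    Lib.Cohen.CTensorReduced.maximalIdeal_ps A 2
  have hπs : Function.Surjective π.toRingHom := by
    refine H24.PowerSeries.surjective_of_cotangent π.toRingHom (fun z => ?_) ?_ ?_
    · obtain ⟨b, rfl⟩ := residue_surjective z
      obtain ⟨a, c, d, hb⟩ := hdec b
      refine ⟨MvPowerSeries.C a, ?_⟩
      show residue B (π (MvPowerSeries.C a)) = residue B b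
      rw [hπC]
      symm
      refine (Ideal.Quotient.eq (I := maximalIdeal B)).2 ?_
      simpa using add_mem (hIm hb)
        (add_mem (Ideal.mul_mem_right c _ (hxy 0)) (Ideal.mul_mem_right d _ (hxy 1)))
    · rw [hmE, Ideal.map_sup, sup_le_iff, Ideal.map_span, Ideal.span_le]
      refine ⟨?_, ?_⟩
      · rintro _ ⟨_, ⟨i, rfl⟩, rfl⟩
        show π (MvPowerSeries.X i) ∈ _
        rw [hπ]
        exact hxy' i
      · rw [Ideal.map_map, Ideal.map_le_iff_le_comap]
        intro a ha
        rw [Ideal.mem_comap]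
        show π (MvPowerSeries.C a) ∈ maximalIdeal B
        rw [hπC]
        exact hIm (Ideal.mem_map_of_mem _ ha)
    · refine le_trans ?_ le_sup_left
      intro b hb
      have hX : ∀ i, ![x', y'] i ∈ (maximalIdeal E).map π.toRingHom := fun i => by
        rw [← hπ]
        exact Ideal.mem_map_of_mem _ (hmE ▸ Ideal.mem_sup_left (Ideal.subset_span ⟨i, rfl⟩))
      have hI : I ≤ (maximalIdeal E).map π.toRingHom := Ideal.map_le_iff_le_comap.2 fun a ha => by
        rw [Ideal.mem_comap]
        rw [← hπC]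
        exact Ideal.mem_map_of_mem π.toRingHom (hmE ▸ Ideal.mem_sup_right (Ideal.mem_map_of_mem _ ha))
      obtain ⟨a, c, d, hr⟩ := hdec b
      have hxI : x ∈ (maximalIdeal E).map π.toRingHom := by simpa using sub_mem (hX 0) (hI hx')
      have hyI : y ∈ (maximalIdeal E).map π.toRingHom := by simpa using sub_mem (hX 1) (hI hy')
      have ha : a ∈ m := by
        by_contra hu
        have hu' : IsUnit a := by simpa [m] using hu
        refine (mem_maximalIdeal _).1 ?_ (hu'.map α)
        have h1 := sub_mem (sub_mem hb (hIm hr))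
          (add_mem (Ideal.mul_mem_right c _ (hxy 0)) (Ideal.mul_mem_right d _ (hxy 1)))
        convert h1 using 1
        simp
        ring
      have h1 := add_mem (add_mem (hI hr) (hI (Ideal.mem_map_of_mem _ ha)))
        (add_mem (Ideal.mul_mem_right c _ hxI) (Ideal.mul_mem_right d _ hyI))
      convert h1 using 1
      ring
  -- reduction modulo `m_A` agrees with `ρ`
  have hred : ∀ f : E, Ideal.Quotient.mk I (π f) = ρ f := by
    haveI : Nontrivial (B ⧸ I) := Ideal.Quotient.nontrivial_iff.2 fun h' =>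
      (IsLocalRing.maximalIdeal.isMaximal B).ne_top (top_le_iff.1 (h' ▸ hIm))
    haveI : IsLocalRing (B ⧸ I) := .of_surjective' _ Ideal.Quotient.mk_surjective
    let f₁ : E →ₐ[A] B ⧸ I := (Ideal.Quotient.mkₐ A I).comp π
    let f₂ : E →ₐ[A] B ⧸ I := { ρ with commutes' := hρC }
    haveI : IsHausdorff (maximalIdeal (B ⧸ I)) (B ⧸ I) := inferInstance
    have hf : f₁ = f₂ := by
      refine H24.PowerSeries.hom_ext (maximalIdeal (B ⧸ I)) (fun i => ?_) fun i => ?_
      · show Ideal.Quotient.mk I (π (MvPowerSeries.X i)) ∈ _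
        rw [hπ, ← IsLocalRing.map_maximalIdeal_of_surjective _ Ideal.Quotient.mk_surjective]
        exact Ideal.mem_map_of_mem _ (hxy' i)
      · show Ideal.Quotient.mk I (π (MvPowerSeries.X i)) = ρ (MvPowerSeries.X i)
        rw [hπ, hρX, Ideal.Quotient.eq]
        fin_cases i
        · exact hx'
        · exact hy'
    exact fun f => AlgHom.congr_fun hf f
  set P : Ideal E := Ideal.span
    {quad (MvPowerSeries.C ∘ v) (MvPowerSeries.X 0) (MvPowerSeries.X 1) - MvPowerSeries.C h}
  have hker : RingHom.ker π.toRingHom ≤ P ⊔ m.map MvPowerSeries.C := by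
    intro f hf
    have h0 : ρ f = 0 := by
      rw [← hred, show π f = 0 from hf, map_zero]
    have h1 : q f ∈ Ideal.span {Model.form (ResidueField A) (residue A ∘ v)} := by
      rw [← Ideal.Quotient.eq_zero_iff_mem]
      exact e.symm.injective (h0.trans (map_zero _).symm)
    obtain ⟨g, hg⟩ := Ideal.mem_span_singleton'.1 h1
    obtain ⟨g, rfl⟩ := map_surjective (residue A) residue_surjective g
    set Q : E := quad (MvPowerSeries.C ∘ v) (MvPowerSeries.X 0) (MvPowerSeries.X 1)
    have h2 : f - g * Q ∈ m.map MvPowerSeries.C := by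
      refine mem_map_of_coeff m (IsNoetherian.noetherian _) fun d => ?_
      rw [← residue_eq_zero_iff, ← MvPowerSeries.coeff_map]
      show MvPowerSeries.coeff d (q (f - g * Q)) = 0
      rw [map_sub q, map_mul q, hQ]
      simp [q, hg]
    have h3 : g * (Q - MvPowerSeries.C h) ∈ P := Ideal.mul_mem_left _ _ (Ideal.mem_span_singleton_self _)
    have h4 : g * MvPowerSeries.C h ∈ m.map MvPowerSeries.C :=
      Ideal.mul_mem_left _ _ (Ideal.mem_map_of_mem _ hh)
    convert add_mem (Ideal.mem_sup_left (T := m.map MvPowerSeries.C) h3)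
      (Ideal.mem_sup_right (S := P) (add_mem h2 h4)) using 1
    ring
  let π' : E ⧸ P →ₐ[A] B := Ideal.Quotient.liftₐ P π fun a ha => by
    obtain ⟨w, rfl⟩ := Ideal.mem_span_singleton'.1 ha
    rw [map_mul, hπ0, mul_zero]
  have hπ's : Function.Surjective π' := fun b => by
    obtain ⟨f, hf⟩ := hπs b
    exact ⟨Ideal.Quotient.mk P f, hf⟩
  haveI : Nontrivial (E ⧸ P) := hπ's.nontrivial
  haveI : IsLocalRing (E ⧸ P) := .of_surjective' _ Ideal.Quotient.mk_surjective
  have hinj : Function.Injective π' := by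
    refine H68.FlatLift.injective_of_flat π' hπ's m ?_ ?_
    · rw [Ideal.map_le_iff_le_comap]
      intro a ha
      rw [Ideal.mem_comap, mem_maximalIdeal, mem_nonunits_iff]
      intro hu
      have h1 := hu.map π'
      rw [AlgHom.commutes] at h1
      exact (mem_maximalIdeal _).1 (hIm (Ideal.mem_map_of_mem α ha)) h1
    · intro z hz
      obtain ⟨f, rfl⟩ := Ideal.Quotient.mk_surjective z
      have := Ideal.mem_map_of_mem (Ideal.Quotient.mk P) (hker (show f ∈ RingHom.ker π.toRingHom from hz))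
      rw [Ideal.map_sup, Ideal.map_quotient_self, bot_sup_eq, Ideal.map_map] at this
      exact this
  exact ⟨h, hh, ⟨(AlgEquiv.ofBijective π' ⟨hinj, hπ's⟩).symm⟩⟩

end Groth.Agent.H25.Node.Family
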