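import Groth.Prelude.Def_Curv2
import Groth.Agent.H25.Node.Family
import Groth.Agent.H25.Node.FibreStalk
import Groth.Agent.H24.CompletionFlat
import Groth.Agent.H18.FEquidim.Loc
import Groth.Agent.Lib.Excellent.CompletionFinite
import Groth.Agent.Lib.Excellent.CompletionNoetherian
import Mathlib.RingTheory.AdicCompletion.LocalRing

/-!
The completed local ring of a flat family at a node of the fibre.
-/

set_option autoImplicit false
set_option linter.style.haveILetI false
universe u

namespace Groth.Agent.H25.Node.Completed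

open IsLocalRing

/-- The completion of a quotient, with its map. -/
theorem exists_completion_surj {R R' : Type u} [CommRing R] [CommRing R'] [IsLocalRing R]
    [IsLocalRing R'] [IsNoetherianRing R] (φ : R →+* R') (hφ : Function.Surjective φ) :
    ∃ e : Curv2.cpl R' ≃+*
        (Curv2.cpl R ⧸ (RingHom.ker φ).map (algebraMap R (Curv2.cpl R))),
      ∀ a, e (algebraMap R' (Curv2.cpl R') (φ a)) =
        Ideal.Quotient.mk _ (algebraMap R (Curv2.cpl R) a) := by
  letI := φ.toAlgebra
  haveI : Module.Finite R R' := Module.Finite.of_surjective (Algebra.linearMap R R') hφ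
  have hm : (maximalIdeal R).map (algebraMap R R') = maximalIdeal R' :=
    IsLocalRing.map_maximalIdeal_of_surjective _ hφ
  unfold Curv2.cpl
  rw [← hm]
  let g : R' ≃ₐ[R] R ⧸ RingHom.ker φ := (Ideal.quotientKerAlgEquivOfSurjective
    (f := Algebra.ofId R R') hφ).symm
  let c := Lib.Excellent.CompletionFinite.completionEquiv (maximalIdeal R) R'
  let C := AdicCompletion (maximalIdeal R) R
  let e₁ : TensorProduct R R' C ≃ₐ[R] TensorProduct R C (R ⧸ RingHom.ker φ) :=
    (Algebra.TensorProduct.congr g AlgEquiv.refl).trans (Algebra.TensorProduct.comm R _ _)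
  let q := Algebra.TensorProduct.quotIdealMapEquivTensorQuot C (RingHom.ker φ)
  refine ⟨c.symm.toRingEquiv.trans (e₁.toRingEquiv.trans q.symm.toRingEquiv), fun a => ?_⟩
  show q.symm (e₁ (c.symm (algebraMap R' _ (φ a)))) = _
  rw [AlgEquiv.commutes, AlgEquiv.symm_apply_eq]
  show e₁ (algebraMap R (TensorProduct R R' C) a) = q (algebraMap C _ (algebraMap R C a))
  rw [AlgEquiv.commutes, AlgEquiv.commutes, ← IsScalarTower.algebraMap_apply]

/-- The model under an isomorphism of coefficient fields. -/
theorem exists_modelEquiv {K K' : Type u} [Field K] [Field K'] (θ : K ≃+* K') (v : Fin 3 → K) :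
    ∃ e : Model.Model K v ≃+* Model.Model K' (θ ∘ v),
      ∀ c, e (Ideal.Quotient.mk _ (MvPowerSeries.C c)) = Ideal.Quotient.mk _ (MvPowerSeries.C (θ c)) := by
  let Φ : MvPowerSeries (Fin 2) K ≃+* MvPowerSeries (Fin 2) K' := RingEquiv.ofBijective
    (MvPowerSeries.map θ.toRingHom)
    ⟨fun f g h => by
      ext d
      have := congrArg (MvPowerSeries.coeff d) h
      rw [MvPowerSeries.coeff_map, MvPowerSeries.coeff_map] at this
      exact θ.injective this, Family.map_surjective _ θ.surjective⟩
  refine ⟨Ideal.quotientEquiv _ _ Φ ?_, fun c => ?_⟩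
  · rw [Ideal.map_span, Set.image_singleton]
    show _ = Ideal.span {Φ.toRingHom _}
    congr 2
    rw [Model.form, Model.form, map_quad]
    congr 1
    · exact funext fun i => (MvPowerSeries.map_C θ.toRingHom (v i)).symm
    · exact (MvPowerSeries.map_X θ.toRingHom _).symm
    · exact (MvPowerSeries.map_X θ.toRingHom _).symm
  · rw [Ideal.quotientEquiv_mk]
    exact congrArg _ (MvPowerSeries.map_C θ.toRingHom c)

/-- A flat local algebra whose closed fibre is formally a node. -/
theorem exists_equiv {R R' F : Type u} [CommRing R] [CommRing R'] [CommRing F] [IsLocalRing R]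
    [IsLocalRing R'] [IsLocalRing F] [IsNoetherianRing R] [IsNoetherianRing R'] [Algebra R R']
    [IsLocalHom (algebraMap R R')] [Module.Flat R R'] (φ : R' →+* F) (hφ : Function.Surjective φ)
    (hker : RingHom.ker φ = (maximalIdeal R).map (algebraMap R R'))
    (v : Fin 3 → R) (hv : IsUnit (disc v))
    (e₀ : Curv2.cpl F ≃+* Model.Model (ResidueField R) (residue R ∘ v))
    (he₀ : ∀ r, e₀ (algebraMap F (Curv2.cpl F) (φ (algebraMap R R' r))) =
      Ideal.Quotient.mk _ (MvPowerSeries.C (residue R r))) :
    ∃ h ∈ maximalIdeal (Curv2.cpl R), ∃ e : Curv2.cpl R' ≃+*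
        (MvPowerSeries (Fin 2) (Curv2.cpl R) ⧸ Ideal.span
          {quad (MvPowerSeries.C ∘ (algebraMap R (Curv2.cpl R) ∘ v)) (MvPowerSeries.X 0) (MvPowerSeries.X 1)
            - MvPowerSeries.C h}),
      ∀ r, e (algebraMap R' (Curv2.cpl R') (algebraMap R R' r)) =
        Ideal.Quotient.mk _ (MvPowerSeries.C (algebraMap R (Curv2.cpl R) r)) := by
  obtain ⟨ψ, hψ⟩ := H18.FEquidim.Loc.exists_cplMap R R'
  let A := Curv2.cpl R
  let B := Curv2.cpl R'
  letI : Algebra A B := ψ.toAlgebra
  haveI : IsScalarTower R (AdicCompletion (maximalIdeal R) R) (AdicCompletion (maximalIdeal R') R') :=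
    IsScalarTower.of_algebraMap_eq' (by
      rw [IsScalarTower.algebraMap_eq R R' (AdicCompletion (maximalIdeal R') R')]
      exact hψ.symm)
  haveI : Module.Flat A B := H24.CompletionFlat.flat_completion R R'
  haveI : IsLocalHom (algebraMap A B) := by
    refine ((local_hom_TFAE ψ).out 0 2).mpr ?_
    rw [AdicCompletion.maximalIdeal_eq_map, AdicCompletion.maximalIdeal_eq_map, Ideal.map_map, hψ,
      ← Ideal.map_map]
    exact Ideal.map_mono (map_maximalIdeal_le _)
  have hcomm : ∀ r, algebraMap A B (algebraMap R A r) = algebraMap R' B (algebraMap R R' r) :=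
    fun r => RingHom.congr_fun hψ r
  obtain ⟨c, hc⟩ := exists_completion_surj φ hφ
  let θ : ResidueField R ≃+* ResidueField A :=
    RingEquiv.ofBijective _ (AdicCompletion.residueField_map_bijective R)
  have hθ : ∀ r, θ (residue R r) = residue A (algebraMap R A r) := fun r => rfl
  obtain ⟨μ, hμ⟩ := exists_modelEquiv θ (residue R ∘ v)
  have hJ : (RingHom.ker φ).map (algebraMap R' B) = (maximalIdeal A).map (algebraMap A B) := by
    rw [hker, Ideal.map_map]
    show _ = (maximalIdeal (AdicCompletion (maximalIdeal R) R)).map (algebraMap A B)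
    rw [AdicCompletion.maximalIdeal_eq_map, Ideal.map_map]
    exact congrArg (fun g => Ideal.map g _) (RingHom.ext fun r => (hcomm r).symm)
  let e : (B ⧸ (maximalIdeal A).map (algebraMap A B)) ≃+*
      Model.Model (ResidueField A) (residue A ∘ (algebraMap R A ∘ v)) :=
    (Ideal.quotEquivOfEq hJ.symm).trans (c.symm.trans (e₀.trans μ))
  have he : ∀ a, e (Ideal.Quotient.mk _ (algebraMap A B a)) =
      Ideal.Quotient.mk _ (MvPowerSeries.C (residue A a)) := by
    intro a
    obtain ⟨z, hz⟩ := (AdicCompletion.residueField_map_bijective R).2 (residue A a)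
    obtain ⟨r, rfl⟩ := residue_surjective z
    have hz' : a - algebraMap R A r ∈ maximalIdeal A := by
      rw [← residue_eq_zero_iff, map_sub, sub_eq_zero]
      exact hz.symm
    have h1 : Ideal.Quotient.mk ((maximalIdeal A).map (algebraMap A B)) (algebraMap A B a) =
        Ideal.Quotient.mk _ (algebraMap R' B (algebraMap R R' r)) := by
      rw [← hcomm, Ideal.Quotient.eq, ← map_sub]
      exact Ideal.mem_map_of_mem _ hz'
    rw [h1]
    show μ (e₀ (c.symm (Ideal.Quotient.mk _ (algebraMap R' B (algebraMap R R' r))))) = _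
    rw [← hc, RingEquiv.symm_apply_apply, he₀, hμ]
    exact congrArg (fun z => Ideal.Quotient.mk _ (MvPowerSeries.C z)) hz
  obtain ⟨h, hh, ⟨E⟩⟩ := Family.exists_equiv (A := A) (B := B) (algebraMap R A ∘ v)
    (by rw [← map_disc]; exact hv.map _) e he
  refine ⟨h, hh, E.toRingEquiv, fun r => ?_⟩
  show E (algebraMap R' B (algebraMap R R' r)) = _
  rw [← hcomm, AlgEquiv.commutes]
  rfl

end Groth.Agent.H25.Node.Completed
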