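import Groth.Agent.H25.Node.Completed
import Mathlib.AlgebraicGeometry.Morphisms.FiniteType
import Mathlib.AlgebraicGeometry.Morphisms.Flat

/-!
The completed local ring of a scheme family at a node of the fibre.
-/

set_option autoImplicit false
set_option linter.style.haveILetI false
universe u

open CategoryTheory AlgebraicGeometry IsLocalRing

namespace Groth.Agent.H25.Node.CompletedScheme

theorem exists_equiv {T S : Scheme.{u}} (f : T ⟶ S) [LocallyOfFiniteType f] (t : T)
    [IsNoetherianRing (S.presheaf.stalk (f t))] (hfl : (f.stalkMap t).hom.Flat)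
    (v : Fin 3 → S.presheaf.stalk (f t)) (hv : IsUnit (disc v))
    (e₀ : Curv2.cpl ((f.fiber (f t)).presheaf.stalk (f.asFiber t)) ≃+*
      (MvPowerSeries (Fin 2) (S.residueField (f t)) ⧸ Ideal.span
        {Model.form (S.residueField (f t)) ((S.residue (f t)).hom ∘ v)}))
    (he₀ : letI : (f.fiber (f t)).Over (Spec (CommRingCat.of (S.residueField (f t)))) :=
        ⟨f.fiberToSpecResidueField (f t)⟩
      ∀ c : S.residueField (f t), e₀ (algebraMap ((f.fiber (f t)).presheaf.stalk (f.asFiber t)) _
        (Curv2.stalkMap (S.residueField (f t)) (f.fiber (f t)) (f.asFiber t) c)) =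
          Ideal.Quotient.mk _ (MvPowerSeries.C c)) :
    ∃ h ∈ maximalIdeal (Curv2.cpl (S.presheaf.stalk (f t))),
      ∃ e : Curv2.cpl (T.presheaf.stalk t) ≃+*
          (MvPowerSeries (Fin 2) (Curv2.cpl (S.presheaf.stalk (f t))) ⧸ Ideal.span
            {quad (MvPowerSeries.C ∘ (algebraMap (S.presheaf.stalk (f t)) (Curv2.cpl (S.presheaf.stalk (f t))) ∘ v))
              (MvPowerSeries.X 0) (MvPowerSeries.X 1) - MvPowerSeries.C h}),
        ∀ r, e (algebraMap (T.presheaf.stalk t) (Curv2.cpl (T.presheaf.stalk t)) ((f.stalkMap t).hom r)) =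
          Ideal.Quotient.mk _ (MvPowerSeries.C
            (algebraMap (S.presheaf.stalk (f t)) (Curv2.cpl (S.presheaf.stalk (f t))) r)) := by
  letI : (f.fiber (f t)).Over (Spec (CommRingCat.of (S.residueField (f t)))) :=
    ⟨f.fiberToSpecResidueField (f t)⟩
  letI : Algebra (S.presheaf.stalk (f t)) (T.presheaf.stalk t) := (f.stalkMap t).hom.toAlgebra
  haveI : IsLocalHom (algebraMap (S.presheaf.stalk (f t)) (T.presheaf.stalk t)) :=
    inferInstanceAs (IsLocalHom (f.stalkMap t).hom)
  haveI : Module.Flat (S.presheaf.stalk (f t)) (T.presheaf.stalk t) := hfl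
  haveI : Algebra.EssFiniteType (S.presheaf.stalk (f t)) (T.presheaf.stalk t) :=
    LocallyOfFiniteType.stalkMap f t
  haveI : IsNoetherianRing (T.presheaf.stalk t) :=
    Algebra.EssFiniteType.isNoetherianRing (S.presheaf.stalk (f t)) _
  obtain ⟨φ, hφ, hker, hc⟩ :=
    FibreStalk.exists_stalkHom f (f t) (f.asFiber t) t (f.fiberι_asFiber t) rfl
  refine Completed.exists_equiv φ hφ hker v hv e₀ fun r => ?_
  have h1 := hc r
  rw [TopCat.Presheaf.stalkSpecializes_refl] at h1
  exact (congrArg (fun z => e₀ (algebraMap _ _ z)) h1.symm).trans (he₀ _)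

end Groth.Agent.H25.Node.CompletedScheme
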