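import Groth.Agent.H25.Node.Fibre
import Groth.Agent.H25.Branch.Unibranch
import Mathlib.RingTheory.Unramified.Field
import Mathlib.Algebra.DualNumber
import Mathlib.RingTheory.Kaehler.Basic
import Mathlib.RingTheory.Ideal.Oka

/-!
Nodes and algebraically closed extensions of the base field.
-/

set_option autoImplicit false
set_option linter.style.haveILetI false
universe u

namespace Groth.Agent.H25.Node.Criterion

open IsLocalRing
open scoped TensorProduct

variable {k A K : Type u} [Field k] [CommRing A] [IsLocalRing A] [Algebra k A]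
  [FiniteDimensional k (ResidueField A)] [Field K] [IsAlgClosed K] [Algebra k K]

/-- The constants of `A ⊗ K`. -/
noncomputable def const : K →+* A ⊗[k] K :=
  (Algebra.TensorProduct.includeRight : K →ₐ[k] A ⊗[k] K).toRingHom

/-- Closed fibre points are rational over `K`. -/
theorem bijective_quot (P : Ideal (A ⊗[k] K)) [P.IsPrime]
    (hP : (maximalIdeal A).map (algebraMap A (A ⊗[k] K)) ≤ P) :
    Function.Bijective ((Ideal.Quotient.mk P).comp (const (k := k) (A := A) (K := K))) := by
  let f : K →+* (A ⊗[k] K) ⧸ P := (Ideal.Quotient.mk P).comp const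
  letI := f.toAlgebra
  haveI : Algebra.IsIntegral K ((A ⊗[k] K) ⧸ P) := ⟨fun z => by
    obtain ⟨z, rfl⟩ := Ideal.Quotient.mk_surjective z
    induction z using TensorProduct.induction_on with
    | zero => rw [map_zero]; exact isIntegral_zero
    | tmul a c =>
      rw [show a ⊗ₜ[k] c = algebraMap A (A ⊗[k] K) a * const c by
        show _ = (a ⊗ₜ[k] (1 : K)) * ((1 : A) ⊗ₜ[k] c)
        rw [Algebra.TensorProduct.tmul_mul_tmul, mul_one, one_mul], map_mul]
      refine IsIntegral.mul ?_ (isIntegral_algebraMap (x := c))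
      obtain ⟨p, hp, hpa⟩ := Algebra.IsIntegral.isIntegral (R := k) (residue A a)
      refine ⟨p.map (algebraMap k K), hp.map _, ?_⟩
      have hfac : Ideal.Quotient.mk P (algebraMap A (A ⊗[k] K) (p.eval₂ (algebraMap k A) a)) = 0 := by
        refine Ideal.Quotient.eq_zero_iff_mem.2 (hP (Ideal.mem_map_of_mem _ ?_))
        rw [← residue_eq_zero_iff, Polynomial.hom_eval₂]
        exact hpa
      rw [← hfac, Polynomial.eval₂_map, Polynomial.hom_eval₂, Polynomial.hom_eval₂]
      congr 1
      refine RingHom.ext fun c => ?_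
      show Ideal.Quotient.mk P (const (algebraMap k K c)) = Ideal.Quotient.mk P (algebraMap A (A ⊗[k] K) (algebraMap k A c))
      rw [← IsScalarTower.algebraMap_apply k A (A ⊗[k] K)]
      exact congrArg _ ((Algebra.TensorProduct.includeRight : K →ₐ[k] A ⊗[k] K).commutes c)
    | add x y hx hy => rw [map_add]; exact hx.add hy⟩
  exact IsAlgClosed.algebraMap_bijective_of_isIntegral

variable (q : Ideal (A ⊗[k] K)) [q.IsPrime]
  (hq : q.comap (algebraMap A (A ⊗[k] K)) = maximalIdeal A)

/-- The `K`-algebra structure of the localisation. -/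
noncomputable abbrev constAlgebra : Algebra K (Localization.AtPrime q) :=
  ((algebraMap (A ⊗[k] K) (Localization.AtPrime q)).comp (const (k := k) (A := A) (K := K))).toAlgebra

include hq

theorem map_le : (maximalIdeal A).map (algebraMap A (A ⊗[k] K)) ≤ q :=
  Ideal.map_le_iff_le_comap.2 hq.ge

/-- The residue field is `K`. -/
theorem residue_surjective :
    letI := constAlgebra q
    Function.Surjective ((residue (Localization.AtPrime q)).comp
      (algebraMap K (Localization.AtPrime q))) := by
  letI := constAlgebra q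
  let B := Localization.AtPrime q
  have key : ∀ y : A ⊗[k] K, ∃ c : K, residue B (algebraMap _ B y) = residue B (algebraMap K B c) :=
    fun y => by
      obtain ⟨c, hc⟩ := (bijective_quot q (map_le q hq)).2 (Ideal.Quotient.mk q y)
      refine ⟨c, ?_⟩
      rw [← sub_eq_zero, ← map_sub, residue_eq_zero_iff, RingHom.algebraMap_toAlgebra,
        RingHom.comp_apply, ← map_sub, ← IsLocalization.AtPrime.map_eq_maximalIdeal q B]
      exact Ideal.mem_map_of_mem _ (Ideal.Quotient.eq.1 hc.symm)
  intro z
  obtain ⟨z, rfl⟩ := IsLocalRing.residue_surjective z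
  obtain ⟨⟨y, s⟩, hys⟩ := IsLocalization.surj q.primeCompl z
  obtain ⟨c, hc⟩ := key y
  obtain ⟨d, hd⟩ := key s
  have hd0 : residue B (algebraMap K B d) ≠ 0 := by
    rw [← hd, residue_ne_zero_iff_isUnit]
    exact IsLocalization.map_units B s
  refine ⟨c / d, ?_⟩
  rw [map_div₀ ((residue B).comp (algebraMap K B)), RingHom.comp_apply, RingHom.comp_apply,
    div_eq_iff hd0, ← hc, ← hd, ← map_mul]
  exact congrArg _ hys.symm

/-- The closed fibre is artinian. -/
theorem exists_pow_le [IsNoetherianRing (Localization.AtPrime q)] :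
    ∃ N, maximalIdeal (Localization.AtPrime q) ^ N ≤
      (maximalIdeal A).map (algebraMap A (Localization.AtPrime q)) := by
  let B := Localization.AtPrime q
  have hrad : maximalIdeal B ≤ ((maximalIdeal A).map (algebraMap A B)).radical := by
    rw [Ideal.radical_eq_sInf]
    refine le_sInf fun P ⟨hP, hPp⟩ => ?_
    haveI := hPp
    let P' := P.comap (algebraMap (A ⊗[k] K) B)
    have hP' : (maximalIdeal A).map (algebraMap A (A ⊗[k] K)) ≤ P' := by
      rw [Ideal.map_le_iff_le_comap, Ideal.comap_comap, ← IsScalarTower.algebraMap_eq]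
      exact Ideal.map_le_iff_le_comap.1 hP
    haveI : P'.IsMaximal := Ideal.Quotient.maximal_of_isField _
      (MulEquiv.isField (Field.toIsField K)
        (RingEquiv.ofBijective _ (bijective_quot P' hP')).symm.toMulEquiv)
    have hle : P' ≤ q := fun y hy => by
      by_contra hyq
      exact Ideal.IsPrime.ne_top hPp
        (Ideal.eq_top_of_isUnit_mem _ (Ideal.mem_comap.1 hy)
          (IsLocalization.map_units B (⟨y, hyq⟩ : q.primeCompl)))
    have heq : P' = q := ‹P'.IsMaximal›.eq_of_le (Ideal.IsPrime.ne_top ‹q.IsPrime›) hle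
    rw [← IsLocalization.AtPrime.map_eq_maximalIdeal q B]
    exact Ideal.map_le_iff_le_comap.2 heq.ge
  exact Ideal.exists_pow_le_of_le_radical_of_fg hrad (maximalIdeal B).fg_of_isNoetherianRing

/-- A trivial fibre forces a separable residue field. -/
theorem isSeparable (hm : (maximalIdeal A).map (algebraMap A (Localization.AtPrime q)) =
    maximalIdeal (Localization.AtPrime q)) : Algebra.IsSeparable k (ResidueField A) := by
  let B := Localization.AtPrime q
  let eK : K ≃+* (A ⊗[k] K) ⧸ q := RingEquiv.ofBijective _ (bijective_quot q (map_le q hq))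
  let ψ : A ⊗[k] K →+* K := eK.symm.toRingHom.comp (Ideal.Quotient.mk q)
  have hψc : ∀ c : K, ψ (const c) = c := fun c => eK.symm_apply_apply c
  have hψq : ∀ y, ψ y = 0 ↔ y ∈ q := fun y => by
    show eK.symm (Ideal.Quotient.mk q y) = 0 ↔ _
    rw [map_eq_zero_iff _ eK.symm.injective, Ideal.Quotient.eq_zero_iff_mem]
  let σA : A →+* K := ψ.comp (algebraMap A (A ⊗[k] K))
  have hσk : ∀ c : k, σA (algebraMap k A c) = algebraMap k K c := fun c => by
    show ψ (algebraMap A (A ⊗[k] K) (algebraMap k A c)) = _
    rw [← IsScalarTower.algebraMap_apply k A (A ⊗[k] K),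
      ← (Algebra.TensorProduct.includeRight : K →ₐ[k] A ⊗[k] K).commutes c]
    exact hψc _
  let σA' : A →ₐ[k] K := { σA with commutes' := hσk }
  let σ : ResidueField A →ₐ[k] K := Ideal.Quotient.liftₐ (maximalIdeal A) σA' fun a ha =>
    (hψq _).2 (map_le q hq (Ideal.mem_map_of_mem _ ha))
  have key : ∀ D : Derivation k (ResidueField A) (ResidueField A), D = 0 := by
    intro D
    let δ : ResidueField A →ₐ[k] DualNumber K :=
      { toFun := fun x => TrivSqZeroExt.inl (σ x) + TrivSqZeroExt.inr (σ (D x))
        map_one' := by simp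
        map_mul' := fun x y => by
          refine TrivSqZeroExt.ext ?_ ?_
          · simp
          · simp only [TrivSqZeroExt.snd_mul, TrivSqZeroExt.snd_add, TrivSqZeroExt.fst_add,
              TrivSqZeroExt.snd_inl, TrivSqZeroExt.snd_inr, TrivSqZeroExt.fst_inl, TrivSqZeroExt.fst_inr,
              D.leibniz, map_add, map_mul, smul_eq_mul, op_smul_eq_mul, zero_add, add_zero]
            ring
        map_zero' := by simp
        map_add' := fun x y => by
          refine TrivSqZeroExt.ext ?_ ?_
          · simp
          · simp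
        commutes' := fun c => by
          refine TrivSqZeroExt.ext ?_ ?_
          · simp [TrivSqZeroExt.algebraMap_eq_inl']
          · simp [TrivSqZeroExt.algebraMap_eq_inl', D.map_algebraMap] }
    let h : A ⊗[k] K →ₐ[k] DualNumber K := Algebra.TensorProduct.lift
      (δ.comp (IsScalarTower.toAlgHom k A (ResidueField A)))
      (IsScalarTower.toAlgHom k K (DualNumber K)) fun _ _ => Commute.all _ _
    have hfst : ∀ y, TrivSqZeroExt.fst (h y) = ψ y := fun y => by
      induction y using TensorProduct.induction_on with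
      | zero => simp
      | tmul a c =>
        rw [Algebra.TensorProduct.lift_tmul, TrivSqZeroExt.fst_mul,
          show a ⊗ₜ[k] c = algebraMap A (A ⊗[k] K) a * const c by
            show _ = (a ⊗ₜ[k] (1 : K)) * ((1 : A) ⊗ₜ[k] c)
            rw [Algebra.TensorProduct.tmul_mul_tmul, mul_one, one_mul], map_mul, hψc]
        congr 1
        show TrivSqZeroExt.fst (TrivSqZeroExt.inl (σ (residue A a)) +
          (TrivSqZeroExt.inr (σ (D (residue A a))) : DualNumber K)) = σA a
        simp only [TrivSqZeroExt.fst_add, TrivSqZeroExt.fst_inl, TrivSqZeroExt.fst_inr, add_zero]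
        rfl
      | add x y hx hy => simp [hx, hy]
    have hu : ∀ s : q.primeCompl, IsUnit (h.toRingHom s) := fun s =>
      TrivSqZeroExt.isUnit_iff_isUnit_fst.2 (isUnit_iff_ne_zero.2 (by
        show TrivSqZeroExt.fst (h (s : A ⊗[k] K)) ≠ 0
        rw [hfst]
        exact fun h0 => s.2 ((hψq _).1 h0)))
    let H : B →+* DualNumber K := IsLocalization.lift hu
    have hH : ∀ y, H (algebraMap _ B y) = h y := fun y => IsLocalization.lift_eq hu y
    have hHm : maximalIdeal B ≤ RingHom.ker H := by
      rw [← hm, Ideal.map_le_iff_le_comap]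
      intro a ha
      rw [Ideal.mem_comap, RingHom.mem_ker, IsScalarTower.algebraMap_apply A (A ⊗[k] K) B, hH]
      show h (a ⊗ₜ[k] (1 : K)) = 0
      rw [Algebra.TensorProduct.lift_tmul, map_one, mul_one, AlgHom.comp_apply]
      show δ (residue A a) = 0
      rw [(residue_eq_zero_iff a).2 ha, map_zero]
    refine Derivation.ext fun x => ?_
    obtain ⟨a, rfl⟩ := IsLocalRing.residue_surjective x
    let y : A ⊗[k] K := algebraMap A (A ⊗[k] K) a - const (σA a)
    have hy : y ∈ q := (hψq y).1 (by rw [map_sub, hψc]; exact sub_self _)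
    have h0 : h y = 0 := by
      rw [← hH]
      refine hHm ?_
      rw [← IsLocalization.AtPrime.map_eq_maximalIdeal q B]
      exact Ideal.mem_map_of_mem _ hy
    have h1 : TrivSqZeroExt.snd (h y) = σ (D (residue A a)) := by
      show TrivSqZeroExt.snd (h (a ⊗ₜ[k] (1 : K) - (1 : A) ⊗ₜ[k] σA a)) = _
      rw [map_sub, Algebra.TensorProduct.lift_tmul, Algebra.TensorProduct.lift_tmul]
      simp [δ, TrivSqZeroExt.algebraMap_eq_inl']
    rw [h0, TrivSqZeroExt.snd_zero] at h1
    exact σ.toRingHom.injective (h1.symm.trans (map_zero σ.toRingHom).symm)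
  haveI : Algebra.FormallyUnramified k (ResidueField A) := by
    refine ⟨?_⟩
    by_contra hns
    rw [not_subsingleton_iff_nontrivial] at hns
    obtain ⟨w, hw⟩ := exists_ne (0 : Ω[ResidueField A⁄k])
    obtain ⟨φ, hφ⟩ := Module.Projective.exists_dual_ne_zero (ResidueField A) hw
    have := key (KaehlerDifferential.linearMapEquivDerivation k (ResidueField A) φ)
    rw [LinearEquiv.map_eq_zero_iff] at this
    exact hφ (by rw [this]; rfl)
  exact Algebra.FormallyUnramified.isSeparable k (ResidueField A)

/-- A separable residue field gives a trivial fibre. -/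
theorem map_eq [Algebra.IsSeparable k (ResidueField A)] :
    (maximalIdeal A).map (algebraMap A (Localization.AtPrime q)) =
      maximalIdeal (Localization.AtPrime q) := by
  let B := Localization.AtPrime q
  refine le_antisymm ?_ ?_
  · rw [← IsLocalization.AtPrime.map_eq_maximalIdeal q B, IsScalarTower.algebraMap_eq A (A ⊗[k] K) B,
      ← Ideal.map_map]
    exact Ideal.map_mono (map_le q hq)
  haveI : Algebra.FormallyUnramified k (ResidueField A) :=
    Algebra.FormallyUnramified.of_isSeparable k _
  let R₀ := K ⊗[k] ResidueField A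
  haveI : IsReduced R₀ := Algebra.FormallyUnramified.isReduced_of_field K R₀
  haveI : IsArtinianRing R₀ := IsArtinianRing.of_finite K R₀
  let π₁ : A ⊗[k] K →ₐ[k] ResidueField A ⊗[k] K :=
    Algebra.TensorProduct.map (IsScalarTower.toAlgHom k A (ResidueField A)) (AlgHom.id k K)
  let π : A ⊗[k] K →+* R₀ :=
    (Algebra.TensorProduct.comm k (ResidueField A) K).toRingEquiv.toRingHom.comp π₁.toRingHom
  have hπ₁ : Function.Surjective π₁ :=
    TensorProduct.map_surjective IsLocalRing.residue_surjective Function.surjective_id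
  have hπs : Function.Surjective π := fun z => by
    obtain ⟨w, rfl⟩ := (Algebra.TensorProduct.comm k (ResidueField A) K).surjective z
    obtain ⟨y, rfl⟩ := hπ₁ w
    exact ⟨y, rfl⟩
  have hπk : RingHom.ker π = (maximalIdeal A).map (algebraMap A (A ⊗[k] K)) := by
    rw [show RingHom.ker π = RingHom.ker π₁.toRingHom from
      RingHom.ker_equiv_comp π₁.toRingHom _]
    refine (Algebra.TensorProduct.map_ker _ _ IsLocalRing.residue_surjective
      Function.surjective_id).trans ?_
    have h1 : RingHom.ker (AlgHom.id k K) = ⊥ :=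
      (RingHom.injective_iff_ker_eq_bot _).1 Function.injective_id
    have h2 : RingHom.ker (IsScalarTower.toAlgHom k A (ResidueField A)) = maximalIdeal A :=
      IsLocalRing.ker_residue
    rw [h1, Ideal.map_bot, sup_bot_eq, h2]
    rfl
  haveI hq₀ : (q.map π).IsPrime :=
    Ideal.map_isPrime_of_surjective hπs (hπk ▸ map_le q hq)
  rw [← IsLocalization.AtPrime.map_eq_maximalIdeal q B, Ideal.map_le_iff_le_comap]
  intro y hy
  rw [Ideal.mem_comap]
  have hF : IsField (Localization.AtPrime (q.map π)) :=
    IsArtinianRing.isField_of_isReduced_of_isLocalRing _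
  have h0 : algebraMap R₀ (Localization.AtPrime (q.map π)) (π y) = 0 := by
    by_contra hne
    obtain ⟨z, hz⟩ := hF.mul_inv_cancel hne
    have hm : algebraMap R₀ (Localization.AtPrime (q.map π)) (π y) ∈ maximalIdeal _ := by
      rw [← IsLocalization.AtPrime.map_eq_maximalIdeal (q.map π)]
      exact Ideal.mem_map_of_mem _ (Ideal.mem_map_of_mem _ hy)
    exact (mem_maximalIdeal _).1 hm (IsUnit.of_mul_eq_one _ hz)
  obtain ⟨⟨c, hc⟩, hcy⟩ := (IsLocalization.map_eq_zero_iff (q.map π).primeCompl _ _).1 h0
  obtain ⟨s, rfl⟩ := hπs c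
  have hs : s ∉ q := fun hs => hc (Ideal.mem_map_of_mem _ hs)
  have hsy : s * y ∈ (maximalIdeal A).map (algebraMap A (A ⊗[k] K)) := by
    rw [← hπk, RingHom.mem_ker, map_mul]; exact hcy
  have hmem : algebraMap _ B s * algebraMap _ B y ∈ (maximalIdeal A).map (algebraMap A B) := by
    rw [← map_mul, IsScalarTower.algebraMap_eq A (A ⊗[k] K) B, ← Ideal.map_map]
    exact Ideal.mem_map_of_mem _ hsy
  exact (Ideal.unit_mul_mem_iff_mem _ (IsLocalization.map_units B (⟨s, hs⟩ : q.primeCompl))).1 hmem

/-- **The criterion**: nodes over an algebraically closed field. -/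
theorem isNodal_iff [IsNoetherianRing A] [IsNoetherianRing (Localization.AtPrime q)] :
    IsNodal (Localization.AtPrime q) ↔
      Algebra.IsSeparable k (ResidueField A) ∧ IsNodal A := by
  let B := Localization.AtPrime q
  haveI : Module.Flat A B := Module.Flat.trans A (A ⊗[k] K) B
  haveI : IsLocalHom (algebraMap A B) := by
    refine ((IsLocalRing.local_hom_TFAE _).out 0 4 rfl rfl).2 ?_
    rw [IsScalarTower.algebraMap_eq A (A ⊗[k] K) B, ← Ideal.comap_comap]
    exact (congrArg _ (IsLocalization.AtPrime.under_maximalIdeal B q)).trans hq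
  letI := constAlgebra q
  constructor
  · intro h
    have hm := Fibre.map_maximalIdeal_eq (A := A) (B := B) (exists_pow_le q hq) K
      (residue_surjective q hq) h fun _ _ => (Branch.Unibranch.isGeomUnibranch_iff k A K q hq).1
        (Lib.Unram.OneBranch.isGeomUnibranch_of_isIntegrallyClosed A)
    exact ⟨isSeparable q hq hm, (Node.isNodal_iff A B hm).2 h⟩
  · rintro ⟨hs, h⟩
    haveI := hs
    exact (Node.isNodal_iff A B (map_eq q hq)).1 h

end Groth.Agent.H25.Node.Criterion
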