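import Groth.Agent.H25.Node.Branches
import Groth.Agent.H25.Node.Complete
import Groth.Agent.S9241
import Groth.Agent.Lib.Unram.OneBranch
import Groth.Agent.Lib.Regular.Completion
import Groth.Agent.Lib.Excellent.CompletionNoetherian
import Groth.Agent.Lib.Regular.UFD
import Mathlib.RingTheory.AdicCompletion.LocalRing
import Mathlib.RingTheory.AdicCompletion.AsTensorProduct
import Mathlib.RingTheory.DiscreteValuationRing.TFAE
import Mathlib.RingTheory.RegularLocalRing.Defs

/-!
The closed fibre of a flat local map into a nodal local ring.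
-/

set_option autoImplicit false
set_option linter.style.haveILetI false
universe u

namespace Groth.Agent.H25.Node.Fibre

open IsLocalRing

section Split

variable {R : Type u} [CommRing R] [IsLocalRing R] [IsNoetherianRing R] {s t : R}

open Branches

/-- Elements of an ideal containing a power of the maximal ideal attain a minimal order. -/
theorem exists_min_order (h : IsSplit s t) (J : Ideal R) {N : ℕ} (hN : maximalIdeal R ^ N ≤ J)
    (hJ : J ≤ maximalIdeal R) :
    ∃ p : ℕ, J ≤ Ideal.span {t} ⊔ Ideal.span {s ^ (p + 1)} ∧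
      ∃ z ∈ J, ∃ u : R, IsUnit u ∧ z - u * s ^ (p + 1) ∈ Ideal.span {t} := by
  classical
  have hex : ∃ j, ∃ z ∈ J, ∃ u : R, IsUnit u ∧ z - u * s ^ j ∈ Ideal.span {t} :=
    ⟨N, s ^ N, hN (Ideal.pow_mem_pow h.left_mem N), 1, isUnit_one, by simp⟩
  obtain ⟨z, hz, u, hu, hzu⟩ := Nat.find_spec hex
  have h0 : Nat.find hex ≠ 0 := fun e => by
    rw [e, pow_zero, mul_one] at hzu
    have := sub_mem (hJ hz) ((Ideal.span_singleton_le_iff_mem _).2 h.right_mem hzu)
    exact (mem_maximalIdeal _).1 (by simpa using this) hu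
  obtain ⟨p, hp⟩ := Nat.exists_eq_succ_of_ne_zero h0
  refine ⟨p, fun f hf => ?_, z, hz, u, hu, by rwa [show Nat.find hex = p + 1 from hp] at hzu⟩
  by_cases hft : f ∈ Ideal.span {t}
  · exact Ideal.mem_sup_left hft
  obtain ⟨j, w, hw, hj⟩ := h.exists_order hft
  have hle : p + 1 ≤ j := by
    have := Nat.find_min' hex ⟨f, hf, w, hw, hj⟩
    omega
  obtain ⟨i, rfl⟩ := Nat.exists_eq_add_of_le hle
  rw [show f = (f - w * s ^ (p + 1 + i)) + (w * s ^ i) * s ^ (p + 1) by rw [pow_add]; ring]
  exact add_mem (Ideal.mem_sup_left hj)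
    (Ideal.mem_sup_right (Ideal.mul_mem_left _ _ (Ideal.mem_span_singleton_self _)))

/-- Squares of ideals in a node are not too small. -/
theorem length_sq_le (h : IsSplit s t) (J : Ideal R) {N : ℕ} (hN : maximalIdeal R ^ N ≤ J)
    (hJ : J ≤ maximalIdeal R) :
    Module.length R (R ⧸ J * J) ≤ 2 * Module.length R (R ⧸ J) + 1 := by
  obtain ⟨p, hp, z₁, hz₁, u, hu, hz₁u⟩ := exists_min_order h J hN hJ
  obtain ⟨q, hq, z₂, hz₂, w, hw, hz₂w⟩ := exists_min_order h.symm J hN hJ
  have hnext : ∀ (a b : R) (i : ℕ) (z : R), IsSplit a b → z ∈ Ideal.span {b} ⊔ Ideal.span {a ^ (i + 1)} →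
      (¬ ∃ v : R, IsUnit v ∧ z - v * a ^ (i + 1) ∈ Ideal.span {b}) →
      z ∈ Ideal.span {b} ⊔ Ideal.span {a ^ (i + 2)} := by
    intro a b i z hab hz hno
    obtain ⟨e, he, f, hf, rfl⟩ := Submodule.mem_sup.1 hz
    obtain ⟨c, rfl⟩ := Ideal.mem_span_singleton'.1 hf
    have hc : c ∈ maximalIdeal R := by
      by_contra hc
      exact hno ⟨c, not_not.1 hc, by simpa using he⟩
    rw [← hab.span] at hc
    obtain ⟨c₁, c₂, rfl⟩ := Ideal.mem_span_pair.1 hc
    rw [show e + (c₁ * a + c₂ * b) * a ^ (i + 1) = (e + c₂ * a ^ (i + 1) * b) + c₁ * a ^ (i + 2) by ring]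
    exact add_mem (Ideal.mem_sup_left (add_mem he (Ideal.mul_mem_left _ _ (Ideal.mem_span_singleton_self _))))
      (Ideal.mem_sup_right (Ideal.mul_mem_left _ _ (Ideal.mem_span_singleton_self _)))
  have hsum : ∀ (a b : R) (i : ℕ) (z z' v : R), IsSplit a b → IsUnit v →
      z - v * a ^ (i + 1) ∈ Ideal.span {b} → z' ∈ Ideal.span {b} ⊔ Ideal.span {a ^ (i + 2)} →
      ∃ v' : R, IsUnit v' ∧ (z + z') - v' * a ^ (i + 1) ∈ Ideal.span {b} := by
    intro a b i z z' v hab hv hz hz'
    obtain ⟨e, he, f, hf, rfl⟩ := Submodule.mem_sup.1 hz'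
    obtain ⟨c, rfl⟩ := Ideal.mem_span_singleton'.1 hf
    refine ⟨v + c * a, ?_, ?_⟩
    · by_contra hnu
      have := sub_mem ((mem_maximalIdeal _).2 hnu) (Ideal.mul_mem_left _ c hab.left_mem)
      exact (mem_maximalIdeal _).1 (by simpa using this) hv
    · rw [show z + (e + c * a ^ (i + 2)) - (v + c * a) * a ^ (i + 1) = (z - v * a ^ (i + 1)) + e by ring]
      exact add_mem hz he
  obtain ⟨z, hz, u, hu, hzu, w, hw, hzw⟩ : ∃ z ∈ J, ∃ u : R, IsUnit u ∧
      z - u * s ^ (p + 1) ∈ Ideal.span {t} ∧ ∃ w : R, IsUnit w ∧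
      z - w * t ^ (q + 1) ∈ Ideal.span {s} := by
    by_cases h1 : ∃ v : R, IsUnit v ∧ z₁ - v * t ^ (q + 1) ∈ Ideal.span {s}
    · exact ⟨z₁, hz₁, u, hu, hz₁u, h1⟩
    by_cases h2 : ∃ v : R, IsUnit v ∧ z₂ - v * s ^ (p + 1) ∈ Ideal.span {t}
    · obtain ⟨v, hv, hv'⟩ := h2
      exact ⟨z₂, hz₂, v, hv, hv', w, hw, hz₂w⟩
    obtain ⟨u', hu', hzu'⟩ := hsum s t p z₁ z₂ u h hu hz₁u (hnext s t p z₂ h (hp hz₂) h2)
    obtain ⟨w', hw', hzw'⟩ := hsum t s q z₂ z₁ w h.symm hw hz₂w (hnext t s q z₁ h.symm (hq hz₁) h1)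
    exact ⟨z₁ + z₂, add_mem hz₁ hz₂, u', hu', hzu', w', hw', by rwa [add_comm]⟩
  have hze : z = u * s ^ (p + 1) + w * t ^ (q + 1) := by
    refine sub_eq_zero.1 (h.eq_zero_of_mem ?_ ?_)
    · rw [show z - (u * s ^ (p + 1) + w * t ^ (q + 1)) = (z - w * t ^ (q + 1)) - u * s ^ p * s by ring]
      exact sub_mem hzw (Ideal.mul_mem_left _ _ (Ideal.mem_span_singleton_self _))
    · rw [show z - (u * s ^ (p + 1) + w * t ^ (q + 1)) = (z - u * s ^ (p + 1)) - w * t ^ q * t by ring]
      exact sub_mem hzu (Ideal.mul_mem_left _ _ (Ideal.mem_span_singleton_self _))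
  let I : Ideal R := Ideal.span {s ^ (p + 1), t ^ (q + 1)}
  have hJI : J ≤ I := fun f hf => by
    obtain ⟨e, he, g, hg, hf₁⟩ := Submodule.mem_sup.1 (hp hf)
    obtain ⟨a, rfl⟩ := Ideal.mem_span_singleton'.1 hg
    obtain ⟨e', he', g', hg', hf₂⟩ := Submodule.mem_sup.1 (hq hf)
    obtain ⟨b, rfl⟩ := Ideal.mem_span_singleton'.1 hg'
    refine Ideal.mem_span_pair.2 ⟨a, b, (sub_eq_zero.1 (h.eq_zero_of_mem ?_ ?_)).symm⟩
    · rw [show f - (a * s ^ (p + 1) + b * t ^ (q + 1)) = e' - a * s ^ p * s by rw [← hf₂]; ring]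
      exact sub_mem he' (Ideal.mul_mem_left _ _ (Ideal.mem_span_singleton_self _))
    · rw [show f - (a * s ^ (p + 1) + b * t ^ (q + 1)) = e - b * t ^ q * t by rw [← hf₁]; ring]
      exact sub_mem he (Ideal.mul_mem_left _ _ (Ideal.mem_span_singleton_self _))
  obtain ⟨u', hu'⟩ := hu.exists_left_inv
  obtain ⟨w', hw'⟩ := hw.exists_left_inv
  -- `I / zR` has length at most one
  let Z : Ideal R := Ideal.span {z}
  let f : R →ₗ[R] R ⧸ Z := (Ideal.Quotient.mkₐ R Z).toLinearMap ∘ₗ LinearMap.mulLeft R (s ^ (p + 1))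
  have hf : ∀ a, f a = Ideal.Quotient.mk Z (s ^ (p + 1) * a) := fun a => rfl
  have hker : maximalIdeal R ≤ LinearMap.ker f := by
    rw [← h.span, Ideal.span_le, Set.insert_subset_iff, Set.singleton_subset_iff]
    refine ⟨?_, ?_⟩ <;> rw [SetLike.mem_coe, LinearMap.mem_ker, hf, Ideal.Quotient.eq_zero_iff_mem,
      Ideal.mem_span_singleton']
    · refine ⟨u' * s, ?_⟩
      rw [hze]
      linear_combination (s ^ (p + 1) * s) * hu' + u' * w * t ^ q * h.mul
    · exact ⟨0, by linear_combination (-(s ^ p)) * h.mul⟩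
  let f' : ResidueField R →ₗ[R] R ⧸ Z := Submodule.liftQ (maximalIdeal R) f hker
  have hex := Module.length_eq_add_of_exact (LinearMap.range f').subtype (LinearMap.range f').mkQ
    Subtype.val_injective (Submodule.mkQ_surjective _) (LinearMap.exact_subtype_mkQ _)
  have h1 : Module.length R (LinearMap.range f') ≤ 1 := by
    refine (Module.length_le_of_surjective f'.rangeRestrict f'.surjective_rangeRestrict).trans ?_
    haveI : IsSimpleModule R (ResidueField R) :=
      isSimpleModule_iff_isCoatom.2 (maximalIdeal.isMaximal R).1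
    rw [Module.length_eq_one]
  have h2 : Module.length R ((R ⧸ Z) ⧸ LinearMap.range f') ≤ Module.length R (R ⧸ J) := by
    refine Module.length_le_of_surjective (Submodule.liftQ J ((LinearMap.range f').mkQ ∘ₗ
      (Ideal.Quotient.mkₐ R Z).toLinearMap) fun a ha => ?_) ?_
    · obtain ⟨x, y, rfl⟩ := Ideal.mem_span_pair.1 (hJI ha)
      rw [LinearMap.mem_ker, LinearMap.comp_apply, Submodule.mkQ_apply, Submodule.Quotient.mk_eq_zero]
      refine ⟨residue R (x - y * w' * u), ?_⟩
      show f (x - y * w' * u) = Ideal.Quotient.mk Z _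
      rw [hf, Ideal.Quotient.eq, Ideal.mem_span_singleton']
      refine ⟨-(y * w'), ?_⟩
      rw [hze]
      linear_combination (-(y * t ^ (q + 1))) * hw'
    · intro a
      obtain ⟨a, rfl⟩ := Submodule.Quotient.mk_surjective _ a
      obtain ⟨a, rfl⟩ := Ideal.Quotient.mk_surjective a
      exact ⟨Submodule.Quotient.mk a, rfl⟩
  have hZ : Module.length R (R ⧸ Z) ≤ 1 + Module.length R (R ⧸ J) := by
    rw [hex]; exact add_le_add h1 h2
  -- `R / zJ`
  let ZJ : Ideal R := Z * J
  have hZJ : ZJ ≤ J * J := Ideal.mul_mono_left ((Ideal.span_singleton_le_iff_mem _).2 hz)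
  let g : (R ⧸ J) →ₗ[R] R ⧸ ZJ := Submodule.mapQ J ZJ (LinearMap.mulLeft R z) fun a ha => by
    show z * a ∈ ZJ
    exact Ideal.mul_mem_mul (Ideal.mem_span_singleton_self z) ha
  let π : (R ⧸ ZJ) →ₗ[R] R ⧸ Z := (Ideal.Quotient.factorₐ R (Ideal.mul_le_inf.trans inf_le_left)).toLinearMap
  have hπ : Function.Exact g π := by
    rw [LinearMap.exact_iff]
    ext a
    obtain ⟨a, rfl⟩ := Ideal.Quotient.mk_surjective a
    constructor
    · intro ha
      obtain ⟨c, rfl⟩ := Ideal.mem_span_singleton'.1 (Ideal.Quotient.eq_zero_iff_mem.1 ha)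
      exact ⟨Submodule.Quotient.mk c, congrArg (Ideal.Quotient.mk ZJ) (mul_comm z c)⟩
    · rintro ⟨c, hc⟩
      obtain ⟨c, rfl⟩ := Submodule.Quotient.mk_surjective _ c
      rw [LinearMap.mem_ker, ← hc]
      exact Ideal.Quotient.eq_zero_iff_mem.2 (Ideal.mul_mem_right _ _ (Ideal.mem_span_singleton_self z))
  have hex2 := Module.length_eq_add_of_exact (LinearMap.range g).subtype π Subtype.val_injective
    (Ideal.Quotient.factor_surjective (Ideal.mul_le_inf.trans inf_le_left : ZJ ≤ Z))
    ((LinearMap.exact_iff).2 (by rw [hπ.linearMap_ker_eq, Submodule.range_subtype]))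
  calc Module.length R (R ⧸ J * J)
      ≤ Module.length R (R ⧸ ZJ) :=
        Module.length_le_of_surjective (Ideal.Quotient.factorₐ R hZJ).toLinearMap
          (Ideal.Quotient.factor_surjective hZJ)
    _ ≤ Module.length R (R ⧸ J) + (1 + Module.length R (R ⧸ J)) := by
        rw [hex2]
        exact add_le_add (Module.length_le_of_surjective g.rangeRestrict g.surjective_rangeRestrict) hZ
    _ = 2 * Module.length R (R ⧸ J) + 1 := by ring

end Split

section Completion

variable (A : Type u) [CommRing A] [IsLocalRing A] [IsNoetherianRing A]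

/-- Nodality only depends on the completion. -/
theorem isNodal_completion_iff :
    IsNodal A ↔ IsNodal (AdicCompletion (maximalIdeal A) A) :=
  isNodal_iff A _ AdicCompletion.maximalIdeal_eq_map.symm

/-- The completion has the residue field of the ring. -/
theorem residue_surjective (K : Type u) [CommRing K] [Algebra K A]
    (hK : Function.Surjective ((residue A).comp (algebraMap K A))) :
    Function.Surjective ((residue (AdicCompletion (maximalIdeal A) A)).comp
      (algebraMap K (AdicCompletion (maximalIdeal A) A))) := fun z => by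
  obtain ⟨y, rfl⟩ := (AdicCompletion.residueField_map_bijective (R := A)).2 z
  obtain ⟨c, rfl⟩ := hK y
  exact ⟨c, rfl⟩

variable {A}

/-- Split form of the completion over an algebraically closed residue field. -/
theorem exists_split (K : Type u) [Field K] [IsAlgClosed K] [Algebra K A]
    (hK : Function.Surjective ((residue A).comp (algebraMap K A))) (h : IsNodal A) :
    ∃ s t : AdicCompletion (maximalIdeal A) A, Branches.IsSplit s t := by
  have hR := (isNodal_completion_iff A).1 h
  obtain ⟨x, y, hxy, hst⟩ := Complete.exists_pair K (residue_surjective A K hK) hR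
  obtain ⟨s, t, hspan, h0⟩ := Complete.exists_zero hxy (![0, 1, 0])
    (by simp [disc]) (by simpa [quad] using hst)
  exact ⟨s, t, hspan, by simpa [quad] using h0, hR.length⟩

/-- A node with algebraically closed residue field is not geometrically unibranch. -/
theorem not_isGeomUnibranch (K : Type u) [Field K] [IsAlgClosed K] [Algebra K A]
    (hK : Function.Surjective ((residue A).comp (algebraMap K A))) (h : IsNodal A) :
    ¬ CAlg2.IsGeomUnibranch A := fun hA => by
  obtain ⟨s, t, hst⟩ := exists_split K hK h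
  have hdim : ringKrullDim A = 1 :=
    (Lib.Regular.Completion.ringKrullDim_eq (maximalIdeal A) (maximalIdeal.isMaximal A).ne_top).symm.trans hst.ringKrullDim_eq
  have hR : CAlg2.IsGeomUnibranch (AdicCompletion (maximalIdeal A) A) := by
    rw [← Lib.Unram.OneBranch.numGeomBranches_eq_one_iff, (S9241.result A hdim).2,
      Lib.Unram.OneBranch.numGeomBranches_eq_one_iff]
    exact hA
  exact hst.not_isUnibranch hR.1

/-- The fibre theorem. -/
theorem map_maximalIdeal_eq {B : Type u} [CommRing B] [IsLocalRing B] [IsNoetherianRing B]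
    [Algebra A B] [Module.Flat A B] [IsLocalHom (algebraMap A B)]
    (hfin : ∃ N, maximalIdeal B ^ N ≤ (maximalIdeal A).map (algebraMap A B))
    (K : Type u) [Field K] [IsAlgClosed K] [Algebra K B]
    (hK : Function.Surjective ((residue B).comp (algebraMap K B))) (h : IsNodal B)
    (hGU : IsDomain A → IsIntegrallyClosed A → CAlg2.IsGeomUnibranch B) :
    (maximalIdeal A).map (algebraMap A B) = maximalIdeal B := by
  obtain ⟨N, hN⟩ := hfin
  let J₀ : Ideal B := (maximalIdeal A).map (algebraMap A B)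
  have hle : J₀ ≤ maximalIdeal B := ((local_hom_TFAE (algebraMap A B)).out 0 2 rfl rfl).1 inferInstance
  obtain ⟨s, t, hst⟩ := exists_split K hK h
  let R := AdicCompletion (maximalIdeal B) B
  let J : Ideal R := J₀.map (algebraMap B R)
  have hmR : (maximalIdeal B).map (algebraMap B R) = maximalIdeal R :=
    AdicCompletion.maximalIdeal_eq_map.symm
  have hlenR : ∀ I : Ideal B, Module.length R (R ⧸ I.map (algebraMap B R)) = Module.length B (B ⧸ I) :=
    fun I => by
      haveI : IsSimpleModule R (R ⧸ maximalIdeal R) :=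
        isSimpleModule_iff_isCoatom.2 (maximalIdeal.isMaximal R).1
      rw [length_map B R, hmR, Module.length_eq_one R (R ⧸ maximalIdeal R), mul_one]
  have hsq := length_sq_le hst J (N := N)
    (by rw [← hmR, ← Ideal.map_pow]; exact Ideal.map_mono hN) (hmR ▸ Ideal.map_mono hle)
  rw [← Ideal.map_mul, hlenR, hlenR, show J₀ * J₀ =
    (maximalIdeal A ^ 2).map (algebraMap A B) by rw [pow_two, Ideal.map_mul], length_map A B] at hsq
  -- the fibre has finite nonzero length
  have hfinl : Module.length B (B ⧸ J₀) ≠ ⊤ := by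
    refine ne_top_of_le_ne_top ?_ (Module.length_le_of_surjective
      (Ideal.Quotient.factorₐ B hN).toLinearMap (Ideal.Quotient.factor_surjective hN))
    cases N with
    | zero =>
      haveI : Subsingleton (B ⧸ maximalIdeal B ^ 0) := Ideal.Quotient.subsingleton_iff.2 (by simp)
      simp [Module.length_eq_zero]
    | succ N => rw [h.length N]; exact ENat.natCast_ne_top _
  haveI : Nontrivial (B ⧸ J₀) := Ideal.Quotient.nontrivial_iff.2 fun e =>
    (maximalIdeal.isMaximal B).ne_top (top_le_iff.1 (e ▸ hle))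
  have hpos : 1 ≤ Module.length B (B ⧸ J₀) := Order.one_le_iff_pos.2 Module.length_pos
  by_cases hA : ((3 : ℕ) : ℕ∞) ≤ Module.length A (A ⧸ maximalIdeal A ^ 2)
  · have h1 : Module.length B (B ⧸ J₀) = 1 := by
      have h3 := (mul_le_mul_of_nonneg_left (a := Module.length B (B ⧸ J₀)) hA zero_le).trans
        ((mul_comm _ _).le.trans hsq)
      generalize Module.length B (B ⧸ J₀) = l at h3 hfinl hpos ⊢
      induction l using ENat.recTopCoe with
      | top => exact absurd rfl hfinl
      | coe l => norm_cast at h3 hpos ⊢; omega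
    haveI : IsSimpleModule B (B ⧸ J₀) := Module.length_eq_one_iff.1 h1
    exact IsLocalRing.eq_maximalIdeal
      ⟨isSimpleModule_iff_isCoatom.1 ‹IsSimpleModule B (B ⧸ J₀)›⟩
  exfalso
  push Not at hA
  -- otherwise the base is a discrete valuation ring
  have hnil : ¬ IsNilpotent (maximalIdeal A) := fun ⟨n, hn⟩ => by
    have hn' : maximalIdeal B ^ (N * n) = ⊥ := by
      refine le_bot_iff.1 ((pow_mul (maximalIdeal B) N n).le.trans ((Ideal.pow_right_mono hN n).trans ?_))
      rw [← Ideal.map_pow, hn]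
      exact (Ideal.map_bot).le
    have e1 := h.length (N * n)
    have e2 := h.length (N * n + 1)
    rw [pow_succ, hn', Ideal.bot_mul] at e1
    rw [pow_succ, pow_succ, hn', Ideal.bot_mul, Ideal.bot_mul, e1] at e2
    norm_cast at e2
    omega
  have hfinA : Module.length A (A ⧸ maximalIdeal A ^ 2) ≤ ((2 : ℕ) : ℕ∞) := by
    generalize Module.length A (A ⧸ maximalIdeal A ^ 2) = l at hA ⊢
    induction l using ENat.recTopCoe with
    | top => exact absurd hA (not_lt.2 le_top)
    | coe l => norm_cast at hA ⊢; omega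
  obtain ⟨d, hd, hd'⟩ : ∃ d, Module.finrank (ResidueField A) (CotangentSpace A) = d ∧ d ≤ 1 := by
    refine ⟨_, rfl, ?_⟩
    obtain ⟨l, hl⟩ := ENat.ne_top_iff_exists.1 (ne_top_of_le_ne_top (ENat.natCast_ne_top 2) hfinA)
    have hl2 : l ≤ 2 := by rw [← hl] at hfinA; exact_mod_cast hfinA
    cases l with
    | zero =>
      exfalso
      haveI := Module.length_eq_zero_iff.1 hl.symm
      exact (maximalIdeal.isMaximal A).ne_top (top_le_iff.1
        ((Ideal.Quotient.subsingleton_iff.1 ‹Subsingleton (A ⧸ maximalIdeal A ^ 2)›).ge.trans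
          (Ideal.pow_le_self two_ne_zero)))
    | succ l => rw [finrank_cotangentSpace_eq (d := l) hl.symm]; omega
  have hdim : 1 ≤ ringKrullDim A := by
    by_contra hlt
    haveI : Ring.KrullDimLE 0 A := by
      rw [Ring.krullDimLE_zero_iff]
      intro P hP
      by_contra hmax
      refine hlt (Order.one_le_krullDim_iff.2 ⟨⟨P, hP⟩, ⟨_, (maximalIdeal.isMaximal A).isPrime⟩,
        lt_of_le_of_ne (le_maximalIdeal hP.ne_top) fun e => hmax ?_⟩)
      rw [show P = maximalIdeal A from congrArg PrimeSpectrum.asIdeal e]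
      exact maximalIdeal.isMaximal A
    exact hnil ((isArtinianRing_iff_isNilpotent_maximalIdeal A).1
      (isArtinianRing_iff_krullDimLE_zero.2 ‹_›))
  haveI : IsRegularLocalRing A := IsRegularLocalRing.of_spanFinrank_maximalIdeal_le _ (by
    rw [spanFinrank_maximalIdeal_eq_finrank_cotangentSpace, hd]
    exact le_trans (by exact_mod_cast hd') hdim)
  haveI : IsDomain A := Lib.Regular.Quotient.isDomain A
  haveI : IsIntegrallyClosed A := by
    refine ((tfae_of_isNoetherianRing_of_isLocalRing_of_isDomain A).out 5 3 rfl rfl |>.1 ?_).1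
    rw [hd]; exact hd'
  exact not_isGeomUnibranch K hK h (hGU inferInstance inferInstance)

end Completion

end Groth.Agent.H25.Node.Fibre
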