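import Groth.Agent.H25.Node.Jacobian
import Mathlib.RingTheory.Kaehler.Basic
import Mathlib.RingTheory.Smooth.Field
import Mathlib.RingTheory.Etale.Field

/-!
A local algebra whose differentials have first Fitting ideal the maximal ideal is a node.
-/

set_option autoImplicit false
set_option linter.style.haveILetI false
universe u

open IsLocalRing

namespace Groth.Agent.H25.Node.FittCrit

variable (k A : Type u) [Field k] [CommRing A] [IsLocalRing A] [IsNoetherianRing A] [Algebra k A]
  [Algebra.IsSeparable k (ResidueField A)]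

/-- With separable residue field the differentials of generators of the maximal ideal generate. -/
theorem span_d [Module.Finite A Ω[A⁄k]] {e : ℕ} (Y : Fin e → A)
    (hY : Ideal.span (Set.range Y) = maximalIdeal A) :
    Submodule.span A (Set.range fun s => KaehlerDifferential.D k A (Y s)) = ⊤ := by
  let T := Submodule.span A (Set.range fun s => KaehlerDifferential.D k A (Y s)) ⊔
    maximalIdeal A • (⊤ : Submodule A Ω[A⁄k])
  refine top_le_iff.1 (Submodule.le_of_le_smul_of_le_jacobson_bot Module.Finite.fg_top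
    (jacobson_eq_maximalIdeal ⊥ bot_ne_top).ge (show ⊤ ≤ T from ?_))
  have hm : ∀ z ∈ maximalIdeal A, KaehlerDifferential.D k A z ∈ T := by
    intro z hz
    rw [← hY, Ideal.mem_span_range_iff_exists_fun] at hz
    obtain ⟨c, rfl⟩ := hz
    rw [map_sum]
    refine sum_mem fun s _ => ?_
    rw [Derivation.leibniz]
    exact add_mem (Submodule.mem_sup_left (Submodule.smul_mem _ _ (Submodule.subset_span ⟨s, rfl⟩)))
      (Submodule.mem_sup_right (Submodule.smul_mem_smul (hY ▸ Ideal.subset_span ⟨s, rfl⟩) trivial))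
  rw [← KaehlerDifferential.span_range_derivation, Submodule.span_le]
  rintro _ ⟨α, rfl⟩
  let a := residue A α
  have hsep : (minpoly k a).Separable := Algebra.IsSeparable.isSeparable k a
  have h1 : Polynomial.aeval α (minpoly k a) ∈ maximalIdeal A := by
    rw [← residue_eq_zero_iff]
    exact (Polynomial.aeval_algebraMap_apply (ResidueField A) α _).symm.trans (minpoly.aeval k a)
  have h2 : IsUnit (Polynomial.aeval α (minpoly k a).derivative) := by
    rw [← residue_ne_zero_iff_isUnit]
    intro h0
    exact hsep.aeval_derivative_ne_zero (minpoly.aeval k a)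
      ((Polynomial.aeval_algebraMap_apply (ResidueField A) α _).trans h0)
  have h3 := hm _ h1
  rw [Derivation.map_aeval] at h3
  exact (Submodule.smul_mem_iff_of_isUnit T h2).1 h3

/-- **The Fitting criterion for nodes.** -/
theorem isNodal_of_fitt [Module.Finite A Ω[A⁄k]] (h : Fitt.ideal A Ω[A⁄k] 1 = maximalIdeal A)
    {f : A} (hf : f ∈ maximalIdeal A) (hf0 : f ∈ nonZeroDivisors A) : IsNodal A := by
  classical
  generalize he : Module.finrank (ResidueField A) (CotangentSpace A) = e
  let b := Module.finBasisOfFinrankEq _ _ he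
  choose z hz using fun s => (maximalIdeal A).toCotangent_surjective (b s)
  let Y : Fin e → A := fun s => (z s).1
  have hY : Ideal.span (Set.range Y) = maximalIdeal A := by
    have h1 : Submodule.span A (Set.range z) = ⊤ := by
      rw [← CotangentSpace.span_image_eq_top_iff, ← Set.range_comp, show _ ∘ z = ⇑b from funext hz]
      exact b.span_eq
    have h2 := congrArg (Submodule.map (maximalIdeal A).subtype) h1
    rwa [Submodule.map_span, Submodule.map_top, Submodule.range_subtype, ← Set.range_comp] at h2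
  have hind : ∀ a : Fin e → A, ∑ s, a s * Y s ∈ maximalIdeal A ^ 2 → ∀ s, a s ∈ maximalIdeal A := by
    intro a ha s
    have h1 : ∑ s, residue A (a s) • b s = 0 := by
      have h2 : (maximalIdeal A).toCotangent (∑ s, a s • z s) = 0 := by
        rw [Ideal.toCotangent_eq_zero]
        simpa [Y] using ha
      rw [map_sum] at h2
      refine Eq.trans (Finset.sum_congr rfl fun s _ => ?_) h2
      rw [LinearMap.map_smul, hz]
      rfl
    exact (residue_eq_zero_iff _).1 (Fintype.linearIndependent_iff.1 b.linearIndependent _ h1 s)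
  -- the truncation
  let R3 := A ⧸ maximalIdeal A ^ 3
  haveI : Nontrivial R3 := Ideal.Quotient.nontrivial_iff.2 fun h0 =>
    (maximalIdeal.isMaximal A).ne_top (top_le_iff.1 (h0.ge.trans (Ideal.pow_le_self three_ne_zero)))
  haveI : IsLocalRing R3 := IsLocalRing.of_surjective' (Ideal.Quotient.mk _) Ideal.Quotient.mk_surjective
  haveI : IsLocalHom (Ideal.Quotient.mk (maximalIdeal A ^ 3)) := IsLocalHom.of_surjective _ Ideal.Quotient.mk_surjective
  have hmap : (maximalIdeal A).map (Ideal.Quotient.mk (maximalIdeal A ^ 3)) = maximalIdeal R3 :=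
    IsLocalRing.map_maximalIdeal_of_surjective _ Ideal.Quotient.mk_surjective
  have hnil : maximalIdeal R3 ^ 3 = ⊥ := by
    rw [← hmap, ← Ideal.map_pow, Ideal.map_quotient_self]
  haveI : IsAdicComplete (maximalIdeal R3) R3 := H24.PowerSeries.isAdicComplete_of_pow_eq_bot _ 3 hnil
  let K := ResidueField R3
  let ρ : ResidueField A →ₐ[k] K :=
    { toRingHom := ResidueField.map (Ideal.Quotient.mk (maximalIdeal A ^ 3))
      commutes' := fun _ => rfl }
  have hρ : Function.Bijective ρ := ⟨ρ.toRingHom.injective, fun c => by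
    obtain ⟨c, rfl⟩ := IsLocalRing.residue_surjective c
    obtain ⟨a, rfl⟩ := Ideal.Quotient.mk_surjective c
    exact ⟨residue A a, ResidueField.map_residue _ _⟩⟩
  haveI : Algebra.IsSeparable k K := AlgEquiv.Algebra.isSeparable (AlgEquiv.ofBijective ρ hρ)
  haveI : Algebra.FormallyEtale k K := Algebra.FormallyEtale.of_isSeparable k K
  obtain ⟨σ, hσ⟩ := Coefficient.exists_section k R3
  letI : Algebra K R3 := σ.toRingHom.toAlgebra
  haveI : IsAdicComplete (maximalIdeal (MvPowerSeries (Fin e) K)) (MvPowerSeries (Fin e) K) :=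
    H24.PowerSeries.isAdicComplete K (Fin e)
  have hYm : ∀ s, Ideal.Quotient.mk (maximalIdeal A ^ 3) (Y s) ∈ maximalIdeal R3 := fun s =>
    hmap ▸ Ideal.mem_map_of_mem _ (z s).2
  obtain ⟨π, hπ⟩ := H24.PowerSeries.exists_hom (A := K) (maximalIdeal R3) _ hYm
  have hXle : (maximalIdeal (MvPowerSeries (Fin e) K)).map π.toRingHom = maximalIdeal R3 := by
    rw [H24.PowerSeries.maximalIdeal_eq, Ideal.map_span, ← Set.range_comp, ← hmap]
    refine Eq.trans ?_ (congrArg (Ideal.map (Ideal.Quotient.mk (maximalIdeal A ^ 3))) hY)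
    rw [Ideal.map_span, ← Set.range_comp]
    exact congrArg (fun g => Ideal.span (Set.range g)) (funext hπ)
  have hπs : Function.Surjective π := H24.PowerSeries.surjective_of_cotangent π.toRingHom
    (fun c => ⟨algebraMap K _ c, by
      show residue R3 (π (algebraMap K _ c)) = c
      rw [π.commutes]; exact hσ c⟩) hXle.le (hXle.ge.trans le_sup_left)
  haveI : IsLocalHom π.toRingHom := IsLocalHom.of_surjective _ hπs
  have hker : ∀ g : MvPowerSeries (Fin e) K, π g = 0 → g ∈ maximalIdeal (MvPowerSeries (Fin e) K) ^ 2 := by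
    intro g hg
    obtain ⟨a, rfl⟩ := Jacobian.exists_coeffs K (g := g) (fun hu => not_isUnit_zero (hg ▸ hu.map π))
    choose a' ha' using fun s => Ideal.Quotient.mk_surjective (I := maximalIdeal A ^ 3) (π (a s))
    have h1 := hind a' (Ideal.pow_le_pow_right (show 2 ≤ 3 by norm_num) ((Ideal.Quotient.eq_zero_iff_mem).1 (by
      rw [map_sum, ← hg, map_sum]
      exact Finset.sum_congr rfl fun s _ => by rw [map_mul, map_mul, ha', hπ])))
    rw [pow_two]
    refine sum_mem fun s _ => Ideal.mul_mem_mul (fun hu => ?_) (H24.PowerSeries.X_mem K s)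
    refine h1 s (isUnit_of_map_unit (Ideal.Quotient.mk (maximalIdeal A ^ 3)) _ ?_)
    rw [ha']
    exact hu.map π
  let q : MvPowerSeries (Fin e) K →+* A ⧸ maximalIdeal A ^ 2 :=
    (Ideal.Quotient.factor (Ideal.pow_le_pow_right (show 2 ≤ 3 by norm_num))).comp π.toRingHom
  have hq : ∀ (g : MvPowerSeries (Fin e) K) (α : A), π g = Ideal.Quotient.mk _ α → q g = Ideal.Quotient.mk _ α :=
    fun g α hgα => by
      show Ideal.Quotient.factor (Ideal.pow_le_pow_right (show 2 ≤ 3 by norm_num)) (π g) = _
      rw [hgα, Ideal.Quotient.factor_mk]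
  -- the target of the derivation
  let W : Submodule A (Fin e → A ⧸ maximalIdeal A ^ 2) :=
    Submodule.span A {w | ∃ g, π g = 0 ∧ w = q ∘ Jacobian.grad K g}
  let L : A → MvPowerSeries (Fin e) K := fun α => Function.surjInv hπs (Ideal.Quotient.mk _ α)
  have hL : ∀ α, π (L α) = Ideal.Quotient.mk _ α := fun α => Function.surjInv_eq hπs _
  let D : A → (Fin e → A ⧸ maximalIdeal A ^ 2) ⧸ W := fun α =>
    Submodule.Quotient.mk (q ∘ Jacobian.grad K (L α))
  have hD : ∀ (α : A) (g : MvPowerSeries (Fin e) K), π g = Ideal.Quotient.mk _ α →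
      D α = Submodule.Quotient.mk (q ∘ Jacobian.grad K g) := by
    intro α g hg
    refine (Submodule.Quotient.eq W).2 (Submodule.subset_span ⟨L α - g, by rw [map_sub, hL, hg, sub_self], ?_⟩)
    funext i
    simp [Jacobian.grad]
  have hDadd : ∀ α β, D (α + β) = D α + D β := fun α β => by
    rw [hD (α + β) (L α + L β) (by rw [map_add, map_add, hL, hL]), ← Submodule.Quotient.mk_add]
    congr 1
    funext i
    simp [Jacobian.grad]
  have hDmul : ∀ α β, D (α * β) = α • D β + β • D α := fun α β => by
    rw [hD (α * β) (L α * L β) (by rw [map_mul, map_mul, hL, hL]), ← Submodule.Quotient.mk_smul,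
      ← Submodule.Quotient.mk_smul, ← Submodule.Quotient.mk_add]
    congr 1
    funext i
    simp [Jacobian.grad, hq _ _ (hL α), hq _ _ (hL β), Algebra.smul_def]
  have hDC : ∀ c : k, D (algebraMap k A c) = 0 := fun c => by
    rw [hD _ (MvPowerSeries.C (algebraMap k K c)) ?_, ← Submodule.Quotient.mk_zero]
    · congr 1
      funext i
      simp [Jacobian.grad]
    · have h1 : (MvPowerSeries.C (algebraMap k K c) : MvPowerSeries (Fin e) K) = algebraMap K _ (algebraMap k K c) := by
        rw [MvPowerSeries.algebraMap_apply]; rfl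
      rw [h1, π.commutes]
      exact σ.commutes c
  let δ : Derivation k A ((Fin e → A ⧸ maximalIdeal A ^ 2) ⧸ W) := Derivation.mk'
    { toFun := D
      map_add' := hDadd
      map_smul' := fun c α => by
        rw [RingHom.id_apply, Algebra.smul_def, hDmul, hDC, smul_zero, add_zero, algebraMap_smul] }
    (fun α β => hDmul α β)
  have hrel : ∀ w ∈ Fitting.rel (R := A) (fun s => KaehlerDifferential.D k A (Y s)),
      (Ideal.Quotient.mk (maximalIdeal A ^ 2) ∘ w) ∈ W := by
    intro w hw
    have h1 := congrArg δ.liftKaehlerDifferential (Fitting.mem_rel.1 hw)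
    simp only [map_sum, LinearMap.map_smul, Derivation.liftKaehlerDifferential_comp_D, map_zero] at h1
    have h2 : ∀ s, δ (Y s) = Submodule.Quotient.mk (Pi.single s 1) := fun s => by
      show D (Y s) = _
      rw [hD (Y s) (MvPowerSeries.X s) (hπ s)]
      congr 1
      funext i
      simp [Jacobian.grad_X, Pi.single_apply, apply_ite q]
    simp only [h2, ← Submodule.mkQ_apply, ← map_smul, ← map_sum] at h1
    rw [Submodule.mkQ_apply, Submodule.Quotient.mk_eq_zero] at h1
    convert h1 using 1
    funext i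
    simp [Pi.single_apply, Algebra.smul_def]
  have hspan := span_d k A Y hY
  -- the coefficients of relations
  have hWm : ∀ w ∈ W, ∀ i, w i ∈ (maximalIdeal A).map (Ideal.Quotient.mk (maximalIdeal A ^ 2)) := by
    intro w hw i
    refine (Submodule.span_le.2 ?_ : W ≤ (((maximalIdeal A).map (Ideal.Quotient.mk
      (maximalIdeal A ^ 2))).restrictScalars A).comap (LinearMap.proj i)) hw
    rintro _ ⟨g, hg, rfl⟩
    rw [SetLike.mem_coe, Submodule.mem_comap, LinearMap.proj_apply, Submodule.restrictScalars_mem, Function.comp_apply]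
    have h1 : π (Jacobian.grad K g i) ∈ maximalIdeal R3 := by
      rw [← hXle]
      exact Ideal.mem_map_of_mem π.toRingHom (by simpa [Jacobian.grad] using Jacobian.pderiv_pow_mem K i 1 g (hker g hg))
    rw [← hmap] at h1
    have h2 := Ideal.mem_map_of_mem (Ideal.Quotient.factor (Ideal.pow_le_pow_right (show 2 ≤ 3 by norm_num))) h1
    rwa [Ideal.map_map, Ideal.Quotient.factor_comp_mk] at h2
  have hrelm : ∀ w ∈ Fitting.rel (R := A) (fun s => KaehlerDifferential.D k A (Y s)), ∀ i, w i ∈ maximalIdeal A := by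
    intro w hw i
    have h1 := hWm _ (hrel w hw) i
    rw [Function.comp_apply, ← Ideal.mem_comap, Ideal.comap_map_of_surjective _ Ideal.Quotient.mk_surjective,
      ← RingHom.ker_eq_comap_bot, Ideal.mk_ker, sup_eq_left.2 (Ideal.pow_le_self two_ne_zero)] at h1
    exact h1
  have he2 : e = 2 := by
    rcases lt_trichotomy e 2 with hlt | heq | hgt
    · exfalso
      rw [Fitting.ideal_eq_top _ hspan (by omega)] at h
      exact (maximalIdeal.isMaximal A).ne_top h.symm
    · exact heq
    · exfalso
      have hsq : Fitt.ideal A Ω[A⁄k] 1 ≤ maximalIdeal A ^ 2 := by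
        rw [Fitting.ideal_eq _ hspan 1, Fitting.Mn, Ideal.span_le]
        rintro _ ⟨w, c, hw, rfl⟩
        exact Ideal.pow_le_pow_right (by omega) (Jacobian.det_mem _ _ fun i j => hrelm _ (hw j) (c i))
      rw [h] at hsq
      haveI : Subsingleton (CotangentSpace A) :=
        subsingleton_of_forall_eq 0 fun c => by
          obtain ⟨c, rfl⟩ := (maximalIdeal A).toCotangent_surjective c
          rw [Ideal.toCotangent_eq_zero]
          exact hsq c.2
      rw [Module.finrank_zero_of_subsingleton] at he
      omega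
  subst he2
  let DQ : Ideal (MvPowerSeries (Fin 2) K) :=
    Ideal.span {p | ∃ g ∈ {g | π g = 0}, ∃ t, p = MvPowerSeries.pderiv K t g}
  have hfit : maximalIdeal A ≤ (DQ.map q).comap (Ideal.Quotient.mk (maximalIdeal A ^ 2)) := by
    refine le_of_eq_of_le h.symm ?_
    rw [Fitting.ideal_eq _ hspan 1, Fitting.Mn, Ideal.span_le]
    rintro _ ⟨w, c, hw, rfl⟩
    rw [SetLike.mem_coe, Matrix.det_fin_one, Ideal.mem_comap]
    refine (Submodule.span_le.2 ?_ : W ≤ ((DQ.map q).restrictScalars A).comap (LinearMap.proj (c 0))) (hrel _ (hw 0))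
    rintro _ ⟨g, hg, rfl⟩
    exact Ideal.mem_map_of_mem q (Ideal.subset_span ⟨g, hg, c 0, rfl⟩)
  have hgen : maximalIdeal (MvPowerSeries (Fin 2) K) ≤ DQ ⊔ maximalIdeal (MvPowerSeries (Fin 2) K) ^ 2 := by
    intro p hp
    obtain ⟨α, hα⟩ := Ideal.Quotient.mk_surjective (π p)
    have hαm : α ∈ maximalIdeal A := fun hu => by
      have h1 : π p ∈ maximalIdeal R3 := hXle ▸ Ideal.mem_map_of_mem π.toRingHom hp
      exact h1 (hα ▸ hu.map _)
    have h1 := hfit hαm
    rw [Ideal.mem_comap, ← hq p α hα.symm, ← Ideal.mem_comap, Ideal.comap_map_of_surjective q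
      ((Ideal.Quotient.factor_surjective (Ideal.pow_le_pow_right (show 2 ≤ 3 by norm_num))).comp hπs)] at h1
    refine sup_le_sup le_rfl (show Ideal.comap q ⊥ ≤ maximalIdeal (MvPowerSeries (Fin 2) K) ^ 2 from fun g hg => ?_) h1
    have h2 : Ideal.Quotient.factor (Ideal.pow_le_pow_right (show 2 ≤ 3 by norm_num)) (π g) = 0 := Ideal.mem_bot.1 hg
    obtain ⟨β, hβ⟩ := Ideal.Quotient.mk_surjective (π g)
    rw [← hβ, Ideal.Quotient.factor_mk, Ideal.Quotient.eq_zero_iff_mem] at h2
    have h3 : π g ∈ (maximalIdeal (MvPowerSeries (Fin 2) K) ^ 2).map π.toRingHom := by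
      rw [Ideal.map_pow, hXle, ← hmap, ← Ideal.map_pow, ← hβ]
      exact Ideal.mem_map_of_mem _ h2
    obtain ⟨g', hg', e'⟩ := (Ideal.mem_map_iff_of_surjective π.toRingHom hπs).1 h3
    have h4 := hker (g - g') (by rw [map_sub]; exact sub_eq_zero.2 e'.symm)
    simpa using add_mem h4 hg'
  obtain ⟨g, hg, v, hdv, hgv⟩ := Jacobian.exists_disc K {g | π g = 0}
    (fun a ha b hb => show π (a + b) = 0 by rw [map_add, ha, hb, add_zero]) hker hgen
  have hform : π (Model.form K v) = 0 := by
    have h1 : π.toRingHom (g - Model.form K v) ∈ ((maximalIdeal (MvPowerSeries (Fin 2) K)) ^ 3).map π.toRingHom :=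
      Ideal.mem_map_of_mem _ hgv
    rw [Ideal.map_pow, hXle, hnil, Ideal.mem_bot, map_sub, show π.toRingHom g = 0 from hg, zero_sub, neg_eq_zero] at h1
    exact h1
  choose vA hvA using fun i => Ideal.Quotient.mk_surjective (I := maximalIdeal A ^ 3) (σ (v i))
  have hquad : quad vA (Y 0) (Y 1) ∈ maximalIdeal A ^ 3 := by
    rw [← Ideal.Quotient.eq_zero_iff_mem, ← hform, Model.form,
      show π (quad (MvPowerSeries.C ∘ v) (MvPowerSeries.X 0) (MvPowerSeries.X 1)) = _ from map_quad π.toRingHom _ _ _,
      map_quad]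
    congr 1
    · funext i
      show Ideal.Quotient.mk _ (vA i) = π (MvPowerSeries.C (v i))
      rw [hvA]
      exact (π.commutes (v i)).symm
    · exact (hπ 0).symm
    · exact (hπ 1).symm
  have hdisc : IsUnit (disc vA) := by
    refine isUnit_of_map_unit (Ideal.Quotient.mk (maximalIdeal A ^ 3)) _ ?_
    rw [map_disc, show ⇑(Ideal.Quotient.mk (maximalIdeal A ^ 3)) ∘ vA = ⇑σ.toRingHom ∘ v from funext hvA, ← map_disc]
    exact (Ne.isUnit hdv).map _
  haveI : Algebra.FormallyEtale k (ResidueField A) := Algebra.FormallyEtale.of_isSeparable k _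
  exact Algebraic.isNodal_of_nzd k A hf hf0 he (by
    rw [← hY]; congr 1; ext w; simp [Fin.exists_fin_two, eq_comm]) hquad hdisc

end Groth.Agent.H25.Node.FittCrit
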