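import Groth.Agent.H25.Node.Quadratic
import Groth.Agent.H25.Node.Algebraic
import Groth.Agent.H25.Fitting
import Groth.Agent.Lib.Adic.Complete
import Mathlib.RingTheory.MvPowerSeries.Derivative

/-!
Nodes of complete local algebras through the minors of the Jacobian matrix.
-/

set_option autoImplicit false
set_option linter.style.haveILetI false
universe u

open IsLocalRing

namespace Groth.Agent.H25.Node.Jacobian

variable (k : Type u) [Field k]

/-- The gradient. -/
noncomputable def grad {n : ℕ} (g : MvPowerSeries (Fin n) k) : Fin n → MvPowerSeries (Fin n) k :=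
  fun i => MvPowerSeries.pderiv k i g

theorem grad_add {n : ℕ} (g h : MvPowerSeries (Fin n) k) : grad k (g + h) = grad k g + grad k h := by
  funext i; simp [grad]

theorem grad_mul {n : ℕ} (g h : MvPowerSeries (Fin n) k) : grad k (g * h) = g • grad k h + h • grad k g := by
  funext i; simp [grad]

theorem grad_C {n : ℕ} (c : k) : grad k (MvPowerSeries.C c : MvPowerSeries (Fin n) k) = 0 := by
  funext i; simp [grad]

theorem grad_X {n : ℕ} (i : Fin n) : grad k (MvPowerSeries.X i) = Pi.single i 1 := by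
  funext j
  simp only [grad, MvPowerSeries.pderiv_X, Pi.single_apply]
  split_ifs <;> simp_all

theorem sub_C_mem {n : ℕ} (g : MvPowerSeries (Fin n) k) :
    g - MvPowerSeries.C (MvPowerSeries.constantCoeff g) ∈ maximalIdeal (MvPowerSeries (Fin n) k) := by
  rw [H24.PowerSeries.maximalIdeal_eq k (Fin n)]
  apply H23.PSAut.mem_span_X_of_constantCoeff
  simp

theorem mem_maximal_iff {n : ℕ} (g : MvPowerSeries (Fin n) k) :
    g ∈ maximalIdeal (MvPowerSeries (Fin n) k) ↔ MvPowerSeries.constantCoeff g = 0 := by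
  rw [mem_maximalIdeal, mem_nonunits_iff, MvPowerSeries.isUnit_iff_constantCoeff, isUnit_iff_ne_zero, not_not]

theorem exists_coeffs {n : ℕ} {g : MvPowerSeries (Fin n) k} (hg : g ∈ maximalIdeal (MvPowerSeries (Fin n) k)) :
    ∃ a : Fin n → MvPowerSeries (Fin n) k, g = ∑ i, a i * MvPowerSeries.X i := by
  rw [H24.PowerSeries.maximalIdeal_eq k (Fin n), Ideal.mem_span_range_iff_exists_fun] at hg
  obtain ⟨a, ha⟩ := hg
  exact ⟨a, ha.symm⟩

theorem pderiv_pow_mem {n : ℕ} (t : Fin n) : ∀ (j : ℕ), ∀ g ∈ maximalIdeal (MvPowerSeries (Fin n) k) ^ (j + 1),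
    MvPowerSeries.pderiv k t g ∈ maximalIdeal (MvPowerSeries (Fin n) k) ^ j
  | 0, g, _ => by simp
  | j + 1, g, hg => by
    rw [pow_succ'] at hg
    refine Submodule.mul_induction_on hg (fun x hx y hy => ?_) fun x y hx hy => by
      rw [map_add]; exact add_mem hx hy
    rw [Derivation.leibniz, smul_eq_mul, smul_eq_mul]
    refine add_mem ?_ (Ideal.mul_mem_right _ _ hy)
    rw [pow_succ']
    exact Ideal.mul_mem_mul hx (pderiv_pow_mem t j y hy)

section Quot

variable {n m : ℕ} (f : Fin m → MvPowerSeries (Fin n) k)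


/-- The rows of the Jacobian matrix. -/
noncomputable def rows : Set (Fin n → (MvPowerSeries (Fin n) k ⧸ Ideal.span (Set.range f))) :=
  Set.range fun j => Ideal.Quotient.mk (Ideal.span (Set.range f)) ∘ grad k (f j)

/-- The differentials of the quotient. -/
abbrev Mod : Type u := (Fin n → (MvPowerSeries (Fin n) k ⧸ Ideal.span (Set.range f))) ⧸ Submodule.span (MvPowerSeries (Fin n) k ⧸ Ideal.span (Set.range f)) (rows k f)

/-- The differential. -/
noncomputable def dA (g : (MvPowerSeries (Fin n) k)) : Mod k f :=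
  Submodule.Quotient.mk (Ideal.Quotient.mk (Ideal.span (Set.range f)) ∘ grad k g)

theorem dA_add (g h : (MvPowerSeries (Fin n) k)) : dA k f (g + h) = dA k f g + dA k f h := by
  rw [dA, dA, dA, ← Submodule.Quotient.mk_add, grad_add]
  congr 1

theorem dA_mul (g h : (MvPowerSeries (Fin n) k)) : dA k f (g * h) =
    Ideal.Quotient.mk (Ideal.span (Set.range f)) g • dA k f h + Ideal.Quotient.mk (Ideal.span (Set.range f)) h • dA k f g := by
  rw [dA, dA, dA, ← Submodule.Quotient.mk_smul, ← Submodule.Quotient.mk_smul, ← Submodule.Quotient.mk_add, grad_mul]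
  congr 1

theorem dA_C (c : k) : dA k f (MvPowerSeries.C c) = 0 := by
  rw [dA, grad_C, ← Submodule.Quotient.mk_zero]
  congr 1

theorem dA_ker {g : (MvPowerSeries (Fin n) k)} (hg : g ∈ Ideal.span (Set.range f)) : dA k f g = 0 := by
  induction hg using Submodule.span_induction with
  | mem g hg =>
    obtain ⟨j, rfl⟩ := hg
    exact (Submodule.Quotient.mk_eq_zero _).2 (Submodule.subset_span ⟨j, rfl⟩)
  | zero => simpa using dA_C k f 0
  | add g h _ _ hg hh => rw [dA_add, hg, hh, add_zero]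
  | smul a g hgI hg =>
    have e : Ideal.Quotient.mk (Ideal.span (Set.range f)) ∘ grad k (a * g) =
        Ideal.Quotient.mk (Ideal.span (Set.range f)) a • (Ideal.Quotient.mk (Ideal.span (Set.range f)) ∘ grad k g) := by
      funext i
      simp [grad_mul, (Ideal.Quotient.eq_zero_iff_mem (I := Ideal.span (Set.range f))).2 hgI]
    rw [smul_eq_mul, dA, e, Submodule.Quotient.mk_smul]
    show _ • dA k f g = 0
    rw [hg, smul_zero]

theorem dA_congr {g h : (MvPowerSeries (Fin n) k)} (e : Ideal.Quotient.mk (Ideal.span (Set.range f)) g = Ideal.Quotient.mk _ h) :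
    dA k f g = dA k f h := by
  have h1 := dA_ker k f (Ideal.Quotient.eq.1 e)
  have h2 := dA_add k f (g - h) h
  rwa [sub_add_cancel, h1, zero_add] at h2

theorem dA_sum {ι : Type*} (s : Finset ι) (a b : ι → (MvPowerSeries (Fin n) k)) : dA k f (∑ i ∈ s, a i * b i) =
    ∑ i ∈ s, (Ideal.Quotient.mk (Ideal.span (Set.range f)) (a i) • dA k f (b i) +
      Ideal.Quotient.mk (Ideal.span (Set.range f)) (b i) • dA k f (a i)) := by
  classical
  induction s using Finset.induction with
  | empty => simpa using dA_C k f 0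
  | @insert i s hi ih => rw [Finset.sum_insert hi, Finset.sum_insert hi, dA_add, dA_mul, ih]

theorem dA_X (i : Fin n) : dA k f (MvPowerSeries.X i) = Submodule.Quotient.mk (Pi.single i 1) := by
  rw [dA, grad_X]
  congr 1
  funext j
  simp [Pi.single_apply, apply_ite (Ideal.Quotient.mk (Ideal.span (Set.range f)))]

theorem span_dX : Submodule.span (MvPowerSeries (Fin n) k ⧸ Ideal.span (Set.range f)) (Set.range fun i => dA k f (MvPowerSeries.X i)) = ⊤ := by
  have h := (Pi.basisFun (MvPowerSeries (Fin n) k ⧸ Ideal.span (Set.range f)) (Fin n)).span_eq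
  have h2 := congrArg (Submodule.map (Submodule.span (MvPowerSeries (Fin n) k ⧸ Ideal.span (Set.range f)) (rows k f)).mkQ) h
  rw [Submodule.map_span, Submodule.map_top, Submodule.range_mkQ] at h2
  rw [← h2, ← Set.range_comp]
  congr 2
  funext i
  simp [dA_X]

theorem rel_dX : Fitting.rel (R := (MvPowerSeries (Fin n) k ⧸ Ideal.span (Set.range f))) (fun i => dA k f (MvPowerSeries.X i)) = Submodule.span (MvPowerSeries (Fin n) k ⧸ Ideal.span (Set.range f)) (rows k f) := by
  ext v
  have e : ∑ i, v i • dA k f (MvPowerSeries.X i) = Submodule.Quotient.mk v := by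
    simp only [dA_X, ← Submodule.mkQ_apply, ← map_smul, ← map_sum]
    rw [← pi_eq_sum_univ' v]
  rw [Fitting.mem_rel, e, Submodule.Quotient.mk_eq_zero]

variable [IsLocalRing (MvPowerSeries (Fin n) k ⧸ Ideal.span (Set.range f))] [IsLocalHom (Ideal.Quotient.mk (Ideal.span (Set.range f)))]

theorem mem_mk_maximal {g : (MvPowerSeries (Fin n) k)} : Ideal.Quotient.mk (Ideal.span (Set.range f)) g ∈ maximalIdeal (MvPowerSeries (Fin n) k ⧸ Ideal.span (Set.range f)) ↔
    g ∈ maximalIdeal (MvPowerSeries (Fin n) k) :=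
  ⟨fun h hu => h (hu.map _), fun h hu => h (isUnit_of_map_unit _ _ hu)⟩

theorem map_maximal : (maximalIdeal (MvPowerSeries (Fin n) k)).map (Ideal.Quotient.mk (Ideal.span (Set.range f))) = maximalIdeal (MvPowerSeries (Fin n) k ⧸ Ideal.span (Set.range f)) := by
  refine le_antisymm (Ideal.map_le_iff_le_comap.2 fun g hg => (mem_mk_maximal k f).2 hg) fun z hz => ?_
  obtain ⟨g, rfl⟩ := Ideal.Quotient.mk_surjective z
  exact Ideal.mem_map_of_mem _ ((mem_mk_maximal k f).1 hz)

/-- The differentials of generators of the maximal ideal generate. -/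
theorem span_gen {e : ℕ} (Y : Fin e → (MvPowerSeries (Fin n) k))
    (hY : Ideal.span (Set.range fun s => Ideal.Quotient.mk (Ideal.span (Set.range f)) (Y s)) = maximalIdeal (MvPowerSeries (Fin n) k ⧸ Ideal.span (Set.range f))) :
    Submodule.span (MvPowerSeries (Fin n) k ⧸ Ideal.span (Set.range f)) (Set.range fun s => dA k f (Y s)) = ⊤ := by
  refine top_le_iff.1 ?_
  refine Submodule.le_of_le_smul_of_le_jacobson_bot Module.Finite.fg_top
    (jacobson_eq_maximalIdeal ⊥ bot_ne_top).ge ?_
  rw [← span_dX k f, Submodule.span_le]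
  rintro _ ⟨i, rfl⟩
  have hi : Ideal.Quotient.mk (Ideal.span (Set.range f)) (MvPowerSeries.X i) ∈ maximalIdeal (MvPowerSeries (Fin n) k ⧸ Ideal.span (Set.range f)) :=
    (mem_mk_maximal k f).2 (H24.PowerSeries.X_mem k i)
  rw [← hY, Ideal.mem_span_range_iff_exists_fun] at hi
  obtain ⟨c, hc⟩ := hi
  choose c' hc' using fun s => Ideal.Quotient.mk_surjective (c s)
  have h1 : dA k f (MvPowerSeries.X i) = dA k f (∑ s, c' s * Y s) := dA_congr k f (by
    rw [← hc, map_sum]; simp [hc'])
  show dA k f (MvPowerSeries.X i) ∈ _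
  rw [h1, dA_sum]
  refine sum_mem fun s _ => add_mem (Submodule.mem_sup_left ?_) (Submodule.mem_sup_right ?_)
  · exact Submodule.smul_mem _ _ (Submodule.subset_span ⟨s, rfl⟩)
  · exact Submodule.smul_mem_smul (hY ▸ Ideal.subset_span ⟨s, rfl⟩) (by rw [span_dX k f]; trivial)

theorem exists_cotangent : ∃ ℓ : Mod k f →ₗ[(MvPowerSeries (Fin n) k ⧸ Ideal.span (Set.range f))] CotangentSpace (MvPowerSeries (Fin n) k ⧸ Ideal.span (Set.range f)),
    ∀ (g : (MvPowerSeries (Fin n) k)) (hg : g ∈ maximalIdeal (MvPowerSeries (Fin n) k)),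
      ℓ (dA k f g) = (maximalIdeal (MvPowerSeries (Fin n) k ⧸ Ideal.span (Set.range f))).toCotangent ⟨Ideal.Quotient.mk _ g, (mem_mk_maximal k f).2 hg⟩ := by
  let c : Fin n → CotangentSpace (MvPowerSeries (Fin n) k ⧸ Ideal.span (Set.range f)) := fun i =>
    (maximalIdeal (MvPowerSeries (Fin n) k ⧸ Ideal.span (Set.range f))).toCotangent ⟨Ideal.Quotient.mk _ (MvPowerSeries.X i),
      (mem_mk_maximal k f).2 (H24.PowerSeries.X_mem k i)⟩
  let L : (Fin n → (MvPowerSeries (Fin n) k ⧸ Ideal.span (Set.range f))) →ₗ[(MvPowerSeries (Fin n) k ⧸ Ideal.span (Set.range f))] CotangentSpace (MvPowerSeries (Fin n) k ⧸ Ideal.span (Set.range f)) := Fintype.linearCombination (MvPowerSeries (Fin n) k ⧸ Ideal.span (Set.range f)) c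
  have key : ∀ (g : (MvPowerSeries (Fin n) k)) (hg : g ∈ maximalIdeal (MvPowerSeries (Fin n) k)), L (Ideal.Quotient.mk _ ∘ grad k g) =
      (maximalIdeal (MvPowerSeries (Fin n) k ⧸ Ideal.span (Set.range f))).toCotangent ⟨Ideal.Quotient.mk _ g, (mem_mk_maximal k f).2 hg⟩ := by
    intro g hg
    obtain ⟨a, ha⟩ := exists_coeffs k hg
    have hz : ∀ r ∈ maximalIdeal (MvPowerSeries (Fin n) k ⧸ Ideal.span (Set.range f)), ∀ z : CotangentSpace (MvPowerSeries (Fin n) k ⧸ Ideal.span (Set.range f)), r • z = 0 := fun r hr z => by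
      obtain ⟨z, rfl⟩ := (maximalIdeal (MvPowerSeries (Fin n) k ⧸ Ideal.span (Set.range f))).toCotangent_surjective z
      rw [← LinearMap.map_smul, Ideal.toCotangent_eq_zero, pow_two]
      exact Ideal.mul_mem_mul hr z.2
    have hd : ∀ i, MvPowerSeries.pderiv k i g - a i ∈ maximalIdeal (MvPowerSeries (Fin n) k) := fun i => by
      rw [ha, map_sum]
      simp only [Derivation.leibniz, smul_eq_mul, MvPowerSeries.pderiv_X, Finset.sum_add_distrib, Pi.single_apply,
        mul_ite, mul_one, mul_zero, Finset.sum_ite_eq, Finset.sum_ite_eq', Finset.mem_univ, if_true, add_sub_cancel_left]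
      exact sum_mem fun (j : Fin n) _ => Ideal.mul_mem_right _ _ (H24.PowerSeries.X_mem k j)
    have e1 : (⟨Ideal.Quotient.mk _ g, (mem_mk_maximal k f).2 hg⟩ : maximalIdeal (MvPowerSeries (Fin n) k ⧸ Ideal.span (Set.range f))) =
        ∑ i, Ideal.Quotient.mk (Ideal.span (Set.range f)) (a i) •
          (⟨Ideal.Quotient.mk _ (MvPowerSeries.X i), (mem_mk_maximal k f).2 (H24.PowerSeries.X_mem k i)⟩ :
            maximalIdeal (MvPowerSeries (Fin n) k ⧸ Ideal.span (Set.range f))) := Subtype.ext (by simp [ha])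
    rw [e1, map_sum]
    simp only [L, Fintype.linearCombination_apply, LinearMap.map_smul, Function.comp_apply]
    refine Finset.sum_congr rfl fun i _ => ?_
    rw [← sub_eq_zero, ← sub_smul, ← map_sub]
    exact hz _ ((mem_mk_maximal k f).2 (hd i)) _
  refine ⟨(Submodule.span (MvPowerSeries (Fin n) k ⧸ Ideal.span (Set.range f)) (rows k f)).liftQ L (Submodule.span_le.2 ?_), fun g hg => key g hg⟩
  rintro _ ⟨j, rfl⟩
  have hj : f j ∈ maximalIdeal (MvPowerSeries (Fin n) k) := (mem_mk_maximal k f).1 (by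
    rw [(Ideal.Quotient.eq_zero_iff_mem (I := Ideal.span (Set.range f))).2 (Ideal.subset_span (Set.mem_range_self j))]; exact zero_mem _)
  rw [SetLike.mem_coe, LinearMap.mem_ker, key _ hj, Ideal.toCotangent_eq_zero]
  simp [(Ideal.Quotient.eq_zero_iff_mem (I := Ideal.span (Set.range f))).2 (Ideal.subset_span (Set.mem_range_self j))]

/-- Independent elements have only relations in the maximal ideal. -/
theorem rel_mem {e : ℕ} (Y : Fin e → (MvPowerSeries (Fin n) k)) (hY : ∀ s, Y s ∈ maximalIdeal (MvPowerSeries (Fin n) k))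
    (hind : ∀ a : Fin e → (MvPowerSeries (Fin n) k ⧸ Ideal.span (Set.range f)), ∑ s, a s * Ideal.Quotient.mk _ (Y s) ∈ maximalIdeal (MvPowerSeries (Fin n) k ⧸ Ideal.span (Set.range f)) ^ 2 →
      ∀ s, a s ∈ maximalIdeal (MvPowerSeries (Fin n) k ⧸ Ideal.span (Set.range f)))
    {v : Fin e → (MvPowerSeries (Fin n) k ⧸ Ideal.span (Set.range f))} (hv : v ∈ Fitting.rel (R := (MvPowerSeries (Fin n) k ⧸ Ideal.span (Set.range f))) (fun s => dA k f (Y s))) (s : Fin e) :
    v s ∈ maximalIdeal (MvPowerSeries (Fin n) k ⧸ Ideal.span (Set.range f)) := by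
  obtain ⟨ℓ, hℓ⟩ := exists_cotangent k f
  have h := congrArg ℓ (Fitting.mem_rel.1 hv)
  simp only [map_sum, LinearMap.map_smul, map_zero, hℓ _ (hY _)] at h
  simp only [← LinearMap.map_smul, ← map_sum, Ideal.toCotangent_eq_zero] at h
  refine hind v ?_ s
  simpa using h

theorem det_mem {B : Type u} [CommRing B] (J : Ideal B) {p : ℕ} (M : Matrix (Fin p) (Fin p) B)
    (h : ∀ i j, M i j ∈ J) : M.det ∈ J ^ p := by
  rw [Matrix.det_apply]
  refine sum_mem fun σ _ => Submodule.smul_of_tower_mem _ _ ?_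
  have := Ideal.prod_mem_prod (s := (Finset.univ : Finset (Fin p))) (I := fun _ => J)
    (x := fun i => M (σ i) i) fun i _ => h _ _
  simpa using this

/-- The ideal of minors is the Fitting ideal. -/
theorem minors_eq :
    (Ideal.span {d : (MvPowerSeries (Fin n) k) | ∃ (ρ : Fin (n - 1) → Fin m) (γ : Fin (n - 1) → Fin n), Function.Injective ρ ∧ Function.Injective γ ∧
      d = ((Matrix.of fun (j : Fin m) (i : Fin n) => MvPowerSeries.pderiv k i (f j)).submatrix ρ γ).det}).map
        (Ideal.Quotient.mk (Ideal.span (Set.range f))) = Fitt.ideal (MvPowerSeries (Fin n) k ⧸ Ideal.span (Set.range f)) (Mod k f) 1 := by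
  rw [Fitting.ideal_eq_of_rel _ (span_dX k f) _ (rel_dX k f) 1, Ideal.map_span, Fitting.Mn]
  refine le_antisymm (Ideal.span_le.2 ?_) (Ideal.span_le.2 ?_)
  · rintro _ ⟨_, ⟨ρ, γ, -, -, rfl⟩, rfl⟩
    refine Ideal.subset_span ⟨fun b => Ideal.Quotient.mk _ ∘ grad k (f (ρ b)), γ, fun b => ⟨ρ b, rfl⟩, ?_⟩
    rw [RingHom.map_det, ← Matrix.det_transpose]
    rfl
  · rintro _ ⟨z, e, hz, rfl⟩
    choose ρ hρ using hz
    have hdet : (Matrix.of fun a b => z b (e a)).det = Ideal.Quotient.mk _
        ((Matrix.of fun (j : Fin m) (i : Fin n) => MvPowerSeries.pderiv k i (f j)).submatrix ρ e).det := by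
      rw [RingHom.map_det, ← Matrix.det_transpose]
      congr 1
      ext a b
      simp [← hρ, grad]
    rw [hdet]
    by_cases h1 : Function.Injective ρ
    · by_cases h2 : Function.Injective e
      · exact Ideal.subset_span ⟨_, ⟨ρ, e, h1, h2, rfl⟩, rfl⟩
      · obtain ⟨a, a', h, hne⟩ := Function.not_injective_iff.1 h2
        rw [Matrix.det_zero_of_column_eq hne fun i => by simp [h], map_zero]
        exact zero_mem _
    · obtain ⟨a, a', h, hne⟩ := Function.not_injective_iff.1 h1
      rw [Matrix.det_zero_of_row_eq hne (funext fun i => by simp [h]), map_zero]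
      exact zero_mem _

theorem cond_iff (J : Ideal (MvPowerSeries (Fin n) k)) :
    J ⊔ Ideal.span (Set.range f) = maximalIdeal (MvPowerSeries (Fin n) k) ↔
      J.map (Ideal.Quotient.mk (Ideal.span (Set.range f))) = maximalIdeal (MvPowerSeries (Fin n) k ⧸ Ideal.span (Set.range f)) := by
  have hc : (J.map (Ideal.Quotient.mk (Ideal.span (Set.range f)))).comap (Ideal.Quotient.mk _) =
      J ⊔ Ideal.span (Set.range f) := by
    rw [Ideal.comap_map_of_surjective _ Ideal.Quotient.mk_surjective, ← RingHom.ker_eq_comap_bot, Ideal.mk_ker]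
  rw [← hc]
  constructor
  · intro h
    rw [← Ideal.map_comap_of_surjective _ Ideal.Quotient.mk_surjective (J.map _), h, map_maximal k f]
  · intro h
    rw [h]
    ext g
    exact mem_mk_maximal k f

end Quot

/-- Three discriminants kill the cross determinants. -/
theorem dets_eq_zero {K : Type u} [Field K] {a b c a' b' c' : K} (h : 4 * a * c - b ^ 2 = 0)
    (h' : 4 * a' * c' - b' ^ 2 = 0) (hs : 4 * (a + a') * (c + c') - (b + b') ^ 2 = 0) :
    2 * a * b' - b * (2 * a') = 0 ∧ b * (2 * c') - 2 * c * b' = 0 ∧ 2 * a * (2 * c') - b * b' = 0 := by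
  refine ⟨?_, ?_, ?_⟩
  · refine pow_eq_zero_iff two_ne_zero |>.1 ?_
    linear_combination (-(4 * a ^ 2)) * h' - (4 * a' ^ 2) * h + 4 * a * a' * (hs - h - h')
  · refine pow_eq_zero_iff two_ne_zero |>.1 ?_
    linear_combination (-(4 * c ^ 2)) * h' - (4 * c' ^ 2) * h + 4 * c * c' * (hs - h - h')
  · refine pow_eq_zero_iff two_ne_zero |>.1 ?_
    linear_combination (2 * a * (2 * c')) * (hs - h - h') - (4 * a' * c') * h - b ^ 2 * h'

/-- A quadratic form with nonzero discriminant among those of the kernel. -/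
theorem exists_disc (Q : Set (MvPowerSeries (Fin 2) k))
    (hQ : ∀ g ∈ Q, ∀ h ∈ Q, g + h ∈ Q)
    (hQ2 : ∀ g ∈ Q, g ∈ maximalIdeal (MvPowerSeries (Fin 2) k) ^ 2)
    (hgen : maximalIdeal (MvPowerSeries (Fin 2) k) ≤ Ideal.span {p | ∃ g ∈ Q, ∃ t, p = MvPowerSeries.pderiv k t g} ⊔
      maximalIdeal (MvPowerSeries (Fin 2) k) ^ 2) :
    ∃ g ∈ Q, ∃ v : Fin 3 → k, disc v ≠ 0 ∧
      g - Model.form k v ∈ maximalIdeal (MvPowerSeries (Fin 2) k) ^ 3 := by
  let P := MvPowerSeries (Fin 2) k
  let cc : P →+* k := MvPowerSeries.constantCoeff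
  let l : Fin 2 → P → k := fun t p => cc (MvPowerSeries.pderiv k t p)
  have hl3 : ∀ g ∈ maximalIdeal P ^ 3, ∀ s t, l s (MvPowerSeries.pderiv k t g) = 0 := fun g hg s t => by
    have h1 := pderiv_pow_mem k s 1 _ (pderiv_pow_mem k t 2 g hg)
    rw [pow_one, mem_maximal_iff] at h1
    exact h1
  have hform : ∀ g ∈ Q, ∃ v : Fin 3 → k, g - Model.form k v ∈ maximalIdeal P ^ 3 ∧
      l 0 (MvPowerSeries.pderiv k 0 g) = 2 * v 0 ∧ l 1 (MvPowerSeries.pderiv k 0 g) = v 1 ∧
      l 0 (MvPowerSeries.pderiv k 1 g) = v 1 ∧ l 1 (MvPowerSeries.pderiv k 1 g) = 2 * v 2 := by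
    intro g hg
    obtain ⟨v, hv⟩ : ∃ v : Fin 3 → k, g - Model.form k v ∈ maximalIdeal P ^ 3 := by
      have h2 := hQ2 g hg
      rw [pow_two, H24.PowerSeries.maximalIdeal_eq k (Fin 2),
        show Set.range (MvPowerSeries.X : Fin 2 → P) = {MvPowerSeries.X 0, MvPowerSeries.X 1} by
          ext p; simp [Fin.exists_fin_two, eq_comm],
        Ideal.span_pair_mul_span_pair, Ideal.mem_span_insert] at h2
      obtain ⟨a₀, z, hz, rfl⟩ := h2
      rw [Ideal.mem_span_insert] at hz
      obtain ⟨a₁, z, hz, rfl⟩ := hz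
      rw [Ideal.mem_span_insert] at hz
      obtain ⟨a₂, z, hz, rfl⟩ := hz
      obtain ⟨a₃, rfl⟩ := Ideal.mem_span_singleton'.1 hz
      refine ⟨![cc a₀, cc a₁ + cc a₂, cc a₃], ?_⟩
      have hX := H24.PowerSeries.X_mem k (σ := Fin 2)
      have h3 : ∀ (a : P) (i j : Fin 2), (a - MvPowerSeries.C (cc a)) * (MvPowerSeries.X i * MvPowerSeries.X j) ∈
          maximalIdeal P ^ 3 := fun a i j => by
        rw [pow_succ', pow_two]
        exact Ideal.mul_mem_mul (sub_C_mem k a) (Ideal.mul_mem_mul (hX i) (hX j))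
      convert add_mem (add_mem (add_mem (h3 a₀ 0 0) (h3 a₁ 0 1)) (h3 a₂ 1 0)) (h3 a₃ 1 1) using 1
      simp [Model.form, quad, P]
      ring
    refine ⟨v, hv, ?_⟩
    have hd : ∀ s t, l s (MvPowerSeries.pderiv k t g) = l s (MvPowerSeries.pderiv k t (Model.form k v)) :=
      fun s t => by
        have h1 := hl3 _ hv s t
        simpa [l, sub_eq_zero] using h1
    simp only [hd]
    simp [l, cc, Model.form, quad, MvPowerSeries.pderiv_X, two_mul, pow_two, mul_add]
    refine ⟨?_, ?_, ?_⟩ <;> erw [MvPowerSeries.constantCoeff_C] <;> rfl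
  by_contra hall
  push Not at hall
  have hz : ∀ g ∈ Q, ∀ h ∈ Q, ∀ t t', l 0 (MvPowerSeries.pderiv k t g) * l 1 (MvPowerSeries.pderiv k t' h) -
      l 1 (MvPowerSeries.pderiv k t g) * l 0 (MvPowerSeries.pderiv k t' h) = 0 := by
    intro g hg h hh t t'
    obtain ⟨v, hv, g00, g10, g01, g11⟩ := hform g hg
    obtain ⟨w, hw, h00, h10, h01, h11⟩ := hform h hh
    have dv : disc v = 0 := by by_contra hne; exact hall g hg v hne hv
    have dw : disc w = 0 := by by_contra hne; exact hall h hh w hne hw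
    have ds : disc (v + w) = 0 := by
      by_contra hne
      refine hall _ (hQ g hg h hh) _ hne ?_
      convert add_mem hv hw using 1
      simp [Model.form, quad]
      ring
    simp only [disc, Pi.add_apply] at dv dw ds
    obtain ⟨d1, d2, d3⟩ := dets_eq_zero dv dw ds
    obtain ⟨e1, e2, e3⟩ := dets_eq_zero dw dv (by linear_combination ds)
    fin_cases t <;> fin_cases t' <;> simp only [Fin.zero_eta, Fin.mk_one, g00, g10, g01, g11, h00, h10, h01, h11]
    · linear_combination d1
    · linear_combination d3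
    · linear_combination -e3
    · linear_combination d2
  obtain ⟨w₀, w₁, hw, hker⟩ : ∃ w₀ w₁ : k, (w₀ ≠ 0 ∨ w₁ ≠ 0) ∧
      ∀ g ∈ Q, ∀ t, w₀ * l 1 (MvPowerSeries.pderiv k t g) - w₁ * l 0 (MvPowerSeries.pderiv k t g) = 0 := by
    by_cases hne : ∃ g ∈ Q, ∃ t, l 0 (MvPowerSeries.pderiv k t g) ≠ 0 ∨ l 1 (MvPowerSeries.pderiv k t g) ≠ 0
    · obtain ⟨g, hg, t, hgt⟩ := hne
      exact ⟨_, _, hgt, fun h hh t' => hz g hg h hh t t'⟩
    · push Not at hne
      exact ⟨1, 0, Or.inl one_ne_zero, fun g hg t => by simp [(hne g hg t).1, (hne g hg t).2]⟩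
  have hlm : ∀ (a p : P), p ∈ maximalIdeal P → ∀ t, l t (a * p) = cc a * l t p := fun a p hp t => by
    simp [l, cc, (mem_maximal_iff k p).1 hp]
  let T : Ideal P :=
    { carrier := {p | p ∈ maximalIdeal P ∧ w₀ * l 1 p - w₁ * l 0 p = 0}
      add_mem' := fun {p q} hp hq => ⟨add_mem hp.1 hq.1, by
        simp only [l, map_add]; linear_combination hp.2 + hq.2⟩
      zero_mem' := ⟨zero_mem _, by simp [l]⟩
      smul_mem' := fun a p hp => ⟨Ideal.mul_mem_left _ _ hp.1, by
        show w₀ * l 1 (a * p) - w₁ * l 0 (a * p) = 0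
        rw [hlm a p hp.1, hlm a p hp.1]; linear_combination (cc a) * hp.2⟩ }
  have hT : maximalIdeal P ≤ T := hgen.trans (sup_le (Ideal.span_le.2 (by
    rintro _ ⟨g, hg, t, rfl⟩
    refine ⟨?_, hker g hg t⟩
    simpa using pderiv_pow_mem k t 1 g (hQ2 g hg))) fun p hp => ⟨Ideal.pow_le_self two_ne_zero hp, by
    have h1 : ∀ t, l t p = 0 := fun t => (mem_maximal_iff k _).1 (by simpa using pderiv_pow_mem k t 1 p hp)
    simp [h1]⟩)
  have h0 := (hT (H24.PowerSeries.X_mem k (0 : Fin 2))).2
  have h1 := (hT (H24.PowerSeries.X_mem k (1 : Fin 2))).2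
  simp [l, cc, MvPowerSeries.pderiv_X] at h0 h1
  rcases hw with hw | hw
  · exact hw h1
  · exact hw h0

section Main

variable {n m : ℕ} (f : Fin m → MvPowerSeries (Fin n) k)

/-- The condition on the minors. -/
def MinorsCond : Prop :=
  Ideal.span {d : MvPowerSeries (Fin n) k | ∃ (ρ : Fin (n - 1) → Fin m) (γ : Fin (n - 1) → Fin n), Function.Injective ρ ∧ Function.Injective γ ∧
      d = ((Matrix.of fun (j : Fin m) (i : Fin n) => MvPowerSeries.pderiv k i (f j)).submatrix ρ γ).det} ⊔
    Ideal.span (Set.range f) = maximalIdeal (MvPowerSeries (Fin n) k)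

variable (hf : ∀ j, f j ∈ maximalIdeal (MvPowerSeries (Fin n) k))
include hf

theorem isLocalRing_quot : IsLocalRing (MvPowerSeries (Fin n) k ⧸ Ideal.span (Set.range f)) := by
  haveI : Nontrivial (MvPowerSeries (Fin n) k ⧸ Ideal.span (Set.range f)) :=
    Ideal.Quotient.nontrivial_iff.2 fun h => (maximalIdeal.isMaximal (MvPowerSeries (Fin n) k)).ne_top
      (top_le_iff.1 (h ▸ Ideal.span_le.2 (by rintro _ ⟨j, rfl⟩; exact hf j)))
  exact IsLocalRing.of_surjective' _ Ideal.Quotient.mk_surjective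

theorem isLocalHom_quot : IsLocalHom (Ideal.Quotient.mk (Ideal.span (Set.range f))) := by
  haveI : Nontrivial (MvPowerSeries (Fin n) k ⧸ Ideal.span (Set.range f)) :=
    (isLocalRing_quot k f hf).toNontrivial
  exact IsLocalHom.of_surjective _ Ideal.Quotient.mk_surjective

variable [IsLocalRing (MvPowerSeries (Fin n) k ⧸ Ideal.span (Set.range f))]

theorem residue_quot : Function.Surjective ((residue (MvPowerSeries (Fin n) k ⧸ Ideal.span (Set.range f))).comp
    (algebraMap k (MvPowerSeries (Fin n) k ⧸ Ideal.span (Set.range f)))) := by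
  haveI := isLocalHom_quot k f hf
  intro z
  obtain ⟨z, rfl⟩ := IsLocalRing.residue_surjective z
  obtain ⟨g, rfl⟩ := Ideal.Quotient.mk_surjective z
  refine ⟨MvPowerSeries.constantCoeff g, ?_⟩
  rw [RingHom.comp_apply, eq_comm, ← sub_eq_zero, ← map_sub, residue_eq_zero_iff,
    IsScalarTower.algebraMap_apply k (MvPowerSeries (Fin n) k) (MvPowerSeries (Fin n) k ⧸ Ideal.span (Set.range f)),
    Ideal.Quotient.algebraMap_eq, ← map_sub]
  refine (mem_mk_maximal k f).2 ?_
  simpa [MvPowerSeries.algebraMap_apply] using sub_C_mem k g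

theorem formallySmooth_residue :
    Algebra.FormallySmooth k (ResidueField (MvPowerSeries (Fin n) k ⧸ Ideal.span (Set.range f))) := by
  have hb : Function.Bijective (Algebra.ofId k
      (ResidueField (MvPowerSeries (Fin n) k ⧸ Ideal.span (Set.range f)))) := by
    refine ⟨RingHom.injective _, fun z => ?_⟩
    obtain ⟨c, hc⟩ := residue_quot k f hf z
    exact ⟨c, hc⟩
  exact Algebra.FormallySmooth.of_equiv (AlgEquiv.ofBijective _ hb)

/-- A node satisfies the condition on the minors. -/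
theorem of_equiv {v : Fin 3 → k} (hv : disc v ≠ 0)
    (ψ : (MvPowerSeries (Fin n) k ⧸ Ideal.span (Set.range f)) ≃ₐ[k] Model.Model k v) :
    IsNodal (MvPowerSeries (Fin n) k ⧸ Ideal.span (Set.range f)) ∧ MinorsCond k f := by
  haveI := isLocalHom_quot k f hf
  have hN : IsNodal (MvPowerSeries (Fin n) k ⧸ Ideal.span (Set.range f)) :=
    Quadratic.isNodal_of_ringEquiv ψ.symm.toRingEquiv (Model.isNodal (K := k) (v := v) hv)
  refine ⟨hN, ?_⟩
  rw [MinorsCond, cond_iff, minors_eq]
  have hsp : Ideal.span {ψ.symm (Ideal.Quotient.mk _ (MvPowerSeries.X 0)),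
      ψ.symm (Ideal.Quotient.mk _ (MvPowerSeries.X 1))} =
      maximalIdeal (MvPowerSeries (Fin n) k ⧸ Ideal.span (Set.range f)) := by
    have h1 := congrArg (Ideal.map ψ.symm.toRingEquiv.toRingHom) (Model.span_xy k v)
    rw [Ideal.map_span, Set.image_pair] at h1
    refine h1.trans (IsLocalRing.eq_maximalIdeal ?_)
    exact Ideal.map_isMaximal_of_equiv ψ.symm.toRingEquiv
  obtain ⟨x', hx'⟩ := Ideal.Quotient.mk_surjective (ψ.symm (Ideal.Quotient.mk _ (MvPowerSeries.X 0)))
  obtain ⟨y', hy'⟩ := Ideal.Quotient.mk_surjective (ψ.symm (Ideal.Quotient.mk _ (MvPowerSeries.X 1)))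
  rw [← hx', ← hy'] at hsp
  have hxm : x' ∈ maximalIdeal (MvPowerSeries (Fin n) k) := (mem_mk_maximal k f).1 (mem_left hsp)
  have hym : y' ∈ maximalIdeal (MvPowerSeries (Fin n) k) := (mem_mk_maximal k f).1 (mem_right hsp)
  let Y : Fin 2 → MvPowerSeries (Fin n) k := ![x', y']
  have hY : Ideal.span (Set.range fun s => Ideal.Quotient.mk (Ideal.span (Set.range f)) (Y s)) =
      maximalIdeal (MvPowerSeries (Fin n) k ⧸ Ideal.span (Set.range f)) := by
    rw [← hsp]; congr 1; ext z; simp [Y, Fin.exists_fin_two, eq_comm]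
  rw [Fitting.ideal_eq _ (span_gen k f Y hY) 1, Fitting.Mn]
  refine le_antisymm (Ideal.span_le.2 ?_) ?_
  · rintro _ ⟨z, e, hz, rfl⟩
    rw [SetLike.mem_coe, Matrix.det_fin_one]
    refine rel_mem k f Y (fun s => by fin_cases s <;> assumption) (fun a ha => ?_) (hz 0) (e 0)
    obtain ⟨h0, h1⟩ := HasLengths.coeff_mem hN.length hsp (α := a 0) (β := a 1) (by simpa [Fin.sum_univ_two, Y] using ha)
    intro s
    fin_cases s <;> assumption
  · let q := quad (fun i => MvPowerSeries.C (v i)) x' y'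
    have hq : Ideal.Quotient.mk (Ideal.span (Set.range f)) q = 0 := by
      apply ψ.injective
      rw [map_zero, show Ideal.Quotient.mk (Ideal.span (Set.range f)) q =
        quad (fun i => algebraMap k _ (v i)) (ψ.symm (Ideal.Quotient.mk _ (MvPowerSeries.X 0)))
          (ψ.symm (Ideal.Quotient.mk _ (MvPowerSeries.X 1))) by
        rw [map_quad, ← hx', ← hy']; rfl]
      show ψ.toRingEquiv.toRingHom _ = _
      rw [map_quad]
      have e1 : (ψ.toRingEquiv.toRingHom ∘ fun i => algebraMap k _ (v i)) =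
          Ideal.Quotient.mk (Ideal.span {Model.form k v}) ∘ (MvPowerSeries.C ∘ v) :=
        funext fun i => ψ.commutes (v i)
      rw [e1]
      simp only [RingEquiv.toRingHom_eq_coe, AlgEquiv.toRingEquiv_eq_coe, RingHom.coe_coe,
        AlgEquiv.coe_ringEquiv, AlgEquiv.apply_symm_apply]
      rw [← map_quad, ← Model.form, Ideal.Quotient.eq_zero_iff_mem]
      exact Ideal.mem_span_singleton_self _
    have hd : dA k f q = 0 := dA_ker k f (Ideal.Quotient.eq_zero_iff_mem.1 hq)
    let w : Fin 2 → MvPowerSeries (Fin n) k ⧸ Ideal.span (Set.range f) := fun s =>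
      Ideal.Quotient.mk _ (![(MvPowerSeries.C (v 0) * x' + MvPowerSeries.C (v 0) * x') + MvPowerSeries.C (v 1) * y',
        MvPowerSeries.C (v 1) * x' + (MvPowerSeries.C (v 2) * y' + MvPowerSeries.C (v 2) * y')] s)
    have hw : w ∈ Fitting.rel (R := MvPowerSeries (Fin n) k ⧸ Ideal.span (Set.range f)) (fun s => dA k f (Y s)) := by
      rw [Fitting.mem_rel, ← hd]
      simp only [dA, Fin.sum_univ_two, Y, Matrix.cons_val_zero, Matrix.cons_val_one, ← Submodule.Quotient.mk_smul,
        ← Submodule.Quotient.mk_add]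
      congr 1
      funext i
      simp only [w, q, quad, grad, pow_two, map_add, Derivation.leibniz, MvPowerSeries.pderiv_C, smul_eq_mul,
        mul_zero, add_zero, Matrix.cons_val_zero, Matrix.cons_val_one, Pi.add_apply, Pi.smul_apply,
        Function.comp_apply, map_mul]
      ring
    have hmem : ∀ s, w s ∈ Ideal.span {d | ∃ (z : Fin (2 - 1) → Fin 2 → _) (e : Fin (2 - 1) → Fin 2),
        (∀ b, z b ∈ (Fitting.rel (R := MvPowerSeries (Fin n) k ⧸ Ideal.span (Set.range f)) (fun s => dA k f (Y s)) : Set _)) ∧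
          d = (Matrix.of fun a b => z b (e a)).det} := fun s =>
      Ideal.subset_span ⟨fun _ => w, fun _ => s, fun _ => hw, by rw [Matrix.det_fin_one]; rfl⟩
    rw [← hsp, Ideal.span_le, Set.insert_subset_iff, Set.singleton_subset_iff]
    have hu : IsUnit (Ideal.Quotient.mk (Ideal.span (Set.range f)) (MvPowerSeries.C (disc v))) :=
      ((Ne.isUnit hv).map MvPowerSeries.C).map _
    refine ⟨(Ideal.unit_mul_mem_iff_mem _ hu).1 ?_, (Ideal.unit_mul_mem_iff_mem _ hu).1 ?_⟩
    · convert sub_mem (Ideal.mul_mem_left _ (Ideal.Quotient.mk _ (2 * MvPowerSeries.C (v 2))) (hmem 0))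
        (Ideal.mul_mem_left _ (Ideal.Quotient.mk _ (MvPowerSeries.C (v 1))) (hmem 1)) using 1
      simp only [w, disc, Matrix.cons_val_zero, Matrix.cons_val_one, map_add, map_sub, map_mul, map_pow, map_ofNat]
      ring
    · convert sub_mem (Ideal.mul_mem_left _ (Ideal.Quotient.mk _ (2 * MvPowerSeries.C (v 0))) (hmem 1))
        (Ideal.mul_mem_left _ (Ideal.Quotient.mk _ (MvPowerSeries.C (v 1))) (hmem 0)) using 1
      simp only [w, disc, Matrix.cons_val_zero, Matrix.cons_val_one, map_add, map_sub, map_mul, map_pow, map_ofNat]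
      ring

/-- The condition on the minors forces two generators. -/
theorem exists_two (h : MinorsCond k f) :
    ∃ Y : Fin 2 → MvPowerSeries (Fin n) k,
      Ideal.span (Set.range fun s => Ideal.Quotient.mk (Ideal.span (Set.range f)) (Y s)) =
        maximalIdeal (MvPowerSeries (Fin n) k ⧸ Ideal.span (Set.range f)) ∧
      (∀ s, Y s ∈ maximalIdeal (MvPowerSeries (Fin n) k)) ∧
      (∀ a : Fin 2 → MvPowerSeries (Fin n) k ⧸ Ideal.span (Set.range f),
        ∑ s, a s * Ideal.Quotient.mk _ (Y s) ∈ maximalIdeal (MvPowerSeries (Fin n) k ⧸ Ideal.span (Set.range f)) ^ 2 →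
          ∀ s, a s ∈ maximalIdeal (MvPowerSeries (Fin n) k ⧸ Ideal.span (Set.range f))) ∧
      Module.finrank (ResidueField (MvPowerSeries (Fin n) k ⧸ Ideal.span (Set.range f)))
        (CotangentSpace (MvPowerSeries (Fin n) k ⧸ Ideal.span (Set.range f))) = 2 := by
  haveI := isLocalHom_quot k f hf
  rw [MinorsCond, cond_iff, minors_eq] at h
  generalize he : Module.finrank (ResidueField (MvPowerSeries (Fin n) k ⧸ Ideal.span (Set.range f)))
    (CotangentSpace (MvPowerSeries (Fin n) k ⧸ Ideal.span (Set.range f))) = e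
  let b := Module.finBasisOfFinrankEq _ _ he
  choose z hz using fun s => (maximalIdeal (MvPowerSeries (Fin n) k ⧸ Ideal.span (Set.range f))).toCotangent_surjective (b s)
  choose Y hY' using fun s => Ideal.Quotient.mk_surjective (z s).1
  have hY : Ideal.span (Set.range fun s => Ideal.Quotient.mk (Ideal.span (Set.range f)) (Y s)) =
      maximalIdeal (MvPowerSeries (Fin n) k ⧸ Ideal.span (Set.range f)) := by
    have h1 : Submodule.span (MvPowerSeries (Fin n) k ⧸ Ideal.span (Set.range f)) (Set.range z) = ⊤ := by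
      rw [← CotangentSpace.span_image_eq_top_iff, ← Set.range_comp,
        show _ ∘ z = ⇑b from funext hz]
      exact b.span_eq
    have h2 := congrArg (Submodule.map (maximalIdeal (MvPowerSeries (Fin n) k ⧸ Ideal.span (Set.range f))).subtype) h1
    rw [Submodule.map_span, Submodule.map_top, Submodule.range_subtype, ← Set.range_comp] at h2
    simp only [hY']
    exact h2
  have hYm : ∀ s, Y s ∈ maximalIdeal (MvPowerSeries (Fin n) k) := fun s =>
    (mem_mk_maximal k f).1 (by rw [hY']; exact (z s).2)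
  have hind : ∀ a : Fin e → MvPowerSeries (Fin n) k ⧸ Ideal.span (Set.range f),
      ∑ s, a s * Ideal.Quotient.mk _ (Y s) ∈ maximalIdeal (MvPowerSeries (Fin n) k ⧸ Ideal.span (Set.range f)) ^ 2 →
        ∀ s, a s ∈ maximalIdeal (MvPowerSeries (Fin n) k ⧸ Ideal.span (Set.range f)) := by
    intro a ha s
    have h1 : ∑ s, residue _ (a s) • b s = 0 := by
      have h2 : (maximalIdeal (MvPowerSeries (Fin n) k ⧸ Ideal.span (Set.range f))).toCotangent (∑ s, a s • z s) = 0 := by
        rw [Ideal.toCotangent_eq_zero]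
        simpa [hY'] using ha
      rw [map_sum] at h2
      refine Eq.trans (Finset.sum_congr rfl fun s _ => ?_) h2
      rw [LinearMap.map_smul, hz]
      rfl
    exact (residue_eq_zero_iff _).1 (Fintype.linearIndependent_iff.1 b.linearIndependent _ h1 s)
  have he2 : e = 2 := by
    rcases lt_trichotomy e 2 with hlt | heq | hgt
    · exfalso
      rw [Fitting.ideal_eq_top _ (span_gen k f Y hY) (by omega)] at h
      exact (maximalIdeal.isMaximal _).ne_top h.symm
    · exact heq
    · exfalso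
      have hsq : Fitt.ideal (MvPowerSeries (Fin n) k ⧸ Ideal.span (Set.range f)) (Mod k f) 1 ≤
          maximalIdeal (MvPowerSeries (Fin n) k ⧸ Ideal.span (Set.range f)) ^ 2 := by
        rw [Fitting.ideal_eq _ (span_gen k f Y hY) 1, Fitting.Mn, Ideal.span_le]
        rintro _ ⟨w, c, hw, rfl⟩
        exact Ideal.pow_le_pow_right (by omega) (det_mem _ _ fun i j => rel_mem k f Y hYm hind (hw j) (c i))
      rw [h] at hsq
      haveI : Subsingleton (CotangentSpace (MvPowerSeries (Fin n) k ⧸ Ideal.span (Set.range f))) :=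
        subsingleton_of_forall_eq 0 fun c => by
          obtain ⟨c, rfl⟩ := (maximalIdeal _).toCotangent_surjective c
          rw [Ideal.toCotangent_eq_zero]
          exact hsq c.2
      rw [Module.finrank_zero_of_subsingleton] at he
      omega
  subst he2
  exact ⟨Y, hY, hYm, hind, rfl⟩

/-- **The condition on the minors and depth one give a node.** -/
theorem exists_equiv (h : MinorsCond k f)
    (hnzd : ∃ r ∈ maximalIdeal (MvPowerSeries (Fin n) k ⧸ Ideal.span (Set.range f)),
      r ∈ nonZeroDivisors (MvPowerSeries (Fin n) k ⧸ Ideal.span (Set.range f))) :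
    ∃ v : Fin 3 → k, disc v ≠ 0 ∧
      Nonempty ((MvPowerSeries (Fin n) k ⧸ Ideal.span (Set.range f)) ≃ₐ[k] Model.Model k v) := by
  haveI := isLocalHom_quot k f hf
  obtain ⟨Y, hY, hYm, hind, hrk⟩ := exists_two k f hf h
  haveI : IsAdicComplete (maximalIdeal (MvPowerSeries (Fin n) k)) (MvPowerSeries (Fin n) k) :=
    H24.PowerSeries.isAdicComplete k (Fin n)
  haveI : IsAdicComplete (maximalIdeal (MvPowerSeries (Fin n) k ⧸ Ideal.span (Set.range f)))
      (MvPowerSeries (Fin n) k ⧸ Ideal.span (Set.range f)) :=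
    map_maximal k f ▸ Lib.Adic.Complete.isAdicComplete_quotient _
  haveI : IsAdicComplete (maximalIdeal (MvPowerSeries (Fin 2) k)) (MvPowerSeries (Fin 2) k) :=
    H24.PowerSeries.isAdicComplete k (Fin 2)
  let y : Fin 2 → MvPowerSeries (Fin n) k ⧸ Ideal.span (Set.range f) := fun s => Ideal.Quotient.mk _ (Y s)
  obtain ⟨φ, hφ⟩ := H24.PowerSeries.exists_hom (A := k)
    (maximalIdeal (MvPowerSeries (Fin n) k ⧸ Ideal.span (Set.range f))) y (fun s => (mem_mk_maximal k f).2 (hYm s))
  have hXle : (maximalIdeal (MvPowerSeries (Fin 2) k)).map φ.toRingHom =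
      maximalIdeal (MvPowerSeries (Fin n) k ⧸ Ideal.span (Set.range f)) := by
    rw [H24.PowerSeries.maximalIdeal_eq, Ideal.map_span, ← Set.range_comp, ← hY]
    exact congrArg (fun g => Ideal.span (Set.range g)) (funext hφ)
  have hφs : Function.Surjective φ := H24.PowerSeries.surjective_of_cotangent φ.toRingHom
    (fun z => by
      obtain ⟨c, hc⟩ := residue_quot k f hf z
      exact ⟨algebraMap k _ c, by rw [← hc]; exact congrArg _ (φ.commutes c)⟩) hXle.le
    (hXle.ge.trans le_sup_left)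
  haveI : IsLocalHom φ.toRingHom := IsLocalHom.of_surjective _ hφs
  choose G hG using fun i => hφs (Ideal.Quotient.mk _ (MvPowerSeries.X i))
  have hGm : ∀ i, G i ∈ maximalIdeal (MvPowerSeries (Fin 2) k) := fun i hu => by
    refine (mem_mk_maximal k f).2 (H24.PowerSeries.X_mem k i) ?_
    rw [← hG]; exact hu.map φ
  obtain ⟨ι, hι⟩ := H24.PowerSeries.exists_hom (A := k) (maximalIdeal (MvPowerSeries (Fin 2) k)) G hGm
  have hφι : φ.comp ι = Ideal.Quotient.mkₐ k _ :=
    H24.PowerSeries.hom_ext (maximalIdeal (MvPowerSeries (Fin n) k ⧸ Ideal.span (Set.range f)))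
      (fun i => by rw [AlgHom.comp_apply, hι, hG]; exact (mem_mk_maximal k f).2 (H24.PowerSeries.X_mem k i))
      fun i => by rw [AlgHom.comp_apply, hι, hG]; rfl
  have hφι' : ∀ g, φ (ι g) = Ideal.Quotient.mk _ g := fun g => congr($hφι g)
  have hchain : ∀ (t : Fin 2) (g : MvPowerSeries (Fin n) k), MvPowerSeries.pderiv k t (ι g) =
      ∑ i, ι (MvPowerSeries.pderiv k i g) * MvPowerSeries.pderiv k t (G i) := by
    intro t
    have key : ∀ (j : ℕ) (g : MvPowerSeries (Fin n) k), MvPowerSeries.pderiv k t (ι g) -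
        ∑ i, ι (MvPowerSeries.pderiv k i g) * MvPowerSeries.pderiv k t (G i) ∈
          maximalIdeal (MvPowerSeries (Fin 2) k) ^ j := by
      intro j
      induction j with
      | zero => simp
      | succ j ih =>
        intro g
        obtain ⟨a, ha⟩ := exists_coeffs k (sub_C_mem k g)
        have hιC : ∀ c, ι (MvPowerSeries.C c) = MvPowerSeries.C c := fun c => by
          have := ι.commutes c
          simpa [MvPowerSeries.algebraMap_apply] using this
        have e1 : g = MvPowerSeries.C (MvPowerSeries.constantCoeff g) + ∑ l, a l * MvPowerSeries.X l := by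
          rw [← ha]; ring
        have e2 : MvPowerSeries.pderiv k t (ι g) - ∑ i, ι (MvPowerSeries.pderiv k i g) * MvPowerSeries.pderiv k t (G i) =
            ∑ l, G l * (MvPowerSeries.pderiv k t (ι (a l)) -
              ∑ i, ι (MvPowerSeries.pderiv k i (a l)) * MvPowerSeries.pderiv k t (G i)) := by
          conv_lhs => rw [e1]
          simp only [map_add, map_sum, map_mul, hιC, hι, MvPowerSeries.pderiv_C, Derivation.leibniz, smul_eq_mul,
            MvPowerSeries.pderiv_X, map_zero, zero_add]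
          simp only [add_mul, Finset.sum_add_distrib, Finset.sum_mul, mul_sub, Finset.mul_sum, Finset.sum_sub_distrib]
          simp only [Pi.single_apply, apply_ite ι, map_one, map_zero, mul_ite, ite_mul, mul_one, mul_zero, zero_mul,
            Finset.sum_ite_eq, Finset.sum_ite_eq', Finset.mem_univ, if_true, add_sub_add_left_eq_sub]
          congr 1
          rw [Finset.sum_comm]
          simp [mul_assoc]
        rw [e2, pow_succ']
        exact sum_mem fun l _ => Ideal.mul_mem_mul (hGm l) (ih (a l))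
    intro g
    rw [← sub_eq_zero, ← Ideal.mem_bot,
      ← Ideal.iInf_pow_eq_bot_of_isLocalRing _ (maximalIdeal.isMaximal (MvPowerSeries (Fin 2) k)).ne_top, Submodule.mem_iInf]
    exact fun j => key j g
  let L : (Fin n → MvPowerSeries (Fin n) k ⧸ Ideal.span (Set.range f)) →ₗ[MvPowerSeries (Fin n) k ⧸ Ideal.span (Set.range f)]
      (Fin 2 → MvPowerSeries (Fin n) k ⧸ Ideal.span (Set.range f)) :=
    Fintype.linearCombination _ fun i t => φ (MvPowerSeries.pderiv k t (G i))
  have hL : ∀ g, L (Ideal.Quotient.mk _ ∘ grad k g) = fun t => φ (MvPowerSeries.pderiv k t (ι g)) := fun g => by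
    funext t
    rw [hchain, map_sum]
    simp [L, Fintype.linearCombination_apply, Finset.sum_apply, hφι', grad]
  let W := Submodule.span (MvPowerSeries (Fin n) k ⧸ Ideal.span (Set.range f))
    {w : Fin 2 → MvPowerSeries (Fin n) k ⧸ Ideal.span (Set.range f) | ∃ g, φ g = 0 ∧ w = fun t => φ (MvPowerSeries.pderiv k t g)}
  have hLrows : ∀ w ∈ Submodule.span (MvPowerSeries (Fin n) k ⧸ Ideal.span (Set.range f)) (rows k f), L w ∈ W := by
    intro w hw
    refine (Submodule.span_le.2 ?_ : _ ≤ W.comap L) hw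
    rintro _ ⟨j, rfl⟩
    refine Submodule.subset_span ⟨ι (f j), ?_, hL _⟩
    rw [hφι', Ideal.Quotient.eq_zero_iff_mem]
    exact Ideal.subset_span (Set.mem_range_self j)
  have hrelW : ∀ w ∈ Fitting.rel (R := MvPowerSeries (Fin n) k ⧸ Ideal.span (Set.range f)) (fun s => dA k f (Y s)),
      w ∈ W := by
    intro w hw
    have h1 : ∑ s, w s • (Ideal.Quotient.mk (Ideal.span (Set.range f)) ∘ grad k (Y s)) ∈
        Submodule.span (MvPowerSeries (Fin n) k ⧸ Ideal.span (Set.range f)) (rows k f) := by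
      have h0 := Fitting.mem_rel.1 hw
      simp only [dA, ← Submodule.mkQ_apply, ← map_smul, ← map_sum] at h0
      exact (Submodule.Quotient.mk_eq_zero _).1 h0
    have h2 := hLrows _ h1
    simp only [map_sum, map_smul, hL] at h2
    have h3 : ∀ s, (fun t => φ (MvPowerSeries.pderiv k t (ι (Y s)))) - Pi.single s 1 ∈ W := fun s => by
      refine Submodule.subset_span ⟨ι (Y s) - MvPowerSeries.X s, ?_, ?_⟩
      · rw [map_sub, hφι', hφ]; exact sub_self _
      · funext t
        simp [MvPowerSeries.pderiv_X, Pi.single_apply, eq_comm]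
    have h4 : ∑ s, w s • ((fun t => φ (MvPowerSeries.pderiv k t (ι (Y s)))) - Pi.single s 1) ∈ W :=
      sum_mem fun s _ => W.smul_mem _ (h3 s)
    convert W.sub_mem h2 h4 using 1
    simp only [smul_sub, Finset.sum_sub_distrib, sub_sub_cancel]
    exact (pi_eq_sum_univ' w).trans (Finset.sum_congr rfl fun s _ => rfl)
  let DQ : Ideal (MvPowerSeries (Fin 2) k) :=
    Ideal.span {p | ∃ g ∈ {g | φ g = 0}, ∃ t, p = MvPowerSeries.pderiv k t g}
  have hWD : ∀ w ∈ W, ∀ t, w t ∈ DQ.map φ.toRingHom := fun w hw t => by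
    refine (Submodule.span_le.2 ?_ : W ≤ Submodule.comap (LinearMap.proj (φ := fun _ : Fin 2 => MvPowerSeries (Fin n) k ⧸ Ideal.span (Set.range f)) t) (DQ.map φ.toRingHom)) hw
    rintro _ ⟨g, hg, rfl⟩
    exact Ideal.mem_map_of_mem φ.toRingHom (Ideal.subset_span ⟨g, hg, t, rfl⟩)
  have hgen : maximalIdeal (MvPowerSeries (Fin n) k ⧸ Ideal.span (Set.range f)) ≤ DQ.map φ.toRingHom := by
    rw [MinorsCond, cond_iff, minors_eq, Fitting.ideal_eq _ (span_gen k f Y hY) 1, Fitting.Mn] at h
    rw [← h, Ideal.span_le]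
    rintro _ ⟨w, c, hw, rfl⟩
    rw [SetLike.mem_coe, Matrix.det_fin_one]
    exact hWD _ (hrelW _ (hw 0)) _
  have hQ2 : ∀ g ∈ {g : MvPowerSeries (Fin 2) k | φ g = 0}, g ∈ maximalIdeal (MvPowerSeries (Fin 2) k) ^ 2 := by
    intro g (hg : φ g = 0)
    obtain ⟨a, rfl⟩ := exists_coeffs k (g := g) (fun hu => not_isUnit_zero (hg ▸ hu.map φ))
    have h1 := hind (fun s => φ (a s)) (by
      rw [show ∑ s, φ (a s) * Ideal.Quotient.mk _ (Y s) = φ (∑ s, a s * MvPowerSeries.X s) by
        simp [map_sum, map_mul, hφ, y], hg]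
      exact zero_mem _)
    rw [pow_two]
    exact sum_mem fun s _ => Ideal.mul_mem_mul (fun hu => h1 s (hu.map φ)) (H24.PowerSeries.X_mem k s)
  obtain ⟨g, hg, v, hdv, hgv⟩ := exists_disc k {g | φ g = 0}
    (fun a ha b hb => show φ (a + b) = 0 by rw [map_add, ha, hb, add_zero]) hQ2 (by
      intro p hp
      have h1 := hgen (hXle.le (Ideal.mem_map_of_mem φ.toRingHom hp))
      rw [← Ideal.mem_comap, Ideal.comap_map_of_surjective φ.toRingHom hφs] at h1
      have hsub : Ideal.comap φ.toRingHom ⊥ ≤ maximalIdeal (MvPowerSeries (Fin 2) k) ^ 2 := fun z hz =>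
        hQ2 z (Ideal.mem_bot.1 hz)
      exact sup_le_sup le_rfl hsub h1)
  refine ⟨v, hdv, ?_⟩
  haveI := formallySmooth_residue k f hf
  obtain ⟨r, hr, hr0⟩ := hnzd
  have hxy : Ideal.span {y 0, y 1} = maximalIdeal (MvPowerSeries (Fin n) k ⧸ Ideal.span (Set.range f)) := by
    rw [← hY]; congr 1; ext z; simp [y, Fin.exists_fin_two, eq_comm]
  have hq : quad (algebraMap k (MvPowerSeries (Fin n) k ⧸ Ideal.span (Set.range f)) ∘ v) (y 0) (y 1) ∈
      maximalIdeal (MvPowerSeries (Fin n) k ⧸ Ideal.span (Set.range f)) ^ 3 := by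
    have h1 : φ.toRingHom (g - Model.form k v) ∈
        ((maximalIdeal (MvPowerSeries (Fin 2) k)) ^ 3).map φ.toRingHom := Ideal.mem_map_of_mem _ hgv
    rw [Ideal.map_pow, hXle] at h1
    convert neg_mem h1 using 1
    rw [map_sub, show φ.toRingHom g = 0 from hg, zero_sub, neg_neg, Model.form, map_quad]
    congr 1
    · exact funext fun i => (φ.commutes (v i)).symm
    · exact (hφ 0).symm
    · exact (hφ 1).symm
  have hN := Algebraic.isNodal_of_nzd k _ hr hr0 hrk hxy hq (by rw [← map_disc]; exact (Ne.isUnit hdv).map _)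
  obtain ⟨E⟩ := Complete.exists_equiv k (residue_quot k f hf) hN.length v hdv hxy hq
  exact ⟨E.symm⟩

end Main

end Groth.Agent.H25.Node.Jacobian
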