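import Groth.Agent.H25.Node.Basic
import Groth.Agent.H24.PowerSeries
import Mathlib.RingTheory.MvPowerSeries.Substitution
import Mathlib.RingTheory.PowerSeries.Basic
import Mathlib.RingTheory.AdjoinRoot
import Mathlib.RingTheory.MvPowerSeries.Equiv

/-! `K[[u,v]]/(a u² + b u v + c v²)` is nodal when `4ac - b² ≠ 0`. -/

set_option autoImplicit false
set_option linter.style.haveILetI false
universe u

namespace Groth.Agent.H25.Node.Model

open IsLocalRing

variable (K : Type u) [Field K] (v : Fin 3 → K)

/-- The quadratic form as a power series. -/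
noncomputable def form : MvPowerSeries (Fin 2) K :=
  quad (MvPowerSeries.C ∘ v) (MvPowerSeries.X 0) (MvPowerSeries.X 1)

/-- The model. -/
abbrev Model : Type u := MvPowerSeries (Fin 2) K ⧸ Ideal.span {form K v}

theorem form_mem : form K v ∈ maximalIdeal (MvPowerSeries (Fin 2) K) := by
  have hX := H24.PowerSeries.X_mem K (σ := Fin 2)
  exact add_mem (add_mem (Ideal.mul_mem_left _ _ (Ideal.pow_mem_of_mem _ (hX 0) 2 two_pos))
    (Ideal.mul_mem_left _ _ (Ideal.mul_mem_left _ _ (hX 1))))
    (Ideal.mul_mem_left _ _ (Ideal.pow_mem_of_mem _ (hX 1) 2 two_pos))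

theorem span_ne_top : Ideal.span {form K v} ≠ ⊤ := fun h =>
  Ideal.IsPrime.ne_top inferInstance (top_le_iff.1 (h ▸ (Ideal.span_singleton_le_iff_mem _).2 (form_mem K v)))

instance : Nontrivial (Model K v) := Ideal.Quotient.nontrivial_iff.2 (span_ne_top K v)

instance : IsLocalRing (Model K v) :=
  .of_surjective' (Ideal.Quotient.mk _) Ideal.Quotient.mk_surjective

theorem map_maximalIdeal :
    (maximalIdeal (MvPowerSeries (Fin 2) K)).map (Ideal.Quotient.mk (Ideal.span {form K v})) =
      maximalIdeal (Model K v) := by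
  rcases Ideal.map_eq_top_or_isMaximal_of_surjective (Ideal.Quotient.mk (Ideal.span {form K v}))
    Ideal.Quotient.mk_surjective (maximalIdeal.isMaximal (MvPowerSeries (Fin 2) K)) with h | h
  · exfalso
    have := congrArg (Ideal.comap (Ideal.Quotient.mk (Ideal.span {form K v}))) h
    rw [Ideal.comap_top, Ideal.comap_map_of_surjective _ Ideal.Quotient.mk_surjective,
      ← RingHom.ker_eq_comap_bot, Ideal.mk_ker,
      sup_eq_left.2 ((Ideal.span_singleton_le_iff_mem _).2 (form_mem K v))] at this
    exact Ideal.IsPrime.ne_top inferInstance this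
  · exact IsLocalRing.eq_maximalIdeal h

theorem span_xy : Ideal.span {Ideal.Quotient.mk (Ideal.span {form K v}) (MvPowerSeries.X 0),
    Ideal.Quotient.mk _ (MvPowerSeries.X 1)} = maximalIdeal (Model K v) := by
  rw [← map_maximalIdeal, H24.PowerSeries.maximalIdeal_eq, Ideal.map_span]
  congr 1
  ext z
  simp [Fin.exists_fin_two, eq_comm, or_comm]

theorem residue_surjective :
    Function.Surjective ((residue (Model K v)).comp (algebraMap K (Model K v))) := fun z => by
  obtain ⟨z, rfl⟩ := IsLocalRing.residue_surjective z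
  obtain ⟨f, rfl⟩ := Ideal.Quotient.mk_surjective z
  obtain ⟨c, hc⟩ := H24.PowerSeries.residue_surjective K (Fin 2) (residue _ f)
  refine ⟨c, ?_⟩
  rw [RingHom.comp_apply, ← sub_eq_zero, ← map_sub, residue_eq_zero_iff] at hc ⊢
  rw [← map_maximalIdeal, IsScalarTower.algebraMap_apply K (MvPowerSeries (Fin 2) K) (Model K v),
    Ideal.Quotient.algebraMap_eq, ← map_sub]
  exact Ideal.mem_map_of_mem _ hc

/-- Lengths over the model are dimensions over `K`. -/
theorem length_eq (M : Type u) [AddCommGroup M] [Module (Model K v) M] [Module K M]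
    [IsScalarTower K (Model K v) M] : Module.length K M = Module.length (Model K v) M := by
  haveI : IsLocalHom (algebraMap K (Model K v)) := ⟨fun c hc => isUnit_iff_ne_zero.2 fun h0 => by
    rw [h0, map_zero] at hc; exact not_isUnit_zero hc⟩
  rw [IsLocalRing.length_restrictScalars K (Model K v) M]
  have h1 : Module.length (ResidueField K) (ResidueField (Model K v)) = 1 := by
    have hs : Function.Surjective (algebraMap (ResidueField K) (ResidueField (Model K v))) := fun z => by
      obtain ⟨c, hc⟩ := residue_surjective K v z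
      exact ⟨residue K c, hc⟩
    rw [Module.length_eq_of_surjective hs]
    haveI : IsSimpleModule (ResidueField (Model K v)) (ResidueField (Model K v)) := inferInstance
    exact Module.length_eq_one _ _
  rw [h1, mul_one]

variable {K v}

/-- A parametrisation gives lower bounds for the lengths. -/
theorem length_ge (E : Type u) [CommRing E] [Algebra K E] [Module.Finite K E]
    (hE : Module.finrank K E = 2) (p q : E) (hQ : quad (algebraMap K E ∘ v) p q = 0)
    (hspan : ∀ (j : ℕ) (e : E), ∃ r s : K, ∃ i : Fin 2 → ℕ, i 0 ≤ j + 1 ∧ i 1 ≤ j + 1 ∧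
      e = r • (p ^ i 0 * q ^ (j + 1 - i 0)) + s • (p ^ i 1 * q ^ (j + 1 - i 1))) (n : ℕ) :
    ((2 * n + 1 : ℕ) : ℕ∞) ≤
      Module.length (Model K v) (Model K v ⧸ maximalIdeal (Model K v) ^ (n + 1)) := by
  classical
  let P := MvPowerSeries (Fin 2) K
  let a : Fin 2 → PowerSeries E := fun i => PowerSeries.C (![p, q] i) * PowerSeries.X
  have ha : MvPowerSeries.HasSubst a := MvPowerSeries.hasSubst_of_constantCoeff_zero fun i => by
    show PowerSeries.constantCoeff (a i) = 0
    simp [a]
  let φ : P →ₐ[K] PowerSeries E := MvPowerSeries.substAlgHom ha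
  have hX : ∀ i, φ (MvPowerSeries.X i) = a i := fun i => MvPowerSeries.substAlgHom_X ha i
  have hC : ∀ c, φ (MvPowerSeries.C c) = PowerSeries.C (algebraMap K E c) := fun c => by
    rw [show (MvPowerSeries.C c : P) = algebraMap K P c from rfl, AlgHom.commutes,
      PowerSeries.algebraMap_apply]
  have hform : φ (form K v) = 0 := by
    show φ.toRingHom (form K v) = 0
    rw [form, map_quad]
    have e : φ.toRingHom ∘ (MvPowerSeries.C ∘ v) = PowerSeries.C ∘ (algebraMap K E ∘ v) :=
      funext fun i => hC (v i)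
    rw [e, show φ.toRingHom (MvPowerSeries.X 0) = a 0 from hX 0,
      show φ.toRingHom (MvPowerSeries.X 1) = a 1 from hX 1,
      show quad (PowerSeries.C ∘ (algebraMap K E ∘ v)) (a 0) (a 1) =
        PowerSeries.C (quad (algebraMap K E ∘ v) p q) * PowerSeries.X ^ 2 by
        simp only [quad, a, Function.comp_apply, map_add, map_mul, map_pow,
          Matrix.cons_val_zero, Matrix.cons_val_one]; ring, hQ]
    simp
  let L : P →ₗ[K] K × (Fin n → E) :=
    { toFun := fun f => (MvPowerSeries.constantCoeff f, fun j => PowerSeries.coeff ((j : ℕ) + 1) (φ f))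
      map_add' := fun f g => by ext <;> simp
      map_smul' := fun c f => by
        ext
        · show MvPowerSeries.constantCoeff (c • f) = c * MvPowerSeries.constantCoeff f
          rw [MvPowerSeries.smul_eq_C_mul, map_mul, MvPowerSeries.constantCoeff_C]
        · simp only [Prod.smul_mk, map_smul, Pi.smul_apply, RingHom.id_apply]
          rw [Algebra.smul_def c (φ f), Algebra.smul_def c (PowerSeries.coeff _ (φ f)),
            PowerSeries.algebraMap_apply,
            PowerSeries.coeff_C_mul] }
  have hmono : ∀ (j i : ℕ), i ≤ j + 1 →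
      φ (MvPowerSeries.X 0 ^ i * MvPowerSeries.X 1 ^ (j + 1 - i)) =
        PowerSeries.C (p ^ i * q ^ (j + 1 - i)) * PowerSeries.X ^ (j + 1) := fun j i hi => by
    rw [map_mul, map_pow, map_pow, hX, hX]
    simp only [a, Matrix.cons_val_zero, Matrix.cons_val_one, mul_pow, map_mul, map_pow]
    obtain ⟨l, hl⟩ := Nat.exists_eq_add_of_le hi
    rw [hl, Nat.add_sub_cancel_left]
    ring
  have hLs : Function.Surjective L := fun z => by
    choose r s i hi0 hi1 he using fun j : Fin n => hspan j (z.2 j)
    refine ⟨MvPowerSeries.C z.1 + ∑ j : Fin n,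
      (r j • (MvPowerSeries.X 0 ^ i j 0 * MvPowerSeries.X 1 ^ ((j : ℕ) + 1 - i j 0)) +
        s j • (MvPowerSeries.X 0 ^ i j 1 * MvPowerSeries.X 1 ^ ((j : ℕ) + 1 - i j 1))), ?_⟩
    refine Prod.ext ?_ (funext fun j => ?_)
    · show MvPowerSeries.constantCoeff _ = z.1
      have hz : ∀ (j : Fin n) (l : ℕ), l ≤ (j : ℕ) + 1 → MvPowerSeries.constantCoeff
          (MvPowerSeries.X (0 : Fin 2) ^ l * MvPowerSeries.X 1 ^ ((j : ℕ) + 1 - l) : P) = 0 := fun j l hl => by
        rcases Nat.eq_zero_or_pos l with rfl | hl0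
        · simp
        · simp [zero_pow hl0.ne']
      simp [hz _ _ (hi0 _), hz _ _ (hi1 _)]
    · show PowerSeries.coeff ((j : ℕ) + 1) (φ _) = z.2 j
      have hC' : ∀ (c : K) (g : PowerSeries E) (m : ℕ),
          PowerSeries.coeff m (c • g) = c • PowerSeries.coeff m g := fun c g m => by
        rw [Algebra.smul_def c g, Algebra.smul_def c (PowerSeries.coeff m g),
          PowerSeries.algebraMap_apply,
          PowerSeries.coeff_C_mul]
      rw [map_add, hC, map_sum, map_add, map_sum, PowerSeries.coeff_C, if_neg (Nat.succ_ne_zero _),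
        zero_add, Finset.sum_eq_single j ?_ (by simp)]
      · rw [map_add φ, map_smul φ, map_smul φ, hmono _ _ (hi0 j), hmono _ _ (hi1 j), map_add, hC', hC',
          PowerSeries.coeff_C_mul_X_pow, PowerSeries.coeff_C_mul_X_pow, if_pos rfl, if_pos rfl]
        exact (he j).symm
      · intro l _ hl
        have : (j : ℕ) + 1 ≠ (l : ℕ) + 1 := fun h => hl (Fin.ext (by omega))
        rw [map_add φ, map_smul φ, map_smul φ, hmono _ _ (hi0 l), hmono _ _ (hi1 l), map_add, hC', hC',
          PowerSeries.coeff_C_mul_X_pow, PowerSeries.coeff_C_mul_X_pow, if_neg this, if_neg this]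
        simp
  let I := maximalIdeal (Model K v) ^ (n + 1)
  let g : P →ₗ[K] Model K v ⧸ I :=
    ((Ideal.Quotient.mkₐ K I).comp (Ideal.Quotient.mkₐ K (Ideal.span {form K v}))).toLinearMap
  have hgs : Function.Surjective g := Ideal.Quotient.mk_surjective.comp Ideal.Quotient.mk_surjective
  have hker : LinearMap.ker g ≤ LinearMap.ker L := fun f hf => by
    have h1 : Ideal.Quotient.mk (Ideal.span {form K v}) f ∈ I := Ideal.Quotient.eq_zero_iff_mem.1 hf
    have h2 : f ∈ maximalIdeal P ^ (n + 1) ⊔ Ideal.span {form K v} := by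
      have h2 : f ∈ Ideal.comap (Ideal.Quotient.mk (Ideal.span {form K v}))
          ((maximalIdeal P ^ (n + 1)).map (Ideal.Quotient.mk _)) := by
        rw [Ideal.mem_comap, Ideal.map_pow, map_maximalIdeal]; exact h1
      rwa [Ideal.comap_map_of_surjective _ Ideal.Quotient.mk_surjective, ← RingHom.ker_eq_comap_bot,
        Ideal.mk_ker] at h2
    obtain ⟨f₁, hf₁, f₂, hf₂, rfl⟩ := Submodule.mem_sup.1 h2
    obtain ⟨w, rfl⟩ := Ideal.mem_span_singleton'.1 hf₂
    have hφ₁ : φ f₁ ∈ Ideal.span {(PowerSeries.X : PowerSeries E) ^ (n + 1)} := by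
      rw [← Ideal.span_singleton_pow]
      refine (Ideal.map_le_iff_le_comap (f := φ.toRingHom) (K := Ideal.span {(PowerSeries.X : PowerSeries E)} ^ (n + 1))).1 ?_ hf₁
      rw [Ideal.map_pow]
      refine Ideal.pow_right_mono ?_ _
      rw [H24.PowerSeries.maximalIdeal_eq, Ideal.map_span, Ideal.span_le]
      rintro _ ⟨_, ⟨i, rfl⟩, rfl⟩
      show φ (MvPowerSeries.X i) ∈ _
      rw [hX]
      exact Ideal.mul_mem_left _ _ (Ideal.mem_span_singleton_self _)
    obtain ⟨h', hh'⟩ := Ideal.mem_span_singleton.1 hφ₁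
    have hc : MvPowerSeries.constantCoeff f₁ = 0 := by
      by_contra hne
      exact (mem_maximalIdeal _).1 (Ideal.pow_le_self n.succ_ne_zero hf₁)
        (MvPowerSeries.isUnit_iff_constantCoeff.2 (Ne.isUnit hne))
    refine LinearMap.mem_ker.2 (Prod.ext ?_ (funext fun j => ?_))
    · show MvPowerSeries.constantCoeff (f₁ + w * form K v) = 0
      simp [hc, form, quad]
    · show PowerSeries.coeff ((j : ℕ) + 1) (φ (f₁ + w * form K v)) = 0
      rw [map_add φ, map_mul φ, hform, mul_zero, add_zero, hh', PowerSeries.coeff_X_pow_mul',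
        if_neg (by have := j.2; omega)]
  let L' := ((LinearMap.ker g).liftQ L hker).comp (g.quotKerEquivOfSurjective hgs).symm.toLinearMap
  have hL' : Function.Surjective L' := fun z => by
    obtain ⟨f, rfl⟩ := hLs z
    refine ⟨g f, ?_⟩
    show (LinearMap.ker g).liftQ L hker ((g.quotKerEquivOfSurjective hgs).symm (g f)) = L f
    rw [show (g.quotKerEquivOfSurjective hgs).symm (g f) = Submodule.Quotient.mk f by
      rw [LinearEquiv.symm_apply_eq]; rfl, Submodule.liftQ_apply]
  rw [← length_eq K v]
  refine le_trans (le_of_eq ?_) (Module.length_le_of_surjective L' hL')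
  rw [Module.length_eq_finrank, Module.finrank_prod, Module.finrank_self,
    Module.finrank_pi_fintype]
  simp [hE]
  ring

/-- The model is nodal. -/
theorem isNodal (hv : disc v ≠ 0) : IsNodal (Model K v) := by
  refine IsNodal.of_le (span_xy K v) (v := algebraMap K (Model K v) ∘ v) ?_ ?_ ?_
  · suffices h0 : quad (algebraMap K (Model K v) ∘ v) (Ideal.Quotient.mk (Ideal.span {form K v})
        (MvPowerSeries.X 0)) (Ideal.Quotient.mk _ (MvPowerSeries.X 1)) = 0 by
      rw [h0]; exact zero_mem _
    have h := map_quad (Ideal.Quotient.mk (Ideal.span {form K v})) (MvPowerSeries.C ∘ v)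
      (MvPowerSeries.X 0) (MvPowerSeries.X 1)
    exact h.symm.trans (Ideal.Quotient.eq_zero_iff_mem.2 (Ideal.mem_span_singleton_self _))
  · rw [← map_disc]; exact (Ne.isUnit hv).map _
  by_cases ha : v 0 = 0
  · have hb : v 1 ≠ 0 := fun hb => hv (by simp [disc, ha, hb])
    refine length_ge (K × K) (by simp) (1, - v 2) (0, v 1) ?_ fun j e => ?_
    · ext <;> simp [quad, ha]; ring
    · refine ⟨e.1, (e.2 - e.1 * (- v 2) ^ (j + 1)) / v 1 ^ (j + 1), ![j + 1, 0], by simp, by simp, ?_⟩
      simp only [Matrix.cons_val_zero, Matrix.cons_val_one, Nat.sub_self, pow_zero, mul_one, one_mul,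
        Nat.sub_zero]
      ext
      · simp
      · simp [hb]
  · let f : Polynomial K :=
      Polynomial.X ^ 2 + Polynomial.C (v 1 / v 0) * Polynomial.X + Polynomial.C (v 2 / v 0)
    have hm : f.Monic := by simp only [f]; monicity!
    have hd : f.natDegree = 2 := by simp only [f]; compute_degree!
    let pb := AdjoinRoot.powerBasis' hm
    haveI : Module.Finite K (AdjoinRoot f) := pb.finite
    have hdim : pb.dim = 2 := (AdjoinRoot.powerBasis'_dim hm).trans hd
    refine length_ge (AdjoinRoot f) (by rw [pb.finrank, hdim]) (AdjoinRoot.root f) 1 ?_ fun j e => ?_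
    · have h := AdjoinRoot.eval₂_root f
      simp only [f, Polynomial.eval₂_add, Polynomial.eval₂_mul, Polynomial.eval₂_pow,
        Polynomial.eval₂_X, Polynomial.eval₂_C] at h
      have e1 : v 1 = v 0 * (v 1 / v 0) := by field_simp
      have e2 : v 2 = v 0 * (v 2 / v 0) := by field_simp
      simp only [quad, Function.comp_apply, one_pow, mul_one]
      rw [e1, e2, map_mul, map_mul, AdjoinRoot.algebraMap_eq]
      linear_combination (AdjoinRoot.of f (v 0)) * h
    · have h := pb.basis.sum_repr e
      refine ⟨pb.basis.repr e ⟨0, by omega⟩, pb.basis.repr e ⟨1, by omega⟩, ![0, 1], by simp, by simp, ?_⟩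
      conv_lhs => rw [← h]
      rw [← Equiv.sum_comp (finCongr hdim.symm), Fin.sum_univ_two]
      simp [pb, AdjoinRoot.powerBasis'_gen]
      rfl

end Groth.Agent.H25.Node.Model
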