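import Groth.Agent.H25.Node.Basic
import Groth.Agent.H25.Multi.Completion
import Groth.Agent.Lib.Unram.BranchSum

/-!
# Local rings with δ-invariant one and two geometric branches are nodal
-/

set_option autoImplicit false
set_option linter.style.haveILetI false
universe u

namespace Groth.Agent.H25.Node.Recognise

open IsLocalRing
open scoped nonZeroDivisors

variable (A : Type u) [CommRing A] [IsLocalRing A] [IsNoetherianRing A] [IsReduced A]

local notation "A'" => integralClosure A (FractionRing A)

/-- Geometric points of the normalisation over the closed point. -/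
abbrev Pts : Type u :=
  {τ : A' →+* AlgebraicClosure (ResidueField A) // τ.comp (algebraMap A A') = Brnch.toClosure A}

theorem numGeomBranches_eq_pts : Brnch.numGeomBranches A = ENat.card (Pts A) := by
  obtain ⟨ε, hε⟩ := H25.NormRed.exists_normRed_equiv A A (RingEquiv.refl A)
  obtain ⟨E₀⟩ := Lib.Unram.BranchSum.exists_emb_equiv A
  rw [Brnch.numGeomBranches, if_pos (minimalPrimes.finite_of_isNoetherianRing (R := A))]
  have hc : Lib.Unram.BranchSum.toNorm A = (ε : A' →+* CAlg2.normRed A).comp (algebraMap A A') :=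
    RingHom.ext fun a => (hε a).symm
  refine ENat.card_congr (E₀.trans
    { toFun := fun τ => ⟨τ.1.comp (ε : A' →+* CAlg2.normRed A), by
        rw [RingHom.comp_assoc, ← hc]; exact τ.2⟩
      invFun := fun τ => ⟨τ.1.comp (ε.symm : CAlg2.normRed A →+* A'), by
        rw [RingHom.comp_assoc, hc, ← RingHom.comp_assoc (algebraMap A A')]
        simpa using τ.2⟩
      left_inv := fun τ => Subtype.ext (RingHom.ext fun x => by simp)
      right_inv := fun τ => Subtype.ext (RingHom.ext fun x => by simp) })

/-- The intersection of the maximal ideals of the normalisation. -/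
noncomputable def rad : Ideal A' := ⨅ q : MaximalSpectrum A', q.asIdeal

variable {A}

omit [IsLocalRing A] [IsNoetherianRing A] [IsReduced A] in
theorem rad_le (q : MaximalSpectrum A') : rad A ≤ q.asIdeal := iInf_le _ q

omit [IsNoetherianRing A] [IsReduced A] in
theorem toClosure_eq_zero_iff (a : A) : Brnch.toClosure A a = 0 ↔ a ∈ maximalIdeal A := by
  rw [← residue_eq_zero_iff]
  show algebraMap (ResidueField A) (AlgebraicClosure (ResidueField A)) (residue A a) = 0 ↔ _
  exact map_eq_zero _

omit [IsNoetherianRing A] [IsReduced A] in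
theorem map_mem_rad {a : A} (ha : a ∈ maximalIdeal A) : algebraMap A A' a ∈ rad A :=
  Ideal.mem_iInf.2 fun q => by
    haveI := q.isMaximal
    rw [← Ideal.mem_comap, Multi.Completion.comap_eq]; exact ha

omit [IsNoetherianRing A] [IsReduced A] in
theorem pts_rad (τ : Pts A) {x : A'} (hx : x ∈ rad A) : τ.1 x = 0 := by
  haveI : (RingHom.ker τ.1).IsPrime := RingHom.ker_isPrime _
  have hcomap : (RingHom.ker τ.1).comap (algebraMap A A') = maximalIdeal A := by
    rw [RingHom.comap_ker, τ.2]
    ext a
    rw [RingHom.mem_ker, toClosure_eq_zero_iff]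
  haveI : ((RingHom.ker τ.1).comap (algebraMap A A')).IsMaximal :=
    hcomap ▸ maximalIdeal.isMaximal A
  haveI := Ideal.isMaximal_of_isIntegral_of_isMaximal_comap (R := A) (RingHom.ker τ.1) ‹_›
  exact rad_le ⟨RingHom.ker τ.1, ‹_›⟩ hx

/-- A generator of the intersection of the maximal ideals. -/
theorem exists_generator [Module.Finite A A'] (hdim : ringKrullDim A = 1) :
    ∃ π ∈ nonZeroDivisors A', rad A = Ideal.span {π} := by
  classical
  haveI : IsNoetherianRing A' := IsNoetherianRing.of_finite A _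
  haveI : Finite (MaximalSpectrum A') := by
    haveI := (Algebra.QuasiFinite.finite_primesOver (S := A') (maximalIdeal A)).to_subtype
    exact Finite.of_injective (fun q : MaximalSpectrum A' =>
      (⟨q.asIdeal, q.isMaximal.isPrime, ⟨(haveI := q.isMaximal; Multi.Completion.comap_eq A q.asIdeal).symm⟩⟩ :
        (maximalIdeal A).primesOver A'))
      fun q q' h => MaximalSpectrum.ext (congrArg Subtype.val h)
  cases nonempty_fintype (MaximalSpectrum A')
  choose p hp hstep _hne using fun q : MaximalSpectrum A' =>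
    haveI := q.isMaximal; Multi.Completion.exists_uniformizer A hdim q.asIdeal
  have hcop : ∀ N, Pairwise fun i j : MaximalSpectrum A' => IsCoprime (i.asIdeal ^ N) (j.asIdeal ^ N) :=
    fun N i j hij => by
      haveI := i.isMaximal
      haveI := j.isMaximal
      exact (Ideal.isCoprime_of_isMaximal fun h => hij (MaximalSpectrum.ext h)).pow
  obtain ⟨π, hπ⟩ := Ideal.pi_quotient_surjective (I := fun q : MaximalSpectrum A' => q.asIdeal ^ 2)
    (fun i j hij => hcop 2 hij) (fun q => Ideal.Quotient.mk _ (p q))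
  have hπq : ∀ q : MaximalSpectrum A', π - p q ∈ q.asIdeal ^ 2 := fun q => Ideal.Quotient.eq.1 (hπ q)
  have hsq : (⨅ q : MaximalSpectrum A', q.asIdeal ^ 2) = rad A ^ 2 := by
    have h1 : rad A = ∏ q : MaximalSpectrum A', q.asIdeal := by
      rw [Ideal.prod_eq_iInf_of_pairwise_isCoprime (fun i _ j _ hij => by simpa using hcop 1 hij)]
      simp [rad]
    rw [h1, ← Finset.prod_pow,
      Ideal.prod_eq_iInf_of_pairwise_isCoprime (fun i _ j _ hij => hcop 2 hij)]
    simp
  have hle : Ideal.span {π} ≤ rad A := (Ideal.span_singleton_le_iff_mem _).2 (Ideal.mem_iInf.2 fun q => by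
    simpa using add_mem (Ideal.pow_le_self two_ne_zero (hπq q)) (hp q))
  have heq : rad A = Ideal.span {π} := by
    refine le_antisymm ?_ hle
    apply Submodule.le_of_le_smul_of_le_jacobson_bot (I := rad A) (IsNoetherian.noetherian _)
    · rw [Ideal.jacobson]
      exact le_sInf fun q hq => rad_le ⟨q, hq.2⟩
    intro x hx
    choose b hb using fun q : MaximalSpectrum A' => hstep q 1 x (by
      rw [pow_one]; exact rad_le q hx)
    obtain ⟨c, hc⟩ := Ideal.pi_quotient_surjective (I := fun q : MaximalSpectrum A' => q.asIdeal ^ 2)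
      (fun i j hij => hcop 2 hij) (fun q => Ideal.Quotient.mk _ (b q))
    have hmem : x - c * π ∈ rad A ^ 2 := by
      rw [← hsq]
      refine Ideal.mem_iInf.2 fun q => ?_
      have h1 : c - b q ∈ q.asIdeal ^ 2 := Ideal.Quotient.eq.1 (hc q)
      have h2 : x - b q * p q ∈ q.asIdeal ^ 2 := by simpa using hb q
      rw [show x - c * π = (x - b q * p q) - b q * (π - p q) - π * (c - b q) by ring]
      exact sub_mem (sub_mem h2 (Ideal.mul_mem_left _ _ (hπq q))) (Ideal.mul_mem_left _ _ h1)
    rw [pow_two] at hmem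
    have : x = c * π + (x - c * π) := by ring
    rw [this]
    exact Submodule.add_mem_sup (Ideal.mul_mem_left _ _ (Ideal.mem_span_singleton_self π)) hmem
  refine ⟨π, ?_, heq⟩
  obtain ⟨x, hxm, hx0⟩ := Multi.Completion.exists_nonZeroDivisor_mem A hdim
  obtain ⟨r, hr⟩ := Ideal.mem_span_singleton'.1 (heq ▸ map_mem_rad hxm)
  have hreg : algebraMap A A' x ∈ A'⁰ := mem_nonZeroDivisors_iff_right.2 fun v hv => Subtype.ext
    ((IsLocalization.map_units (FractionRing A) ⟨x, hx0⟩).mul_left_eq_zero.1 (congrArg Subtype.val hv))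
  exact (mul_mem_nonZeroDivisors.1 (hr ▸ hreg)).2

/-- The recognition theorem. -/
theorem isNodal_of_deltaInv [Module.Finite A A'] (hdim : ringKrullDim A = 1)
    (hδ : Curv2.deltaInv A = 1) (hbr : Brnch.numGeomBranches A = 2) : IsNodal A := by
  classical
  let N0 : Submodule A A' := LinearMap.range (Algebra.linearMap A A')
  have hsimple : IsSimpleModule A (A' ⧸ N0) := Module.length_eq_one_iff.1 hδ
  rw [numGeomBranches_eq_pts] at hbr
  obtain ⟨σ, τ, hne⟩ : ∃ σ τ : Pts A, σ ≠ τ := by
    by_contra hc
    push Not at hc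
    haveI : Subsingleton (Pts A) := ⟨hc⟩
    have := (ENat.card_le_one_iff_subsingleton _).2 (inferInstance : Subsingleton (Pts A))
    rw [hbr] at this
    exact absurd this (by decide)
  have hinj : Function.Injective (algebraMap A A') := fun a b h =>
    IsFractionRing.injective A (FractionRing A) (congrArg Subtype.val h)
  have hcoatom : IsCoatom N0 := isSimpleModule_iff_isCoatom.1 hsimple
  have hval : ∀ (ρ : Pts A) (a : A), ρ.1 (algebraMap A A' a) = Brnch.toClosure A a := fun ρ a =>
    RingHom.congr_fun ρ.2 a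
  -- the conductor is the radical
  have hJ : ∀ x ∈ rad A, ∃ a ∈ maximalIdeal A, algebraMap A A' a = x := by
    have hle : (rad A).restrictScalars A ≤ N0 := by
      by_contra hnot
      have htop : N0 ⊔ (rad A).restrictScalars A = ⊤ :=
        hcoatom.2 _ (lt_of_le_of_ne le_sup_left fun e => hnot (e ▸ le_sup_right))
      refine hne (Subtype.ext (RingHom.ext fun r => ?_))
      obtain ⟨_, ⟨a, rfl⟩, j, hj, rfl⟩ := Submodule.mem_sup.1 (htop ▸ Submodule.mem_top (x := r))
      rw [map_add, map_add, Algebra.linearMap_apply, hval, hval, pts_rad σ hj, pts_rad τ hj]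
    intro x hx
    obtain ⟨a, rfl⟩ := hle hx
    exact ⟨a, (toClosure_eq_zero_iff a).1 ((hval σ a).symm.trans (pts_rad σ hx)), rfl⟩
  obtain ⟨z, hz⟩ : ∃ z : A', z ∉ N0 := by
    by_contra hc
    push Not at hc
    exact hcoatom.1 (eq_top_iff.2 fun r _ => hc r)
  have hgen : ∀ r : A', ∃ a b : A, algebraMap A A' a + algebraMap A A' b * z = r := by
    have htop : N0 ⊔ Submodule.span A {z} = ⊤ :=
      hcoatom.2 _ (lt_of_le_of_ne le_sup_left fun e =>
        hz (e ▸ Submodule.mem_sup_right (Submodule.mem_span_singleton_self z)))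
    intro r
    obtain ⟨_, ⟨a, rfl⟩, w, hw, rfl⟩ := Submodule.mem_sup.1 (htop ▸ Submodule.mem_top (x := r))
    obtain ⟨b, rfl⟩ := Submodule.mem_span_singleton.1 hw
    exact ⟨a, b, by rw [Algebra.linearMap_apply, Algebra.smul_def]⟩
  have hmem_rad : ∀ a b : A, algebraMap A A' a + algebraMap A A' b * z ∈ rad A ↔
      a ∈ maximalIdeal A ∧ b ∈ maximalIdeal A := by
    intro a b
    refine ⟨fun h => ?_, fun ⟨ha, hb⟩ => add_mem (map_mem_rad ha)
      (Ideal.mul_mem_right _ _ (map_mem_rad hb))⟩
    have hb : b ∈ maximalIdeal A := by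
      by_contra hb
      obtain ⟨c, hc, hcx⟩ := hJ _ h
      obtain ⟨w, hw⟩ := (not_not.1 hb : IsUnit b).exists_left_inv
      refine hz ⟨w * (c - a), ?_⟩
      rw [Algebra.linearMap_apply, map_mul, map_sub, hcx, add_sub_cancel_left, ← mul_assoc,
        ← map_mul, hw, map_one, one_mul]
    refine ⟨(toClosure_eq_zero_iff a).1 ?_, hb⟩
    have := pts_rad σ h
    rwa [map_add, map_mul, hval, hval, (toClosure_eq_zero_iff b).2 hb, zero_mul, add_zero] at this
  obtain ⟨π, hπ, hrad⟩ := exists_generator (A := A) hdim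
  have hpow : ∀ n : ℕ, ∀ x : A', x ∈ rad A ^ (n + 1) ↔
      ∃ a ∈ maximalIdeal A ^ (n + 1), algebraMap A A' a = x := by
    intro n x
    constructor
    · induction n generalizing x with
      | zero => simpa using hJ x
      | succ n ih =>
        intro hx
        rw [pow_succ (rad A)] at hx
        refine Submodule.mul_induction_on hx (fun y hy w hw => ?_) (fun y w hy hw => ?_)
        · obtain ⟨b, hb, rfl⟩ := ih y hy
          obtain ⟨c, hc, rfl⟩ := hJ w hw
          exact ⟨b * c, by rw [pow_succ]; exact Ideal.mul_mem_mul hb hc, map_mul _ _ _⟩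
        · obtain ⟨b, hb, rfl⟩ := hy
          obtain ⟨c, hc, rfl⟩ := hw
          exact ⟨b + c, add_mem hb hc, map_add _ _ _⟩
    · rintro ⟨a, ha, rfl⟩
      have h1 : (maximalIdeal A).map (algebraMap A A') ≤ rad A :=
        Ideal.map_le_iff_le_comap.2 fun b hb => map_mem_rad hb
      exact Ideal.pow_right_mono h1 _ (Ideal.map_pow (algebraMap A A') _ (n + 1) ▸
        Ideal.mem_map_of_mem _ ha)
  -- the maximal ideal and the relation
  obtain ⟨x, hx, hxπ⟩ := hJ π (hrad ▸ Ideal.mem_span_singleton_self π)
  obtain ⟨y, hy, hyπ⟩ := hJ (π * z) (hrad ▸ Ideal.mem_span_singleton'.2 ⟨z, mul_comm _ _⟩)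
  have hspan : Ideal.span {x, y} = maximalIdeal A := by
    refine le_antisymm (Ideal.span_le.2 fun t ht => ?_) ?_
    · rcases ht with rfl | rfl
      · exact hx
      · exact hy
    · intro t ht
      obtain ⟨r, hr⟩ := Ideal.mem_span_singleton'.1 (hrad ▸ map_mem_rad ht)
      obtain ⟨a, b, rfl⟩ := hgen r
      exact Ideal.mem_span_pair.2 ⟨a, b, hinj (by
        rw [← hr, map_add, map_mul, map_mul, hxπ, hyπ]; ring)⟩
  obtain ⟨α, β, hzz⟩ := hgen (z ^ 2)
  refine ⟨fun n => ?_, x, y, hspan, ![-α, -β, 1], ?_, ?_⟩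
  · induction n with
    | zero =>
      haveI : IsSimpleModule A (A ⧸ maximalIdeal A) :=
        isSimpleModule_iff_isCoatom.2 (maximalIdeal.isMaximal A).1
      rw [zero_add, pow_one, Module.length_eq_one]; simp
    | succ n ih =>
      let f : Fin 2 → A := ![x ^ (n + 1), x ^ n * y]
      have hf : ∀ i, f i ∈ maximalIdeal A ^ (n + 1) := fun i => by
        fin_cases i
        · exact Ideal.pow_mem_pow hx _
        · show x ^ n * y ∈ _
          rw [pow_succ]; exact Ideal.mul_mem_mul (Ideal.pow_mem_pow hx n) hy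
      have hsum : ∀ v : Fin 2 → A, algebraMap A A' (∑ i, v i * f i) =
          π ^ (n + 1) * (algebraMap A A' (v 0) + algebraMap A A' (v 1) * z) := fun v => by
        simp [f, Fin.sum_univ_two, hxπ, hyπ]; ring
      have hfull : maximalIdeal A ^ (n + 1) ≤
          Ideal.span (Set.range f) ⊔ maximalIdeal A ^ (n + 1 + 1) := by
        refine le_trans (fun t ht => ?_) le_sup_left
        have h1 := (hpow n _).2 ⟨t, ht, rfl⟩
        rw [hrad, Ideal.span_singleton_pow] at h1
        obtain ⟨r, hr⟩ := Ideal.mem_span_singleton'.1 h1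
        obtain ⟨a, b, rfl⟩ := hgen r
        refine Ideal.mem_span_range_iff_exists_fun.2 ⟨![a, b], hinj ?_⟩
        rw [hsum, ← hr]; simp; ring
      obtain ⟨φ, hφ, hlen⟩ := exists_factor f hf hfull
      have hker : LinearMap.ker φ = ⊥ := by
        rw [LinearMap.ker_eq_bot']
        intro w hw
        choose v hv using fun i => residue_surjective (w i)
        obtain rfl : residue A ∘ v = w := funext hv
        rw [hφ, Ideal.Quotient.eq_zero_iff_mem] at hw
        have h1 := (hpow (n + 1) _).2 ⟨_, hw, rfl⟩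
        rw [hsum, hrad, Ideal.span_singleton_pow] at h1
        obtain ⟨r, hr⟩ := Ideal.mem_span_singleton'.1 h1
        have h2 : r * π = algebraMap A A' (v 0) + algebraMap A A' (v 1) * z := by
          refine (mul_cancel_left_mem_nonZeroDivisors (pow_mem hπ (n + 1))).1 ?_
          rw [← hr]; ring
        obtain ⟨h3, h4⟩ := (hmem_rad _ _).1 (hrad ▸ Ideal.mem_span_singleton'.2 ⟨r, h2⟩)
        funext i
        fin_cases i
        · exact (residue_eq_zero_iff _).2 h3
        · exact (residue_eq_zero_iff _).2 h4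
      have hφinj : Function.Injective φ := LinearMap.ker_eq_bot.1 hker
      rw [← hlen, (LinearEquiv.ofInjective φ hφinj).symm.length_eq, length_residue_pi, ih]
      push_cast
      ring
  · have h1 : algebraMap A A' (quad ![-α, -β, 1] x y) ∈ rad A ^ (2 + 1) := by
      have : algebraMap A A' (quad ![-α, -β, 1] x y) = 0 := by
        simp [quad, hxπ, hyπ]
        linear_combination (-π ^ 2) * hzz
      rw [this]; exact zero_mem _
    obtain ⟨a, ha, hax⟩ := (hpow 2 _).1 h1
    exact hinj hax ▸ ha
  · by_contra hnu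
    have h0 : (Brnch.toClosure A) (disc ![-α, -β, 1]) = 0 := (toClosure_eq_zero_iff _).2 hnu
    have hroot : ∀ ρ : Pts A, ρ.1 z ^ 2 =
        Brnch.toClosure A α + Brnch.toClosure A β * ρ.1 z := fun ρ => by
      rw [← map_pow, ← hzz, map_add, map_mul, hval, hval]
    have hzne : σ.1 z ≠ τ.1 z := fun e => hne (Subtype.ext (RingHom.ext fun r => by
      obtain ⟨a, b, rfl⟩ := hgen r
      rw [map_add, map_add, map_mul, map_mul, hval, hval, hval, hval, e]))
    simp [disc] at h0
    rw [map_ofNat] at h0
    have h1 : σ.1 z + τ.1 z = Brnch.toClosure A β := mul_left_cancel₀ (sub_ne_zero.2 hzne)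
      (by linear_combination hroot σ - hroot τ)
    have h2 : (σ.1 z - τ.1 z) ^ 2 = 0 := by
      linear_combination (2 * hroot σ + 2 * hroot τ) - (σ.1 z + τ.1 z - Brnch.toClosure A β) * h1 - h0
    exact hzne (sub_eq_zero.1 (pow_eq_zero_iff two_ne_zero |>.1 h2))

end Groth.Agent.H25.Node.Recognise
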