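import Groth.Agent.H25.Node.FittCrit
import Groth.Agent.H25.Morse.Singular
import Groth.Agent.H26.CICongr
import Groth.Agent.H20.CMDim
import Groth.Agent.Lib.Excellent.Transport
import Groth.Agent.Lib.JacCrit.OverField
import Groth.Agent.Lib.Synt92.MorOverField

/-!
Nodal curves: complete intersections with unramified singular scheme.
-/

set_option autoImplicit false
set_option linter.style.haveILetI false
universe u

open CategoryTheory CategoryTheory.Limits AlgebraicGeometry IsLocalRing

attribute [local instance] Curv2.stalkAlgebra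

namespace Groth.Agent.H25.Node.SingCrit

/-- A nodal local ring is a complete intersection. -/
theorem ci_of_isNodal (k A : Type u) [Field k] [CommRing A] [IsLocalRing A] [IsNoetherianRing A]
    [Algebra k A] [Algebra.FormallySmooth k (ResidueField A)] (h : IsNodal A) :
    Pi1.IsCompleteIntersection A := by
  obtain ⟨a, b, c, hd, e, -⟩ := Coefficient.exists_quadratic k h
  let K := ResidueField A
  let v : Fin 3 → K := ![a, b, c]
  haveI : IsRegularLocalRing (MvPowerSeries (Fin 2) K) := H24.PowerSeries.isRegularLocalRing_fin K 2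
  have hne : Model.form K v ≠ 0 := fun h0 => by
    have h1 : ∀ i j : Fin 2, MvPowerSeries.constantCoeff
        (MvPowerSeries.pderiv K i (MvPowerSeries.pderiv K j (Model.form K v))) = 0 := fun i j => by
      rw [h0, map_zero, map_zero, map_zero]
    have h00 := h1 0 0
    have h01 := h1 0 1
    have h11 := h1 1 1
    simp [Model.form, quad, pow_two, MvPowerSeries.pderiv_X, Pi.single_apply, v, two_mul, mul_add] at h00 h01 h11

    refine hd ?_
    linear_combination (2 * c) * h00 - b * h01
  refine ⟨MvPowerSeries (Fin 2) K, inferInstance, inferInstance, [Model.form K v], ?_, ?_,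
    ⟨e.trans (Ideal.quotEquivOfEq ?_)⟩⟩
  · intro r hr
    rw [List.mem_singleton.1 hr]
    exact Model.form_mem K v
  · refine Lib.Depth.Basic.isRegular_of_mem (I := maximalIdeal (MvPowerSeries (Fin 2) K))
      (Lib.Depth.Basic.smul_top_ne_top Ideal.IsPrime.ne_top') ?_ fun r hr => ?_
    · exact RingTheory.Sequence.IsWeaklyRegular.cons (IsSMulRegular.of_ne_zero hne)
        (RingTheory.Sequence.IsWeaklyRegular.nil _ _)
    · rw [List.mem_singleton.1 hr]
      exact Model.form_mem K v
  · rw [show {r | r ∈ [Model.form K v]} = ({Model.form K v} : Set _) by ext; simp, Quadratic.form_eq]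

/-- Complete intersections over a field are Cohen–Macaulay. -/
theorem cm_of_isCIOver (k A : Type u) [Field k] [CommRing A] [IsLocalRing A] [IsNoetherianRing A]
    [Algebra k A] (h : Synt.IsCIOver k A) : LocCoh.IsCohenMacaulayLocalRing A := by
  obtain ⟨R, _, _, _, -, rs, hmem, hreg, ⟨e⟩⟩ := h
  haveI := Lib.JacCrit.FlatRegular.isCohenMacaulayLocalRing R
  haveI : IsLocalRing (R ⧸ Ideal.ofList rs) := e.toRingEquiv.isLocalRing
  haveI : LocCoh.IsCohenMacaulayLocalRing (R ⧸ Ideal.ofList rs) := by
    rw [Lib.Depth.CM.isCohenMacaulayLocalRing_quotient_iff_module]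
    exact (Lib.Depth.CM.isCohenMacaulayModule_congr (Submodule.quotEquivOfEq _ _ (by simp))).mp
      (H20.CMDim.isCohenMacaulayModule_quotient_ofList Lib.Depth.CM.isCohenMacaulayModule_self rs hmem
        hreg.toIsWeaklyRegular)
  exact Lib.Excellent.Transport.isCohenMacaulayLocalRing_of_ringEquiv e.symm.toRingEquiv

/-- A Cohen–Macaulay local ring with a nonmaximal prime has a regular element. -/
theorem exists_nzd_of_cm (A : Type u) [CommRing A] [IsLocalRing A] [IsNoetherianRing A]
    [LocCoh.IsCohenMacaulayLocalRing A] (P : Ideal A) [P.IsPrime] (hP : P ≠ maximalIdeal A) :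
    ∃ r ∈ maximalIdeal A, r ∈ nonZeroDivisors A := by
  have hnt : maximalIdeal A • (⊤ : Submodule A A) ≠ ⊤ := by
    rw [smul_eq_mul, Ideal.mul_top]
    exact (maximalIdeal.isMaximal A).ne_top
  by_cases h0 : LocCoh.depth A A = 0
  · exfalso
    have h1 := Lib.Depth.CM.ringKrullDim_eq_depth (R := A)
    rw [h0] at h1
    haveI : Ring.KrullDimLE 0 A := Ring.krullDimLE_iff.2 (le_of_eq h1)
    exact hP (IsLocalRing.eq_maximalIdeal inferInstance)
  · rcases Lib.Depth.Basic.one_le_idealDepth_iff.mp (Order.one_le_iff_ne_zero.2 h0) with h | ⟨x, hx, hr⟩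
    · exact absurd h hnt
    · exact ⟨x, hx, mem_nonZeroDivisors_iff_right.2 fun z hz =>
        hr.right_eq_zero_of_smul (by rw [smul_eq_mul, mul_comm]; exact hz)⟩

/-- A local algebra over a field with unramified quotient by a proper ideal. -/
theorem eq_maximal_of_unramified (k A : Type u) [Field k] [CommRing A] [IsLocalRing A] [Algebra k A]
    [Algebra.EssFiniteType k A] (I : Ideal A) (hI : I ≠ ⊤) [Algebra.FormallyUnramified k (A ⧸ I)] :
    I = maximalIdeal A ∧ Algebra.IsSeparable k (ResidueField A) := by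
  haveI : Nontrivial (A ⧸ I) := Ideal.Quotient.nontrivial_iff.2 hI
  haveI : IsLocalRing (A ⧸ I) := IsLocalRing.of_surjective' (Ideal.Quotient.mk I) Ideal.Quotient.mk_surjective
  haveI : IsLocalHom (Ideal.Quotient.mk I) := IsLocalHom.of_surjective _ Ideal.Quotient.mk_surjective
  haveI : Algebra.EssFiniteType k (A ⧸ I) := Algebra.EssFiniteType.comp k A (A ⧸ I)
  haveI : IsLocalHom (algebraMap k (A ⧸ I)) := ⟨fun c hc => isUnit_iff_ne_zero.2 fun h0 => by
    rw [h0, map_zero] at hc; exact not_isUnit_zero hc⟩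
  have hbot : maximalIdeal (A ⧸ I) = ⊥ := by
    rw [← Algebra.FormallyUnramified.map_maximalIdeal (R := k), IsLocalRing.isField_iff_maximalIdeal_eq.1
      (Field.toIsField k), Ideal.map_bot]
  have hI' : I = maximalIdeal A := by
    refine le_antisymm (IsLocalRing.le_maximalIdeal hI) fun a ha => ?_
    rw [← Ideal.Quotient.eq_zero_iff_mem, ← Ideal.mem_bot, ← hbot]
    exact fun hu => ha (isUnit_of_map_unit _ _ hu)
  refine ⟨hI', ?_⟩
  haveI : Algebra.FormallyUnramified k (ResidueField A) := by
    have e : (A ⧸ I) ≃ₐ[k] ResidueField A := Ideal.quotientEquivAlgOfEq k hI'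
    exact Algebra.FormallyUnramified.of_equiv e
  haveI : Algebra.EssFiniteType k (ResidueField A) := Algebra.EssFiniteType.comp k A (ResidueField A)
  exact Algebra.FormallyUnramified.isSeparable k _

variable (k : Type u) [Field k] (X : Scheme.{u}) [X.Over (Spec (CommRingCat.of k))]

omit [X.Over (Spec (CommRingCat.of k))] in
/-- Over a field the fibre is the scheme. -/
theorem isIso_fiberι (p : X ⟶ Spec (CommRingCat.of k)) (s : Spec (CommRingCat.of k)) :
    IsIso (p.fiberι s) := by
  haveI : IsClosedImmersion ((Spec (CommRingCat.of k)).fromSpecResidueField s) :=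
    isClosed_singleton_iff_isClosedImmersion.1 (by
      rw [show ({s} : Set (Spec (CommRingCat.of k) :)) = Set.univ from Set.eq_univ_of_forall fun t =>
        Subsingleton.elim t s]
      exact isClosed_univ)
  haveI : Surjective ((Spec (CommRingCat.of k)).fromSpecResidueField s) := ⟨fun t =>
    ⟨IsLocalRing.closedPoint _, Subsingleton.elim _ t⟩⟩
  haveI : IsIso ((Spec (CommRingCat.of k)).fromSpecResidueField s) :=
    isIso_of_isClosedImmersion_of_surjective _
  exact inferInstanceAs (IsIso (pullback.fst p ((Spec (CommRingCat.of k)).fromSpecResidueField s)))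

theorem equidim_fibre (hequi : ∀ Z ∈ irreducibleComponents (X : Type u), topologicalKrullDim Z = 1)
    (s : Spec (CommRingCat.of k)) :
    ∀ Z ∈ irreducibleComponents (((X ↘ Spec (CommRingCat.of k)).fiber s) : Type u),
      topologicalKrullDim Z = 1 := by
  haveI := isIso_fiberι k X (X ↘ Spec (CommRingCat.of k)) s
  refine Dim.comps_one_of_map ((X ↘ Spec (CommRingCat.of k)).fiberι s) hequi fun z hz => ?_
  have h1 := ((X ↘ Spec (CommRingCat.of k)).fiberι s).homeomorph.isClosedMap _ hz
  rwa [Set.image_singleton] at h1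

variable [LocallyOfFiniteType (X ↘ Spec (CommRingCat.of k))] [QuasiSeparated (X ↘ Spec (CommRingCat.of k))]

/-- **Complete intersection curves with unramified singular scheme have only nodes.** -/
theorem atWorstNodal [Flat (X ↘ Spec (CommRingCat.of k))]
    (hequi : ∀ Z ∈ irreducibleComponents (X : Type u), topologicalKrullDim Z = 1)
    (hci : ∀ x : X, Synt.IsCIOver k (X.presheaf.stalk x))
    (hunr : FormallyUnramified ((Fitt.sheafIdeal (Omega.sheaf (X ↘ Spec (CommRingCat.of k))) 1).subschemeι ≫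
      (X ↘ Spec (CommRingCat.of k)))) :
    Curv2.AtWorstNodal k X := by
  intro z hz
  set p := X ↘ Spec (CommRingCat.of k) with hp
  haveI : LocallyOfFinitePresentation p := LocallyOfFinitePresentation.iff_locallyOfFiniteType.2 inferInstance
  by_cases hsm : ∃ W : X.Opens, z ∈ W ∧ Smooth (W.ι ≫ p)
  · exact Or.inl hsm
  refine Or.inr ((Sch.isNode_iff k X z).2 ⟨hz, ?_⟩)
  let I := Fitt.sheafIdeal (Omega.sheaf p) 1
  have hsup : z ∈ I.support :=
    (Lib.FittSheaf.omega_support_iff p 1 (fun s => by exact_mod_cast equidim_fibre k X hequi s) z).2 hsm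
  obtain ⟨U, hU, hzU, -⟩ := exists_isAffineOpen_mem_and_subset (X := X) (x := z) (U := ⊤) trivial
  have eU : U ≤ p ⁻¹ᵁ ⊤ := fun _ _ => trivial
  let Γk := Γ(Spec (CommRingCat.of k), ⊤)
  let B := Γ(X, U)
  let A := X.presheaf.stalk z
  letI : Algebra k B := (Lib.Synt92.MorOverField.secHom p U).toAlgebra
  letI : Algebra Γk B := (p.appLE ⊤ U eU).hom.toAlgebra
  letI : Algebra k Γk := (Scheme.ΓSpecIso (CommRingCat.of k)).inv.hom.toAlgebra
  haveI : IsScalarTower k Γk B := IsScalarTower.of_algebraMap_eq fun _ => rfl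
  haveI : Algebra.FiniteType k B := Lib.Synt92.MorOverField.finiteType_secHom p hU
  haveI : Algebra.FiniteType Γk B :=
    HasRingHomProperty.appLE @LocallyOfFiniteType p inferInstance ⟨⊤, isAffineOpen_top _⟩ ⟨U, hU⟩ eU
  haveI : Algebra.FormallyEtale k Γk :=
    Algebra.FormallyEtale.of_equiv (AlgEquiv.ofRingEquiv (R := k)
      (f := (Scheme.ΓSpecIso (CommRingCat.of k)).symm.commRingCatIsoToRingEquiv) fun _ => rfl)
  letI : Algebra B A := X.presheaf.algebra_section_stalk ⟨z, hzU⟩
  haveI : IsScalarTower k B A := IsScalarTower.of_algebraMap_eq fun r => by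
    show Curv2.stalkMap k X z r = _
    rw [SmoothPoint.stalkMap_eq]
    exact congrArg (fun φ : k →+* _ => φ r) (Lib.Synt92.MorOverField.germ_secHom p U z hzU)
  let P := (hU.primeIdealOf ⟨z, hzU⟩).asIdeal
  haveI : IsLocalization.AtPrime A P := hU.isLocalization_stalk ⟨z, hzU⟩
  haveI : Algebra.EssFiniteType B A := Algebra.EssFiniteType.of_isLocalization A P.primeCompl
  haveI : Algebra.EssFiniteType k A := Algebra.EssFiniteType.comp k B A
  haveI : Algebra.FormallyEtale B A := Algebra.FormallyEtale.of_isLocalization P.primeCompl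
  haveI : IsNoetherianRing A := Algebra.EssFiniteType.isNoetherianRing k A
  let IB := Fitt.ideal B Ω[B⁄k] 1
  have hIB : I.ideal ⟨U, hU⟩ = IB := by
    rw [Morse.Singular.ideal_omega p (isAffineOpen_top _) hU eU 1]
    exact (Morse.SingAlg.fitt_base k Γk B 1).symm
  have hIA : Fitt.ideal A Ω[A⁄k] 1 = IB.map (algebraMap B A) := by
    rw [Fitting.ideal_congr (KaehlerDifferential.tensorKaehlerEquivOfFormallyEtale k B A).symm 1,
      Fitting.ideal_baseChange (R' := A) 1]
  have hne : IB.map (algebraMap B A) ≠ ⊤ := by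
    rw [IsLocalization.map_algebraMap_ne_top_iff_disjoint P.primeCompl]
    refine Set.disjoint_left.2 fun b hbc hb => hbc ?_
    have h1 : z ∈ (X.zeroLocus (U := U) (I.ideal ⟨U, hU⟩) : Set X) :=
      ((I.coe_support_inter ⟨U, hU⟩).le ⟨hsup, hzU⟩).1
    by_contra hb'
    refine (Scheme.mem_zeroLocus_iff (X := X) _ z).1 h1 b (hIB ▸ hb) ?_
    have h3 : hU.fromSpec (hU.primeIdealOf ⟨z, hzU⟩) ∈ X.basicOpen b := by
      show hU.primeIdealOf ⟨z, hzU⟩ ∈ hU.fromSpec ⁻¹ᵁ X.basicOpen b
      rw [hU.fromSpec_preimage_basicOpen]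
      exact hb'
    rwa [hU.fromSpec_primeIdealOf ⟨z, hzU⟩] at h3
  -- the singular scheme on the chart
  let Z := I.subscheme
  let UZ : Z.Opens := I.subschemeι ⁻¹ᵁ U
  have hUZ : IsAffineOpen UZ := hU.preimage I.subschemeι
  have eZ : UZ ≤ (I.subschemeι ≫ p) ⁻¹ᵁ ⊤ := fun _ _ => trivial
  letI : Algebra B Γ(Z, UZ) := (I.subschemeι.app U).hom.toAlgebra
  letI : Algebra Γk Γ(Z, UZ) := ((I.subschemeι ≫ p).appLE ⊤ UZ eZ).hom.toAlgebra
  haveI : IsScalarTower Γk B Γ(Z, UZ) := IsScalarTower.of_algebraMap_eq' (by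
    show ((I.subschemeι ≫ p).appLE ⊤ UZ eZ).hom = (p.appLE ⊤ U eU ≫ I.subschemeι.app U).hom
    congr 1
    rw [← Scheme.Hom.appLE_comp_appLE I.subschemeι p ⊤ U UZ eU le_rfl, Scheme.Hom.app_eq_appLE])
  letI : Algebra k Γ(Z, UZ) := ((algebraMap B Γ(Z, UZ)).comp (algebraMap k B)).toAlgebra
  haveI : IsScalarTower k B Γ(Z, UZ) := IsScalarTower.of_algebraMap_eq fun _ => rfl
  haveI : IsScalarTower k Γk Γ(Z, UZ) := IsScalarTower.of_algebraMap_eq fun r => by
    rw [IsScalarTower.algebraMap_apply Γk B Γ(Z, UZ), ← IsScalarTower.algebraMap_apply k Γk B]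
    rfl
  haveI : Algebra.FormallyUnramified Γk Γ(Z, UZ) :=
    HasRingHomProperty.appLE @FormallyUnramified (I.subschemeι ≫ p) hunr ⟨⊤, isAffineOpen_top _⟩ ⟨UZ, hUZ⟩ eZ
  haveI : Algebra.FormallyUnramified k Γ(Z, UZ) := Algebra.FormallyUnramified.comp k Γk _
  have hker : RingHom.ker (algebraMap B Γ(Z, UZ)) = IB := (I.ker_subschemeι_app ⟨U, hU⟩).trans hIB
  haveI : Algebra.FormallyUnramified k (B ⧸ IB) := by
    let φ : B →ₐ[k] Γ(Z, UZ) := IsScalarTower.toAlgHom k B Γ(Z, UZ)
    have e := Ideal.quotientKerAlgEquivOfSurjective (f := φ) (I.subschemeι_app_surjective ⟨U, hU⟩)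
    exact Algebra.FormallyUnramified.of_equiv (((Ideal.quotientEquivAlgOfEq k (show IB = RingHom.ker φ from hker.symm)).trans e).symm)
  haveI : Algebra.FormallyUnramified k (A ⧸ IB.map (algebraMap B A)) := by
    let J := IB.map (algebraMap B A)
    letI : Algebra (B ⧸ IB) (A ⧸ J) :=
      (Ideal.quotientMap J (algebraMap B A) Ideal.le_comap_map).toAlgebra
    haveI : IsScalarTower B (B ⧸ IB) (A ⧸ J) := IsScalarTower.of_algebraMap_eq fun _ => rfl
    haveI : IsScalarTower k (B ⧸ IB) (A ⧸ J) := IsScalarTower.of_algebraMap_eq fun r => by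
      show Ideal.Quotient.mk J (algebraMap k A r) = Ideal.Quotient.mk J (algebraMap B A (algebraMap k B r))
      rw [IsScalarTower.algebraMap_apply k B A]
    haveI : Algebra.FormallyUnramified B (A ⧸ J) := Algebra.FormallyUnramified.comp B A _
    haveI : Algebra.FormallyUnramified (B ⧸ IB) (A ⧸ J) := Algebra.FormallyUnramified.of_restrictScalars B _ _
    exact Algebra.FormallyUnramified.comp k (B ⧸ IB) _
  obtain ⟨hmax, hsep⟩ := eq_maximal_of_unramified k A _ hne
  refine ⟨hsep, ?_⟩
  haveI := hsep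
  haveI := cm_of_isCIOver k A (hci z)
  obtain ⟨w, hw, hwz⟩ := Dim.exists_generization hequi z hz
  obtain ⟨P', hP'⟩ : w ∈ Set.range (X.fromSpecStalk z) := Scheme.range_fromSpecStalk.ge hw
  obtain ⟨r, hr, hr0⟩ := exists_nzd_of_cm A P'.asIdeal fun e => hwz (by
    rw [← hP', show P' = closedPoint A from PrimeSpectrum.ext e, Scheme.fromSpecStalk_closedPoint])
  exact FittCrit.isNodal_of_fitt k A (hIA.trans hmax) hr hr0

omit [QuasiSeparated (X ↘ Spec (CommRingCat.of k))] in
/-- Points of a nodal curve have complete intersection local rings. -/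
theorem ci_stalk (hequi : ∀ Z ∈ irreducibleComponents (X : Type u), topologicalKrullDim Z = 1)
    (hX : Curv2.AtWorstNodal k X) (x : X) : Pi1.IsCompleteIntersection (X.presheaf.stalk x) := by
  haveI : LocallyOfFinitePresentation (X ↘ Spec (CommRingCat.of k)) :=
    LocallyOfFinitePresentation.iff_locallyOfFiniteType.2 inferInstance
  haveI : IsLocallyNoetherian X := LocallyOfFiniteType.isLocallyNoetherian (X ↘ Spec (CommRingCat.of k))
  rcases AtWorst.smooth_or_node k X (AtWorst.dim_le_one X hequi) hX x with hsm | hnode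
  · haveI := Lib.JacCrit.OverField.isRegularLocalRing_stalk (X ↘ Spec (CommRingCat.of k)) x hsm
    exact H26.CIQuotient.isCompleteIntersection_of_regular _
  · obtain ⟨-, hsep, hN⟩ := (Sch.isNode_iff k X x).1 hnode
    haveI := hsep
    haveI : Algebra.FormallyEtale k (ResidueField (X.presheaf.stalk x)) := Algebra.FormallyEtale.of_isSeparable k _
    exact ci_of_isNodal k _ hN

end Groth.Agent.H25.Node.SingCrit
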